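import Cfsg.Agent.Lib.H64.TCHSB.Data
import Cfsg.Agent.Lib.H35.TCIdx
set_option autoImplicit false
set_option maxRecDepth 100000
set_option linter.all false
namespace H64.TCHSB
open H35.TC
/-- letters -/
inductive Lt | c | ci | a | ai | b | bi | t | ti | z | zi
  deriving DecidableEq
/-- inverse letter -/
def inv : Lt → Lt
  | .c => .ci
  | .ci => .c
  | .a => .ai
  | .ai => .a
  | .b => .bi
  | .bi => .b
  | .t => .ti
  | .ti => .t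
  | .z => .zi
  | .zi => .z
/-- table functions -/
noncomputable def T : Lt → ℕ → ℕ
  | .c => T_c
  | .ci => T_ci
  | .a => T_a
  | .ai => T_ai
  | .b => T_b
  | .bi => T_bi
  | .t => T_t
  | .ti => T_ti
  | .z => T_z
  | .zi => T_zi
/-- decoding of letter codes -/
def lt : ℕ → Lt
  | 0 => .c
  | 1 => .ci
  | 2 => .a
  | 3 => .ai
  | 4 => .b
  | 5 => .bi
  | 6 => .t
  | 7 => .ti
  | 8 => .z
  | _ => .zi
/-- Coxeter matrix (0: no relation) -/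
def mm : Lt → Lt → ℕ
  | _, _ => 0
/-- extra relators `w ^ n` -/
def extra : List (List Lt × ℕ) := [
  ([.z, .t, .zi, .ti], 1),
  ([.z, .b, .zi, .bi], 1),
  ([.z, .a, .zi, .ai], 1),
  ([.z, .c, .zi, .ci], 1),
  ([.z], 4),
  ([.b], 5),
  ([.c, .c, .ai, .bi, .a, .b], 1),
  ([.c, .a, .b, .c, .ai, .bi], 1),
  ([.c, .b, .ai, .c, .bi, .a], 1),
  ([.ci, .ci, .t, .ci, .ti, .c, .c, .t, .t], 1),
  ([.ti, .ci, .ti, .b, .t, .c, .t, .c, .b], 1),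
  ([.ti, .ci, .ti, .a, .t, .c, .t, .c, .a], 1),
  ([.b, .ti, .b, .ti, .b, .ti, .b, .ti, .zi], 1),
  ([.t, .c, .t, .b, .ti, .ci, .ti, .c, .b], 1),
  ([.t, .c, .t, .b, .ti, .ci, .ti, .b, .c], 1),
  ([.t, .c, .t, .a, .ti, .ci, .ti, .c, .a], 1),
  ([.ai, .t, .bi, .t, .t, .b, .ti, .a, .t], 1),
  ([.ti, .ti, .c, .ti, .ci, .t, .t, .c, .c], 1),
  ([.c, .ci], 1),
  ([.ci, .c], 1),
  ([.a, .ai], 1),
  ([.ai, .a], 1),
  ([.b, .bi], 1),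
  ([.bi, .b], 1),
  ([.t, .ti], 1),
  ([.ti, .t], 1),
  ([.z, .zi], 1),
  ([.zi, .z], 1)]
/-- relators -/
def rels : List (List Lt) := mkRels [] mm extra
/-- subgroup words -/
def subs : List (List Lt) := [
  [.c],
  [.a],
  [.b]]
noncomputable def dp_c_0 (j u : ℕ) : Bool :=
  Bool.rec (motive := fun _ => Bool) (lF [T_a, T_b, T_c, T_ai, T_bi] M (Nat.sub (T_c u) (Nat.mod (T_c u) M)) (Nat.mod (T_c u) M) u) (lF [T_b, T_ai, T_c, T_bi, T_a] M (Nat.sub (T_c u) (Nat.mod (T_c u) M)) (Nat.mod (T_c u) M) u) (Nat.ble (nat_lit 5) j)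
noncomputable def dp_c_1 (j u : ℕ) : Bool :=
  Bool.rec (motive := fun _ => Bool) (lF3 T_z T_ci T_zi M (Nat.sub (T_c u) (Nat.mod (T_c u) M)) (Nat.mod (T_c u) M) u) (lF [T_bi, T_a, T_c, T_b, T_ai] M (Nat.sub (T_c u) (Nat.mod (T_c u) M)) (Nat.mod (T_c u) M) u) (Nat.ble (nat_lit 7) j)
noncomputable def dp_c_2 (j u : ℕ) : Bool :=
  Bool.rec (motive := fun _ => Bool) (lF3 T_zi T_ci T_z M (Nat.sub (T_c u) (Nat.mod (T_c u) M)) (Nat.mod (T_c u) M) u) (lF [T_ai, T_bi, T_a, T_b, T_c] M (Nat.sub (T_c u) (Nat.mod (T_c u) M)) (Nat.mod (T_c u) M) u) (Nat.ble (nat_lit 9) j)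
noncomputable def dp_c_3 (j u : ℕ) : Bool :=
  Bool.rec (motive := fun _ => Bool) (lS MG [T_a, T_b, T_c, T_ai, T_bi] M (Nat.sub (T_c u) (Nat.mod (T_c u) M)) (nat_lit 40) (Nat.mod (T_c u) M) u) (lS MG [T_ai, T_bi, T_a, T_b, T_c] M (Nat.sub (T_c u) (Nat.mod (T_c u) M)) (nat_lit 40) (Nat.mod (T_c u) M) u) (Nat.ble (nat_lit 12) j)
noncomputable def dp_c_4 (j u : ℕ) : Bool :=
  Bool.rec (motive := fun _ => Bool) (lF [T_c, T_ai, T_bi, T_a, T_b] M (Nat.sub (T_c u) (Nat.mod (T_c u) M)) (Nat.mod (T_c u) M) u) (dp_c_3 j u) (Nat.ble (nat_lit 11) j)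
noncomputable def dp_c_5 (j u : ℕ) : Bool :=
  Bool.rec (motive := fun _ => Bool) (dp_c_2 j u) (dp_c_4 j u) (Nat.ble (nat_lit 10) j)
noncomputable def dp_c_6 (j u : ℕ) : Bool :=
  Bool.rec (motive := fun _ => Bool) (lS MG [T_b, T_ai, T_c, T_bi, T_a] M (Nat.sub (T_c u) (Nat.mod (T_c u) M)) (nat_lit 40) (Nat.mod (T_c u) M) u) (lF [T_ai, T_bi, T_c, T_a, T_b] M (Nat.sub (T_c u) (Nat.mod (T_c u) M)) (Nat.mod (T_c u) M) u) (Nat.ble (nat_lit 14) j)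
noncomputable def dp_c_7 (j u : ℕ) : Bool :=
  Bool.rec (motive := fun _ => Bool) (lS MG [T_ti, T_c, T_c, T_ti, T_ti, T_ci, T_ci, T_t] M (Nat.sub (T_c u) (Nat.mod (T_c u) M)) (nat_lit 40) (Nat.mod (T_c u) M) u) (lS MG [T_bi, T_a, T_c, T_b, T_ai] M (Nat.sub (T_c u) (Nat.mod (T_c u) M)) (nat_lit 40) (Nat.mod (T_c u) M) u) (Nat.ble (nat_lit 17) j)
noncomputable def dp_c_8 (j u : ℕ) : Bool :=
  Bool.rec (motive := fun _ => Bool) (lS MG [T_c, T_ai, T_bi, T_a, T_b] M (Nat.sub (T_c u) (Nat.mod (T_c u) M)) (nat_lit 40) (Nat.mod (T_c u) M) u) (dp_c_7 j u) (Nat.ble (nat_lit 16) j)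
noncomputable def dp_c_9 (j u : ℕ) : Bool :=
  Bool.rec (motive := fun _ => Bool) (dp_c_6 j u) (dp_c_8 j u) (Nat.ble (nat_lit 15) j)
noncomputable def dp_c_10 (j u : ℕ) : Bool :=
  Bool.rec (motive := fun _ => Bool) (lS MG [T_t, T_b, T_ti, T_ci, T_ti, T_c, T_b, T_t] M (Nat.sub (T_c u) (Nat.mod (T_c u) M)) (nat_lit 40) (Nat.mod (T_c u) M) u) (lF [T_t, T_bi, T_ci, T_ti, T_ci, T_ti, T_bi, T_t] M (Nat.sub (T_c u) (Nat.mod (T_c u) M)) (Nat.mod (T_c u) M) u) (Nat.ble (nat_lit 20) j)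
noncomputable def dp_c_11 (j u : ℕ) : Bool :=
  Bool.rec (motive := fun _ => Bool) (lS MG [T_zi, T_ci, T_z] M (Nat.sub (T_c u) (Nat.mod (T_c u) M)) (nat_lit 40) (Nat.mod (T_c u) M) u) (dp_c_10 j u) (Nat.ble (nat_lit 19) j)
noncomputable def dp_c_12 (j u : ℕ) : Bool :=
  Bool.rec (motive := fun _ => Bool) (lS MG [T_t, T_ai, T_ci, T_ti, T_ci, T_ti, T_ai, T_t] M (Nat.sub (T_c u) (Nat.mod (T_c u) M)) (nat_lit 40) (Nat.mod (T_c u) M) u) (lS MG [T_t, T_bi, T_ci, T_ti, T_ci, T_ti, T_bi, T_t] M (Nat.sub (T_c u) (Nat.mod (T_c u) M)) (nat_lit 40) (Nat.mod (T_c u) M) u) (Nat.ble (nat_lit 22) j)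
noncomputable def dp_c_13 (j u : ℕ) : Bool :=
  Bool.rec (motive := fun _ => Bool) (lF [T_t, T_ai, T_ci, T_ti, T_ci, T_ti, T_ai, T_t] M (Nat.sub (T_c u) (Nat.mod (T_c u) M)) (Nat.mod (T_c u) M) u) (lS MG [T_c, T_t, T_t, T_ci, T_ci, T_t, T_ci, T_ti] M (Nat.sub (T_c u) (Nat.mod (T_c u) M)) (nat_lit 40) (Nat.mod (T_c u) M) u) (Nat.ble (nat_lit 24) j)
noncomputable def dp_c_14 (j u : ℕ) : Bool :=
  Bool.rec (motive := fun _ => Bool) (dp_c_12 j u) (dp_c_13 j u) (Nat.ble (nat_lit 23) j)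
noncomputable def dp_c_15 (j u : ℕ) : Bool :=
  Bool.rec (motive := fun _ => Bool) (dp_c_11 j u) (dp_c_14 j u) (Nat.ble (nat_lit 21) j)
noncomputable def dp_c_16 (j u : ℕ) : Bool :=
  Bool.rec (motive := fun _ => Bool) (dp_c_9 j u) (dp_c_15 j u) (Nat.ble (nat_lit 18) j)
noncomputable def dp_c_17 (j u : ℕ) : Bool :=
  Bool.rec (motive := fun _ => Bool) (lS MG [T_b, T_t, T_c, T_t, T_b, T_ti, T_ci, T_ti] M (Nat.sub (T_c u) (Nat.mod (T_c u) M)) (nat_lit 40) (Nat.mod (T_c u) M) u) (lS MG [T_ti, T_ci, T_t, T_t, T_c, T_c, T_ti, T_ti] M (Nat.sub (T_c u) (Nat.mod (T_c u) M)) (nat_lit 40) (Nat.mod (T_c u) M) u) (Nat.ble (nat_lit 26) j)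
noncomputable def dp_c_18 (j u : ℕ) : Bool :=
  Bool.rec (motive := fun _ => Bool) (lS MG [T_ti, T_ti, T_ci, T_ci, T_t, T_c, T_ti, T_c] M (Nat.sub (T_c u) (Nat.mod (T_c u) M)) (nat_lit 40) (Nat.mod (T_c u) M) u) (lS MG [T_c, T_ti, T_ti, T_ci, T_ci, T_t, T_c, T_ti] M (Nat.sub (T_c u) (Nat.mod (T_c u) M)) (nat_lit 40) (Nat.mod (T_c u) M) u) (Nat.ble (nat_lit 29) j)
noncomputable def dp_c_19 (j u : ℕ) : Bool :=
  Bool.rec (motive := fun _ => Bool) (lS MG [T_t, T_bi, T_ti, T_ci, T_ti, T_ci, T_bi, T_t] M (Nat.sub (T_c u) (Nat.mod (T_c u) M)) (nat_lit 40) (Nat.mod (T_c u) M) u) (dp_c_18 j u) (Nat.ble (nat_lit 28) j)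
noncomputable def dp_c_20 (j u : ℕ) : Bool :=
  Bool.rec (motive := fun _ => Bool) (dp_c_17 j u) (dp_c_19 j u) (Nat.ble (nat_lit 27) j)
noncomputable def dp_c_21 (j u : ℕ) : Bool :=
  Bool.rec (motive := fun _ => Bool) (lF [T_t, T_b, T_ti, T_ci, T_ti, T_b, T_c, T_t] M (Nat.sub (T_c u) (Nat.mod (T_c u) M)) (Nat.mod (T_c u) M) u) (lS MG [T_z, T_ci, T_zi] M (Nat.sub (T_c u) (Nat.mod (T_c u) M)) (nat_lit 40) (Nat.mod (T_c u) M) u) (Nat.ble (nat_lit 32) j)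
noncomputable def dp_c_22 (j u : ℕ) : Bool :=
  Bool.rec (motive := fun _ => Bool) (lF [T_ti, T_ci, T_t, T_t, T_c, T_c, T_ti, T_ti] M (Nat.sub (T_c u) (Nat.mod (T_c u) M)) (Nat.mod (T_c u) M) u) (dp_c_21 j u) (Nat.ble (nat_lit 31) j)
noncomputable def dp_c_23 (j u : ℕ) : Bool :=
  Bool.rec (motive := fun _ => Bool) (lS MG [T_t, T_a, T_ti, T_ci, T_ti, T_c, T_a, T_t] M (Nat.sub (T_c u) (Nat.mod (T_c u) M)) (nat_lit 40) (Nat.mod (T_c u) M) u) (lF [T_t, T_ci, T_t, T_t, T_ci, T_ci, T_ti, T_ti] M (Nat.sub (T_c u) (Nat.mod (T_c u) M)) (Nat.mod (T_c u) M) u) (Nat.ble (nat_lit 34) j)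
noncomputable def dp_c_24 (j u : ℕ) : Bool :=
  Bool.rec (motive := fun _ => Bool) (lF [T_t, T_bi, T_ti, T_ci, T_ti, T_bi, T_ci, T_t] M (Nat.sub (T_c u) (Nat.mod (T_c u) M)) (Nat.mod (T_c u) M) u) (lF [T_t, T_c, T_a, T_ti, T_ci, T_ti, T_a, T_t] M (Nat.sub (T_c u) (Nat.mod (T_c u) M)) (Nat.mod (T_c u) M) u) (Nat.ble (nat_lit 36) j)
noncomputable def dp_c_25 (j u : ℕ) : Bool :=
  Bool.rec (motive := fun _ => Bool) (dp_c_23 j u) (dp_c_24 j u) (Nat.ble (nat_lit 35) j)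
noncomputable def dp_c_26 (j u : ℕ) : Bool :=
  Bool.rec (motive := fun _ => Bool) (dp_c_22 j u) (dp_c_25 j u) (Nat.ble (nat_lit 33) j)
noncomputable def dp_c_27 (j u : ℕ) : Bool :=
  Bool.rec (motive := fun _ => Bool) (dp_c_20 j u) (dp_c_26 j u) (Nat.ble (nat_lit 30) j)
noncomputable def dp_c_28 (j u : ℕ) : Bool :=
  Bool.rec (motive := fun _ => Bool) (lF [T_t, T_ai, T_ti, T_ci, T_ti, T_ai, T_ci, T_t] M (Nat.sub (T_c u) (Nat.mod (T_c u) M)) (Nat.mod (T_c u) M) u) (lF [T_t, T_c, T_b, T_ti, T_ci, T_ti, T_b, T_t] M (Nat.sub (T_c u) (Nat.mod (T_c u) M)) (Nat.mod (T_c u) M) u) (Nat.ble (nat_lit 38) j)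
noncomputable def dp_c_29 (j u : ℕ) : Bool :=
  Bool.rec (motive := fun _ => Bool) (lS MG [T_t, T_c, T_b, T_ti, T_ci, T_ti, T_b, T_t] M (Nat.sub (T_c u) (Nat.mod (T_c u) M)) (nat_lit 40) (Nat.mod (T_c u) M) u) (lF [T_c, T_ti, T_ti, T_ci, T_ci, T_t, T_c, T_ti] M (Nat.sub (T_c u) (Nat.mod (T_c u) M)) (Nat.mod (T_c u) M) u) (Nat.ble (nat_lit 40) j)
noncomputable def dp_c_30 (j u : ℕ) : Bool :=
  Bool.rec (motive := fun _ => Bool) (dp_c_28 j u) (dp_c_29 j u) (Nat.ble (nat_lit 39) j)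
noncomputable def dp_c_31 (j u : ℕ) : Bool :=
  Bool.rec (motive := fun _ => Bool) (lS MG [T_t, T_ai, T_ti, T_ci, T_ti, T_ai, T_ci, T_t] M (Nat.sub (T_c u) (Nat.mod (T_c u) M)) (nat_lit 40) (Nat.mod (T_c u) M) u) (lS MG [T_t, T_bi, T_ti, T_ci, T_ti, T_bi, T_ci, T_t] M (Nat.sub (T_c u) (Nat.mod (T_c u) M)) (nat_lit 40) (Nat.mod (T_c u) M) u) (Nat.ble (nat_lit 42) j)
noncomputable def dp_c_32 (j u : ℕ) : Bool :=
  Bool.rec (motive := fun _ => Bool) (lS MG [T_c, T_ti, T_ti, T_c, T_ti, T_ci, T_t, T_t] M (Nat.sub (T_c u) (Nat.mod (T_c u) M)) (nat_lit 40) (Nat.mod (T_c u) M) u) (lS MG [T_t, T_c, T_t, T_b, T_ti, T_ci, T_ti, T_b] M (Nat.sub (T_c u) (Nat.mod (T_c u) M)) (nat_lit 40) (Nat.mod (T_c u) M) u) (Nat.ble (nat_lit 45) j)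
noncomputable def dp_c_33 (j u : ℕ) : Bool :=
  Bool.rec (motive := fun _ => Bool) (lS MG [T_t, T_t, T_ci, T_ci, T_t, T_ci, T_ti, T_c] M (Nat.sub (T_c u) (Nat.mod (T_c u) M)) (nat_lit 40) (Nat.mod (T_c u) M) u) (dp_c_32 j u) (Nat.ble (nat_lit 44) j)
noncomputable def dp_c_34 (j u : ℕ) : Bool :=
  Bool.rec (motive := fun _ => Bool) (dp_c_31 j u) (dp_c_33 j u) (Nat.ble (nat_lit 43) j)
noncomputable def dp_c_35 (j u : ℕ) : Bool :=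
  Bool.rec (motive := fun _ => Bool) (dp_c_30 j u) (dp_c_34 j u) (Nat.ble (nat_lit 41) j)
noncomputable def dp_c_36 (j u : ℕ) : Bool :=
  Bool.rec (motive := fun _ => Bool) (lF [T_ti, T_ti, T_c, T_ti, T_ci, T_t, T_t, T_c] M (Nat.sub (T_c u) (Nat.mod (T_c u) M)) (Nat.mod (T_c u) M) u) (lF [T_ti, T_ti, T_ci, T_ci, T_t, T_c, T_ti, T_c] M (Nat.sub (T_c u) (Nat.mod (T_c u) M)) (Nat.mod (T_c u) M) u) (Nat.ble (nat_lit 48) j)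
noncomputable def dp_c_37 (j u : ℕ) : Bool :=
  Bool.rec (motive := fun _ => Bool) (lF [T_ti, T_c, T_c, T_ti, T_ti, T_ci, T_ci, T_t] M (Nat.sub (T_c u) (Nat.mod (T_c u) M)) (Nat.mod (T_c u) M) u) (dp_c_36 j u) (Nat.ble (nat_lit 47) j)
noncomputable def dp_c_38 (j u : ℕ) : Bool :=
  Bool.rec (motive := fun _ => Bool) (lH [] [] M (Nat.sub (T_c u) (Nat.mod (T_c u) M)) (Nat.mod (T_c u) M) u) (lF [T_a, T_ti, T_ci, T_ti, T_a, T_t, T_c, T_t] M (Nat.sub (T_c u) (Nat.mod (T_c u) M)) (Nat.mod (T_c u) M) u) (Nat.ble (nat_lit 50) j)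
noncomputable def dp_c_39 (j u : ℕ) : Bool :=
  Bool.rec (motive := fun _ => Bool) (lF [T_a, T_t, T_c, T_t, T_a, T_ti, T_ci, T_ti] M (Nat.sub (T_c u) (Nat.mod (T_c u) M)) (Nat.mod (T_c u) M) u) (lF [T_b, T_ti, T_ci, T_ti, T_b, T_t, T_c, T_t] M (Nat.sub (T_c u) (Nat.mod (T_c u) M)) (Nat.mod (T_c u) M) u) (Nat.ble (nat_lit 53) j)
noncomputable def dp_c_40 (j u : ℕ) : Bool :=
  Bool.rec (motive := fun _ => Bool) (lS MG [T_b, T_ti, T_ci, T_ti, T_b, T_t, T_c, T_t] M (Nat.sub (T_c u) (Nat.mod (T_c u) M)) (nat_lit 40) (Nat.mod (T_c u) M) u) (dp_c_39 j u) (Nat.ble (nat_lit 52) j)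
noncomputable def dp_c_41 (j u : ℕ) : Bool :=
  Bool.rec (motive := fun _ => Bool) (dp_c_38 j u) (dp_c_40 j u) (Nat.ble (nat_lit 51) j)
noncomputable def dp_c_42 (j u : ℕ) : Bool :=
  Bool.rec (motive := fun _ => Bool) (dp_c_37 j u) (dp_c_41 j u) (Nat.ble (nat_lit 49) j)
noncomputable def dp_c_43 (j u : ℕ) : Bool :=
  Bool.rec (motive := fun _ => Bool) (lF [T_b, T_t, T_c, T_t, T_b, T_ti, T_ci, T_ti] M (Nat.sub (T_c u) (Nat.mod (T_c u) M)) (Nat.mod (T_c u) M) u) (lF [T_t, T_t, T_ci, T_ci, T_t, T_ci, T_ti, T_c] M (Nat.sub (T_c u) (Nat.mod (T_c u) M)) (Nat.mod (T_c u) M) u) (Nat.ble (nat_lit 55) j)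
noncomputable def dp_c_44 (j u : ℕ) : Bool :=
  Bool.rec (motive := fun _ => Bool) (lS MG [T_a, T_ti, T_ci, T_ti, T_a, T_t, T_c, T_t] M (Nat.sub (T_c u) (Nat.mod (T_c u) M)) (nat_lit 40) (Nat.mod (T_c u) M) u) (lS MG [T_a, T_t, T_c, T_t, T_a, T_ti, T_ci, T_ti] M (Nat.sub (T_c u) (Nat.mod (T_c u) M)) (nat_lit 40) (Nat.mod (T_c u) M) u) (Nat.ble (nat_lit 58) j)
noncomputable def dp_c_45 (j u : ℕ) : Bool :=
  Bool.rec (motive := fun _ => Bool) (lF [T_t, T_c, T_t, T_b, T_ti, T_ci, T_ti, T_b] M (Nat.sub (T_c u) (Nat.mod (T_c u) M)) (Nat.mod (T_c u) M) u) (dp_c_44 j u) (Nat.ble (nat_lit 57) j)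
noncomputable def dp_c_46 (j u : ℕ) : Bool :=
  Bool.rec (motive := fun _ => Bool) (dp_c_43 j u) (dp_c_45 j u) (Nat.ble (nat_lit 56) j)
noncomputable def dp_c_47 (j u : ℕ) : Bool :=
  Bool.rec (motive := fun _ => Bool) (lF [T_t, T_b, T_ti, T_ci, T_ti, T_c, T_b, T_t] M (Nat.sub (T_c u) (Nat.mod (T_c u) M)) (Nat.mod (T_c u) M) u) (lF [T_c, T_t, T_t, T_ci, T_ci, T_t, T_ci, T_ti] M (Nat.sub (T_c u) (Nat.mod (T_c u) M)) (Nat.mod (T_c u) M) u) (Nat.ble (nat_lit 61) j)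
noncomputable def dp_c_48 (j u : ℕ) : Bool :=
  Bool.rec (motive := fun _ => Bool) (lS MG [T_t, T_c, T_a, T_ti, T_ci, T_ti, T_a, T_t] M (Nat.sub (T_c u) (Nat.mod (T_c u) M)) (nat_lit 40) (Nat.mod (T_c u) M) u) (dp_c_47 j u) (Nat.ble (nat_lit 60) j)
noncomputable def dp_c_49 (j u : ℕ) : Bool :=
  Bool.rec (motive := fun _ => Bool) (lS MG [T_ti, T_ti, T_c, T_ti, T_ci, T_t, T_t, T_c] M (Nat.sub (T_c u) (Nat.mod (T_c u) M)) (nat_lit 40) (Nat.mod (T_c u) M) u) (lS MG [T_t, T_ci, T_t, T_t, T_ci, T_ci, T_ti, T_ti] M (Nat.sub (T_c u) (Nat.mod (T_c u) M)) (nat_lit 40) (Nat.mod (T_c u) M) u) (Nat.ble (nat_lit 64) j)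
noncomputable def dp_c_50 (j u : ℕ) : Bool :=
  Bool.rec (motive := fun _ => Bool) (lS MG [T_t, T_b, T_ti, T_ci, T_ti, T_b, T_c, T_t] M (Nat.sub (T_c u) (Nat.mod (T_c u) M)) (nat_lit 40) (Nat.mod (T_c u) M) u) (dp_c_49 j u) (Nat.ble (nat_lit 63) j)
noncomputable def dp_c_51 (j u : ℕ) : Bool :=
  Bool.rec (motive := fun _ => Bool) (dp_c_48 j u) (dp_c_50 j u) (Nat.ble (nat_lit 62) j)
noncomputable def dp_c_52 (j u : ℕ) : Bool :=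
  Bool.rec (motive := fun _ => Bool) (dp_c_46 j u) (dp_c_51 j u) (Nat.ble (nat_lit 59) j)
noncomputable def dp_c_53 (j u : ℕ) : Bool :=
  Bool.rec (motive := fun _ => Bool) (dp_c_42 j u) (dp_c_52 j u) (Nat.ble (nat_lit 54) j)
noncomputable def dp_c_54 (j u : ℕ) : Bool :=
  Bool.rec (motive := fun _ => Bool) (dp_c_35 j u) (dp_c_53 j u) (Nat.ble (nat_lit 46) j)
noncomputable def dp_c_55 (j u : ℕ) : Bool :=
  Bool.rec (motive := fun _ => Bool) (dp_c_27 j u) (dp_c_54 j u) (Nat.ble (nat_lit 37) j)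
noncomputable def dp_c_56 (j u : ℕ) : Bool :=
  Bool.rec (motive := fun _ => Bool) (dp_c_16 j u) (dp_c_55 j u) (Nat.ble (nat_lit 25) j)
noncomputable def dp_c_57 (j u : ℕ) : Bool :=
  Bool.rec (motive := fun _ => Bool) (Bool.rec (motive := fun _ => Bool) (dp_c_1 j u) (dp_c_5 j u) (Nat.ble (nat_lit 8) j)) (dp_c_56 j u) (Nat.ble (nat_lit 13) j)
noncomputable def disp_c (j u : ℕ) : Bool :=
  Bool.rec (motive := fun _ => Bool) (Bool.rec (motive := fun _ => Bool) (lF1 T_ci M (Nat.sub (T_c u) (Nat.mod (T_c u) M)) (Nat.mod (T_c u) M) u) (lDef P (nat_lit 1) u (Nat.mod (T_c u) M)) (Nat.ble (nat_lit 1) j)) (Bool.rec (motive := fun _ => Bool) (Bool.rec (motive := fun _ => Bool) (lDef P (nat_lit 0) (Nat.mod (T_c u) M) u) (Bool.rec (motive := fun _ => Bool) (lS MG [T_ci] M (Nat.sub (T_c u) (Nat.mod (T_c u) M)) (nat_lit 40) (Nat.mod (T_c u) M) u)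 (dp_c_0 j u) (Nat.ble (nat_lit 4) j)) (Nat.ble (nat_lit 3) j)) (dp_c_57 j u) (Nat.ble (nat_lit 6) j)) (Nat.ble (nat_lit 2) j)
noncomputable def chk_c (j u : ℕ) : Bool :=
  Bool.rec (motive := fun _ => Bool) (disp_c j u) (Nat.ble (Nat.succ (MG u)) A) (Nat.ble A (T_c u))
noncomputable def dp_ci_0 (j u : ℕ) : Bool :=
  Bool.rec (motive := fun _ => Bool) (lF [T_b, T_a, T_ci, T_bi, T_ai] M (Nat.sub (T_ci u) (Nat.mod (T_ci u) M)) (Nat.mod (T_ci u) M) u) (lF3 T_zi T_c T_z M (Nat.sub (T_ci u) (Nat.mod (T_ci u) M)) (Nat.mod (T_ci u) M) u) (Nat.ble (nat_lit 5) j)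
noncomputable def dp_ci_1 (j u : ℕ) : Bool :=
  Bool.rec (motive := fun _ => Bool) (lF [T_ai, T_b, T_ci, T_a, T_bi] M (Nat.sub (T_ci u) (Nat.mod (T_ci u) M)) (Nat.mod (T_ci u) M) u) (lF [T_a, T_bi, T_ci, T_ai, T_b] M (Nat.sub (T_ci u) (Nat.mod (T_ci u) M)) (Nat.mod (T_ci u) M) u) (Nat.ble (nat_lit 7) j)
noncomputable def dp_ci_2 (j u : ℕ) : Bool :=
  Bool.rec (motive := fun _ => Bool) (lF [T_bi, T_ai, T_b, T_a, T_ci] M (Nat.sub (T_ci u) (Nat.mod (T_ci u) M)) (Nat.mod (T_ci u) M) u) (lF [T_ci, T_bi, T_ai, T_b, T_a] M (Nat.sub (T_ci u) (Nat.mod (T_ci u) M)) (Nat.mod (T_ci u) M) u) (Nat.ble (nat_lit 10) j)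
noncomputable def dp_ci_3 (j u : ℕ) : Bool :=
  Bool.rec (motive := fun _ => Bool) (lF3 T_z T_c T_zi M (Nat.sub (T_ci u) (Nat.mod (T_ci u) M)) (Nat.mod (T_ci u) M) u) (dp_ci_2 j u) (Nat.ble (nat_lit 9) j)
noncomputable def dp_ci_4 (j u : ℕ) : Bool :=
  Bool.rec (motive := fun _ => Bool) (lS MG [T_b, T_a, T_ci, T_bi, T_ai] M (Nat.sub (T_ci u) (Nat.mod (T_ci u) M)) (nat_lit 40) (Nat.mod (T_ci u) M) u) (lS MG [T_ai, T_b, T_ci, T_a, T_bi] M (Nat.sub (T_ci u) (Nat.mod (T_ci u) M)) (nat_lit 40) (Nat.mod (T_ci u) M) u) (Nat.ble (nat_lit 12) j)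
noncomputable def dp_ci_5 (j u : ℕ) : Bool :=
  Bool.rec (motive := fun _ => Bool) (lS MG [T_a, T_bi, T_ci, T_ai, T_b] M (Nat.sub (T_ci u) (Nat.mod (T_ci u) M)) (nat_lit 40) (Nat.mod (T_ci u) M) u) (lF [T_bi, T_ai, T_ci, T_b, T_a] M (Nat.sub (T_ci u) (Nat.mod (T_ci u) M)) (Nat.mod (T_ci u) M) u) (Nat.ble (nat_lit 14) j)
noncomputable def dp_ci_6 (j u : ℕ) : Bool :=
  Bool.rec (motive := fun _ => Bool) (dp_ci_4 j u) (dp_ci_5 j u) (Nat.ble (nat_lit 13) j)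
noncomputable def dp_ci_7 (j u : ℕ) : Bool :=
  Bool.rec (motive := fun _ => Bool) (dp_ci_3 j u) (dp_ci_6 j u) (Nat.ble (nat_lit 11) j)
noncomputable def dp_ci_8 (j u : ℕ) : Bool :=
  Bool.rec (motive := fun _ => Bool) (lS MG [T_bi, T_ai, T_b, T_a, T_ci] M (Nat.sub (T_ci u) (Nat.mod (T_ci u) M)) (nat_lit 40) (Nat.mod (T_ci u) M) u) (lS MG [T_bi, T_ai, T_ci, T_b, T_a] M (Nat.sub (T_ci u) (Nat.mod (T_ci u) M)) (nat_lit 40) (Nat.mod (T_ci u) M) u) (Nat.ble (nat_lit 16) j)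
noncomputable def dp_ci_9 (j u : ℕ) : Bool :=
  Bool.rec (motive := fun _ => Bool) (lS MG [T_ti, T_b, T_t, T_c, T_t, T_c, T_b, T_ti] M (Nat.sub (T_ci u) (Nat.mod (T_ci u) M)) (nat_lit 40) (Nat.mod (T_ci u) M) u) (lS MG [T_ci, T_bi, T_ai, T_b, T_a] M (Nat.sub (T_ci u) (Nat.mod (T_ci u) M)) (nat_lit 40) (Nat.mod (T_ci u) M) u) (Nat.ble (nat_lit 19) j)
noncomputable def dp_ci_10 (j u : ℕ) : Bool :=
  Bool.rec (motive := fun _ => Bool) (lF [T_ti, T_bi, T_ci, T_t, T_c, T_t, T_bi, T_ti] M (Nat.sub (T_ci u) (Nat.mod (T_ci u) M)) (Nat.mod (T_ci u) M) u) (dp_ci_9 j u) (Nat.ble (nat_lit 18) j)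
noncomputable def dp_ci_11 (j u : ℕ) : Bool :=
  Bool.rec (motive := fun _ => Bool) (dp_ci_8 j u) (dp_ci_10 j u) (Nat.ble (nat_lit 17) j)
noncomputable def dp_ci_12 (j u : ℕ) : Bool :=
  Bool.rec (motive := fun _ => Bool) (lS MG [T_ti, T_a, T_t, T_c, T_t, T_c, T_a, T_ti] M (Nat.sub (T_ci u) (Nat.mod (T_ci u) M)) (nat_lit 40) (Nat.mod (T_ci u) M) u) (lS MG [T_ti, T_bi, T_ci, T_t, T_c, T_t, T_bi, T_ti] M (Nat.sub (T_ci u) (Nat.mod (T_ci u) M)) (nat_lit 40) (Nat.mod (T_ci u) M) u) (Nat.ble (nat_lit 22) j)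
noncomputable def dp_ci_13 (j u : ℕ) : Bool :=
  Bool.rec (motive := fun _ => Bool) (lF [T_ti, T_b, T_t, T_c, T_t, T_c, T_b, T_ti] M (Nat.sub (T_ci u) (Nat.mod (T_ci u) M)) (Nat.mod (T_ci u) M) u) (dp_ci_12 j u) (Nat.ble (nat_lit 21) j)
noncomputable def dp_ci_14 (j u : ℕ) : Bool :=
  Bool.rec (motive := fun _ => Bool) (lS MG [T_ti, T_c, T_c, T_t, T_t, T_ci, T_ci, T_t] M (Nat.sub (T_ci u) (Nat.mod (T_ci u) M)) (nat_lit 40) (Nat.mod (T_ci u) M) u) (lF [T_ti, T_bi, T_t, T_c, T_t, T_bi, T_ci, T_ti] M (Nat.sub (T_ci u) (Nat.mod (T_ci u) M)) (Nat.mod (T_ci u) M) u) (Nat.ble (nat_lit 25) j)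
noncomputable def dp_ci_15 (j u : ℕ) : Bool :=
  Bool.rec (motive := fun _ => Bool) (lS MG [T_ti, T_ai, T_t, T_c, T_t, T_ai, T_ci, T_ti] M (Nat.sub (T_ci u) (Nat.mod (T_ci u) M)) (nat_lit 40) (Nat.mod (T_ci u) M) u) (dp_ci_14 j u) (Nat.ble (nat_lit 24) j)
noncomputable def dp_ci_16 (j u : ℕ) : Bool :=
  Bool.rec (motive := fun _ => Bool) (dp_ci_13 j u) (dp_ci_15 j u) (Nat.ble (nat_lit 23) j)
noncomputable def dp_ci_17 (j u : ℕ) : Bool :=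
  Bool.rec (motive := fun _ => Bool) (dp_ci_11 j u) (dp_ci_16 j u) (Nat.ble (nat_lit 20) j)
noncomputable def dp_ci_18 (j u : ℕ) : Bool :=
  Bool.rec (motive := fun _ => Bool) (lS MG [T_t, T_t, T_c, T_c, T_ti, T_ti, T_c, T_ti] M (Nat.sub (T_ci u) (Nat.mod (T_ci u) M)) (nat_lit 40) (Nat.mod (T_ci u) M) u) (lF [T_ti, T_a, T_t, T_c, T_t, T_c, T_a, T_ti] M (Nat.sub (T_ci u) (Nat.mod (T_ci u) M)) (Nat.mod (T_ci u) M) u) (Nat.ble (nat_lit 27) j)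
noncomputable def dp_ci_19 (j u : ℕ) : Bool :=
  Bool.rec (motive := fun _ => Bool) (lF [T_t, T_c, T_t, T_bi, T_ti, T_ci, T_ti, T_bi] M (Nat.sub (T_ci u) (Nat.mod (T_ci u) M)) (Nat.mod (T_ci u) M) u) (lS MG [T_ci, T_t, T_ci, T_ti, T_c, T_c, T_t, T_t] M (Nat.sub (T_ci u) (Nat.mod (T_ci u) M)) (nat_lit 40) (Nat.mod (T_ci u) M) u) (Nat.ble (nat_lit 30) j)
noncomputable def dp_ci_20 (j u : ℕ) : Bool :=
  Bool.rec (motive := fun _ => Bool) (lS MG [T_ti, T_bi, T_t, T_c, T_t, T_bi, T_ci, T_ti] M (Nat.sub (T_ci u) (Nat.mod (T_ci u) M)) (nat_lit 40) (Nat.mod (T_ci u) M) u) (dp_ci_19 j u) (Nat.ble (nat_lit 29) j)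
noncomputable def dp_ci_21 (j u : ℕ) : Bool :=
  Bool.rec (motive := fun _ => Bool) (dp_ci_18 j u) (dp_ci_20 j u) (Nat.ble (nat_lit 28) j)
noncomputable def dp_ci_22 (j u : ℕ) : Bool :=
  Bool.rec (motive := fun _ => Bool) (lF [T_t, T_ci, T_ti, T_c, T_c, T_t, T_t, T_ci] M (Nat.sub (T_ci u) (Nat.mod (T_ci u) M)) (Nat.mod (T_ci u) M) u) (lS MG [T_ti, T_ci, T_bi, T_t, T_c, T_t, T_bi, T_ti] M (Nat.sub (T_ci u) (Nat.mod (T_ci u) M)) (nat_lit 40) (Nat.mod (T_ci u) M) u) (Nat.ble (nat_lit 33) j)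
noncomputable def dp_ci_23 (j u : ℕ) : Bool :=
  Bool.rec (motive := fun _ => Bool) (lS MG [T_t, T_t, T_ci, T_ci, T_ti, T_ti, T_c, T_t] M (Nat.sub (T_ci u) (Nat.mod (T_ci u) M)) (nat_lit 40) (Nat.mod (T_ci u) M) u) (dp_ci_22 j u) (Nat.ble (nat_lit 32) j)
noncomputable def dp_ci_24 (j u : ℕ) : Bool :=
  Bool.rec (motive := fun _ => Bool) (lF [T_ti, T_ai, T_ci, T_t, T_c, T_t, T_ai, T_ti] M (Nat.sub (T_ci u) (Nat.mod (T_ci u) M)) (Nat.mod (T_ci u) M) u) (lS MG [T_ci, T_ti, T_ti, T_c, T_t, T_ci, T_t, T_t] M (Nat.sub (T_ci u) (Nat.mod (T_ci u) M)) (nat_lit 40) (Nat.mod (T_ci u) M) u) (Nat.ble (nat_lit 36) j)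
noncomputable def dp_ci_25 (j u : ℕ) : Bool :=
  Bool.rec (motive := fun _ => Bool) (lS MG [T_z, T_c, T_zi] M (Nat.sub (T_ci u) (Nat.mod (T_ci u) M)) (nat_lit 40) (Nat.mod (T_ci u) M) u) (dp_ci_24 j u) (Nat.ble (nat_lit 35) j)
noncomputable def dp_ci_26 (j u : ℕ) : Bool :=
  Bool.rec (motive := fun _ => Bool) (dp_ci_23 j u) (dp_ci_25 j u) (Nat.ble (nat_lit 34) j)
noncomputable def dp_ci_27 (j u : ℕ) : Bool :=
  Bool.rec (motive := fun _ => Bool) (dp_ci_21 j u) (dp_ci_26 j u) (Nat.ble (nat_lit 31) j)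
noncomputable def dp_ci_28 (j u : ℕ) : Bool :=
  Bool.rec (motive := fun _ => Bool) (lF [T_t, T_t, T_c, T_c, T_ti, T_ti, T_c, T_ti] M (Nat.sub (T_ci u) (Nat.mod (T_ci u) M)) (Nat.mod (T_ci u) M) u) (lF [T_ti, T_c, T_b, T_t, T_c, T_t, T_b, T_ti] M (Nat.sub (T_ci u) (Nat.mod (T_ci u) M)) (Nat.mod (T_ci u) M) u) (Nat.ble (nat_lit 38) j)
noncomputable def dp_ci_29 (j u : ℕ) : Bool :=
  Bool.rec (motive := fun _ => Bool) (lF [T_t, T_c, T_ti, T_c, T_c, T_ti, T_ti, T_ci] M (Nat.sub (T_ci u) (Nat.mod (T_ci u) M)) (Nat.mod (T_ci u) M) u) (lS MG [T_ti, T_ai, T_ci, T_t, T_c, T_t, T_ai, T_ti] M (Nat.sub (T_ci u) (Nat.mod (T_ci u) M)) (nat_lit 40) (Nat.mod (T_ci u) M) u) (Nat.ble (nat_lit 40) j)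
noncomputable def dp_ci_30 (j u : ℕ) : Bool :=
  Bool.rec (motive := fun _ => Bool) (dp_ci_28 j u) (dp_ci_29 j u) (Nat.ble (nat_lit 39) j)
noncomputable def dp_ci_31 (j u : ℕ) : Bool :=
  Bool.rec (motive := fun _ => Bool) (lS MG [T_t, T_c, T_t, T_ai, T_ti, T_ci, T_ti, T_ai] M (Nat.sub (T_ci u) (Nat.mod (T_ci u) M)) (nat_lit 40) (Nat.mod (T_ci u) M) u) (lF [T_ti, T_ai, T_t, T_c, T_t, T_ai, T_ci, T_ti] M (Nat.sub (T_ci u) (Nat.mod (T_ci u) M)) (Nat.mod (T_ci u) M) u) (Nat.ble (nat_lit 42) j)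
noncomputable def dp_ci_32 (j u : ℕ) : Bool :=
  Bool.rec (motive := fun _ => Bool) (lS MG [T_t, T_ci, T_ti, T_c, T_c, T_t, T_t, T_ci] M (Nat.sub (T_ci u) (Nat.mod (T_ci u) M)) (nat_lit 40) (Nat.mod (T_ci u) M) u) (lF [T_t, T_t, T_ci, T_ci, T_ti, T_ti, T_c, T_t] M (Nat.sub (T_ci u) (Nat.mod (T_ci u) M)) (Nat.mod (T_ci u) M) u) (Nat.ble (nat_lit 45) j)
noncomputable def dp_ci_33 (j u : ℕ) : Bool :=
  Bool.rec (motive := fun _ => Bool) (lS MG [T_ti, T_c, T_a, T_t, T_c, T_t, T_a, T_ti] M (Nat.sub (T_ci u) (Nat.mod (T_ci u) M)) (nat_lit 40) (Nat.mod (T_ci u) M) u) (dp_ci_32 j u) (Nat.ble (nat_lit 44) j)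
noncomputable def dp_ci_34 (j u : ℕ) : Bool :=
  Bool.rec (motive := fun _ => Bool) (dp_ci_31 j u) (dp_ci_33 j u) (Nat.ble (nat_lit 43) j)
noncomputable def dp_ci_35 (j u : ℕ) : Bool :=
  Bool.rec (motive := fun _ => Bool) (dp_ci_30 j u) (dp_ci_34 j u) (Nat.ble (nat_lit 41) j)
noncomputable def dp_ci_36 (j u : ℕ) : Bool :=
  Bool.rec (motive := fun _ => Bool) (lS MG [T_ti, T_b, T_c, T_t, T_c, T_t, T_b, T_ti] M (Nat.sub (T_ci u) (Nat.mod (T_ci u) M)) (nat_lit 40) (Nat.mod (T_ci u) M) u) (lF [T_ti, T_c, T_c, T_t, T_t, T_ci, T_ci, T_t] M (Nat.sub (T_ci u) (Nat.mod (T_ci u) M)) (Nat.mod (T_ci u) M) u) (Nat.ble (nat_lit 47) j)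
noncomputable def dp_ci_37 (j u : ℕ) : Bool :=
  Bool.rec (motive := fun _ => Bool) (lF [T_ci, T_t, T_ci, T_ti, T_c, T_c, T_t, T_t] M (Nat.sub (T_ci u) (Nat.mod (T_ci u) M)) (Nat.mod (T_ci u) M) u) (lF [T_ti, T_ci, T_ti, T_ai, T_t, T_c, T_t, T_ai] M (Nat.sub (T_ci u) (Nat.mod (T_ci u) M)) (Nat.mod (T_ci u) M) u) (Nat.ble (nat_lit 49) j)
noncomputable def dp_ci_38 (j u : ℕ) : Bool :=
  Bool.rec (motive := fun _ => Bool) (lS MG [T_ti, T_ti, T_c, T_t, T_ci, T_t, T_t, T_ci] M (Nat.sub (T_ci u) (Nat.mod (T_ci u) M)) (nat_lit 40) (Nat.mod (T_ci u) M) u) (lF [T_bi, T_t, T_c, T_t, T_bi, T_ti, T_ci, T_ti] M (Nat.sub (T_ci u) (Nat.mod (T_ci u) M)) (Nat.mod (T_ci u) M) u) (Nat.ble (nat_lit 52) j)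
noncomputable def dp_ci_39 (j u : ℕ) : Bool :=
  Bool.rec (motive := fun _ => Bool) (lS MG [T_ti, T_ci, T_ti, T_bi, T_t, T_c, T_t, T_bi] M (Nat.sub (T_ci u) (Nat.mod (T_ci u) M)) (nat_lit 40) (Nat.mod (T_ci u) M) u) (dp_ci_38 j u) (Nat.ble (nat_lit 51) j)
noncomputable def dp_ci_40 (j u : ℕ) : Bool :=
  Bool.rec (motive := fun _ => Bool) (dp_ci_37 j u) (dp_ci_39 j u) (Nat.ble (nat_lit 50) j)
noncomputable def dp_ci_41 (j u : ℕ) : Bool :=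
  Bool.rec (motive := fun _ => Bool) (dp_ci_36 j u) (dp_ci_40 j u) (Nat.ble (nat_lit 48) j)
noncomputable def dp_ci_42 (j u : ℕ) : Bool :=
  Bool.rec (motive := fun _ => Bool) (lS MG [T_ti, T_c, T_b, T_t, T_c, T_t, T_b, T_ti] M (Nat.sub (T_ci u) (Nat.mod (T_ci u) M)) (nat_lit 40) (Nat.mod (T_ci u) M) u) (lS MG [T_t, T_c, T_t, T_bi, T_ti, T_ci, T_ti, T_bi] M (Nat.sub (T_ci u) (Nat.mod (T_ci u) M)) (nat_lit 40) (Nat.mod (T_ci u) M) u) (Nat.ble (nat_lit 54) j)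
noncomputable def dp_ci_43 (j u : ℕ) : Bool :=
  Bool.rec (motive := fun _ => Bool) (lS MG [T_bi, T_t, T_c, T_t, T_bi, T_ti, T_ci, T_ti] M (Nat.sub (T_ci u) (Nat.mod (T_ci u) M)) (nat_lit 40) (Nat.mod (T_ci u) M) u) (lF [T_ti, T_ci, T_bi, T_t, T_c, T_t, T_bi, T_ti] M (Nat.sub (T_ci u) (Nat.mod (T_ci u) M)) (Nat.mod (T_ci u) M) u) (Nat.ble (nat_lit 57) j)
noncomputable def dp_ci_44 (j u : ℕ) : Bool :=
  Bool.rec (motive := fun _ => Bool) (lF [T_t, T_c, T_t, T_ai, T_ti, T_ci, T_ti, T_ai] M (Nat.sub (T_ci u) (Nat.mod (T_ci u) M)) (Nat.mod (T_ci u) M) u) (dp_ci_43 j u) (Nat.ble (nat_lit 56) j)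
noncomputable def dp_ci_45 (j u : ℕ) : Bool :=
  Bool.rec (motive := fun _ => Bool) (dp_ci_42 j u) (dp_ci_44 j u) (Nat.ble (nat_lit 55) j)
noncomputable def dp_ci_46 (j u : ℕ) : Bool :=
  Bool.rec (motive := fun _ => Bool) (lS MG [T_zi, T_c, T_z] M (Nat.sub (T_ci u) (Nat.mod (T_ci u) M)) (nat_lit 40) (Nat.mod (T_ci u) M) u) (lF [T_ti, T_ti, T_c, T_t, T_ci, T_t, T_t, T_ci] M (Nat.sub (T_ci u) (Nat.mod (T_ci u) M)) (Nat.mod (T_ci u) M) u) (Nat.ble (nat_lit 59) j)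
noncomputable def dp_ci_47 (j u : ℕ) : Bool :=
  Bool.rec (motive := fun _ => Bool) (lF [T_ti, T_ci, T_ti, T_bi, T_t, T_c, T_t, T_bi] M (Nat.sub (T_ci u) (Nat.mod (T_ci u) M)) (Nat.mod (T_ci u) M) u) (lS MG [T_t, T_c, T_ti, T_c, T_c, T_ti, T_ti, T_ci] M (Nat.sub (T_ci u) (Nat.mod (T_ci u) M)) (nat_lit 40) (Nat.mod (T_ci u) M) u) (Nat.ble (nat_lit 62) j)
noncomputable def dp_ci_48 (j u : ℕ) : Bool :=
  Bool.rec (motive := fun _ => Bool) (lS MG [T_ci, T_t, T_c, T_ti, T_c, T_c, T_ti, T_ti] M (Nat.sub (T_ci u) (Nat.mod (T_ci u) M)) (nat_lit 40) (Nat.mod (T_ci u) M) u) (dp_ci_47 j u) (Nat.ble (nat_lit 61) j)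
noncomputable def dp_ci_49 (j u : ℕ) : Bool :=
  Bool.rec (motive := fun _ => Bool) (dp_ci_46 j u) (dp_ci_48 j u) (Nat.ble (nat_lit 60) j)
noncomputable def dp_ci_50 (j u : ℕ) : Bool :=
  Bool.rec (motive := fun _ => Bool) (dp_ci_45 j u) (dp_ci_49 j u) (Nat.ble (nat_lit 58) j)
noncomputable def dp_ci_51 (j u : ℕ) : Bool :=
  Bool.rec (motive := fun _ => Bool) (dp_ci_41 j u) (dp_ci_50 j u) (Nat.ble (nat_lit 53) j)
noncomputable def dp_ci_52 (j u : ℕ) : Bool :=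
  Bool.rec (motive := fun _ => Bool) (dp_ci_35 j u) (dp_ci_51 j u) (Nat.ble (nat_lit 46) j)
noncomputable def dp_ci_53 (j u : ℕ) : Bool :=
  Bool.rec (motive := fun _ => Bool) (dp_ci_27 j u) (dp_ci_52 j u) (Nat.ble (nat_lit 37) j)
noncomputable def dp_ci_54 (j u : ℕ) : Bool :=
  Bool.rec (motive := fun _ => Bool) (dp_ci_17 j u) (dp_ci_53 j u) (Nat.ble (nat_lit 26) j)
noncomputable def dp_ci_55 (j u : ℕ) : Bool :=
  Bool.rec (motive := fun _ => Bool) (dp_ci_7 j u) (dp_ci_54 j u) (Nat.ble (nat_lit 15) j)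
noncomputable def dp_ci_56 (j u : ℕ) : Bool :=
  Bool.rec (motive := fun _ => Bool) (Bool.rec (motive := fun _ => Bool) (lS MG [T_c] M (Nat.sub (T_ci u) (Nat.mod (T_ci u) M)) (nat_lit 40) (Nat.mod (T_ci u) M) u) (Bool.rec (motive := fun _ => Bool) (dp_ci_0 j u) (dp_ci_1 j u) (Nat.ble (nat_lit 6) j)) (Nat.ble (nat_lit 4) j)) (dp_ci_55 j u) (Nat.ble (nat_lit 8) j)
noncomputable def disp_ci (j u : ℕ) : Bool :=
  Bool.rec (motive := fun _ => Bool) (Bool.rec (motive := fun _ => Bool) (lF1 T_c M (Nat.sub (T_ci u) (Nat.mod (T_ci u) M)) (Nat.mod (T_ci u) M) u) (Bool.rec (motive := fun _ => Bool) (lDef P (nat_lit 1) (Nat.mod (T_ci u) M) u) (lDef P (nat_lit 0) u (Nat.mod (T_ci u) M)) (Nat.ble (nat_lit 2) j)) (Nat.ble (nat_lit 1) j)) (dp_ci_56 j u) (Nat.ble (nat_lit 3) j)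
noncomputable def chk_ci (j u : ℕ) : Bool :=
  Bool.rec (motive := fun _ => Bool) (disp_ci j u) (Nat.ble (Nat.succ (MG u)) A) (Nat.ble A (T_ci u))
noncomputable def dp_a_0 (j u : ℕ) : Bool :=
  Bool.rec (motive := fun _ => Bool) (lS MG [T_ai] M (Nat.sub (T_a u) (Nat.mod (T_a u) M)) (nat_lit 40) (Nat.mod (T_a u) M) u) (lF3 T_zi T_ai T_z M (Nat.sub (T_a u) (Nat.mod (T_a u) M)) (Nat.mod (T_a u) M) u) (Nat.ble (nat_lit 4) j)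
noncomputable def dp_a_1 (j u : ℕ) : Bool :=
  Bool.rec (motive := fun _ => Bool) (lF [T_b, T_c, T_c, T_ai, T_bi] M (Nat.sub (T_a u) (Nat.mod (T_a u) M)) (Nat.mod (T_a u) M) u) (lF [T_b, T_c, T_ai, T_bi, T_c] M (Nat.sub (T_a u) (Nat.mod (T_a u) M)) (Nat.mod (T_a u) M) u) (Nat.ble (nat_lit 6) j)
noncomputable def dp_a_2 (j u : ℕ) : Bool :=
  Bool.rec (motive := fun _ => Bool) (lF [T_ci, T_bi, T_ai, T_ci, T_b] M (Nat.sub (T_a u) (Nat.mod (T_a u) M)) (Nat.mod (T_a u) M) u) (lF3 T_z T_ai T_zi M (Nat.sub (T_a u) (Nat.mod (T_a u) M)) (Nat.mod (T_a u) M) u) (Nat.ble (nat_lit 9) j)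
noncomputable def dp_a_3 (j u : ℕ) : Bool :=
  Bool.rec (motive := fun _ => Bool) (lF [T_ci, T_ci, T_bi, T_ai, T_b] M (Nat.sub (T_a u) (Nat.mod (T_a u) M)) (Nat.mod (T_a u) M) u) (dp_a_2 j u) (Nat.ble (nat_lit 8) j)
noncomputable def dp_a_4 (j u : ℕ) : Bool :=
  Bool.rec (motive := fun _ => Bool) (lF [T_bi, T_ci, T_ai, T_b, T_ci] M (Nat.sub (T_a u) (Nat.mod (T_a u) M)) (Nat.mod (T_a u) M) u) (lS MG [T_b, T_c, T_c, T_ai, T_bi] M (Nat.sub (T_a u) (Nat.mod (T_a u) M)) (nat_lit 40) (Nat.mod (T_a u) M) u) (Nat.ble (nat_lit 11) j)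
noncomputable def dp_a_5 (j u : ℕ) : Bool :=
  Bool.rec (motive := fun _ => Bool) (lF [T_c, T_b, T_ai, T_c, T_bi] M (Nat.sub (T_a u) (Nat.mod (T_a u) M)) (Nat.mod (T_a u) M) u) (lS MG [T_ci, T_bi, T_ai, T_ci, T_b] M (Nat.sub (T_a u) (Nat.mod (T_a u) M)) (nat_lit 40) (Nat.mod (T_a u) M) u) (Nat.ble (nat_lit 13) j)
noncomputable def dp_a_6 (j u : ℕ) : Bool :=
  Bool.rec (motive := fun _ => Bool) (dp_a_4 j u) (dp_a_5 j u) (Nat.ble (nat_lit 12) j)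
noncomputable def dp_a_7 (j u : ℕ) : Bool :=
  Bool.rec (motive := fun _ => Bool) (lS MG [T_ci, T_ci, T_bi, T_ai, T_b] M (Nat.sub (T_a u) (Nat.mod (T_a u) M)) (nat_lit 40) (Nat.mod (T_a u) M) u) (lS MG [T_bi, T_ci, T_ai, T_b, T_ci] M (Nat.sub (T_a u) (Nat.mod (T_a u) M)) (nat_lit 40) (Nat.mod (T_a u) M) u) (Nat.ble (nat_lit 15) j)
noncomputable def dp_a_8 (j u : ℕ) : Bool :=
  Bool.rec (motive := fun _ => Bool) (lS MG [T_c, T_b, T_ai, T_c, T_bi] M (Nat.sub (T_a u) (Nat.mod (T_a u) M)) (nat_lit 40) (Nat.mod (T_a u) M) u) (lS MG [T_ti, T_ai, T_t, T_bi, T_ti, T_ti, T_b, T_ti] M (Nat.sub (T_a u) (Nat.mod (T_a u) M)) (nat_lit 40) (Nat.mod (T_a u) M) u) (Nat.ble (nat_lit 17) j)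
noncomputable def dp_a_9 (j u : ℕ) : Bool :=
  Bool.rec (motive := fun _ => Bool) (dp_a_7 j u) (dp_a_8 j u) (Nat.ble (nat_lit 16) j)
noncomputable def dp_a_10 (j u : ℕ) : Bool :=
  Bool.rec (motive := fun _ => Bool) (lS MG [T_t, T_ai, T_t, T_bi, T_t, T_t, T_b, T_ti] M (Nat.sub (T_a u) (Nat.mod (T_a u) M)) (nat_lit 40) (Nat.mod (T_a u) M) u) (lF [T_ti, T_ci, T_ti, T_c, T_a, T_t, T_c, T_t] M (Nat.sub (T_a u) (Nat.mod (T_a u) M)) (Nat.mod (T_a u) M) u) (Nat.ble (nat_lit 19) j)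
noncomputable def dp_a_11 (j u : ℕ) : Bool :=
  Bool.rec (motive := fun _ => Bool) (lF [T_t, T_c, T_t, T_c, T_a, T_ti, T_ci, T_ti] M (Nat.sub (T_a u) (Nat.mod (T_a u) M)) (Nat.mod (T_a u) M) u) (lF [T_ti, T_ai, T_t, T_bi, T_ti, T_ti, T_b, T_ti] M (Nat.sub (T_a u) (Nat.mod (T_a u) M)) (Nat.mod (T_a u) M) u) (Nat.ble (nat_lit 21) j)
noncomputable def dp_a_12 (j u : ℕ) : Bool :=
  Bool.rec (motive := fun _ => Bool) (dp_a_10 j u) (dp_a_11 j u) (Nat.ble (nat_lit 20) j)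
noncomputable def dp_a_13 (j u : ℕ) : Bool :=
  Bool.rec (motive := fun _ => Bool) (lF [T_t, T_ai, T_t, T_bi, T_t, T_t, T_b, T_ti] M (Nat.sub (T_a u) (Nat.mod (T_a u) M)) (Nat.mod (T_a u) M) u) (lS MG [T_ti, T_ci, T_ti, T_a, T_t, T_c, T_t, T_c] M (Nat.sub (T_a u) (Nat.mod (T_a u) M)) (nat_lit 40) (Nat.mod (T_a u) M) u) (Nat.ble (nat_lit 24) j)
noncomputable def dp_a_14 (j u : ℕ) : Bool :=
  Bool.rec (motive := fun _ => Bool) (lS MG [T_b, T_c, T_ai, T_bi, T_c] M (Nat.sub (T_a u) (Nat.mod (T_a u) M)) (nat_lit 40) (Nat.mod (T_a u) M) u) (dp_a_13 j u) (Nat.ble (nat_lit 23) j)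
noncomputable def dp_a_15 (j u : ℕ) : Bool :=
  Bool.rec (motive := fun _ => Bool) (lF [T_ti, T_ci, T_ti, T_a, T_t, T_c, T_t, T_c] M (Nat.sub (T_a u) (Nat.mod (T_a u) M)) (Nat.mod (T_a u) M) u) (lS MG [T_t, T_c, T_t, T_c, T_a, T_ti, T_ci, T_ti] M (Nat.sub (T_a u) (Nat.mod (T_a u) M)) (nat_lit 40) (Nat.mod (T_a u) M) u) (Nat.ble (nat_lit 26) j)
noncomputable def dp_a_16 (j u : ℕ) : Bool :=
  Bool.rec (motive := fun _ => Bool) (lH [] [] M (Nat.sub (T_a u) (Nat.mod (T_a u) M)) (Nat.mod (T_a u) M) u) (lS MG [T_t, T_c, T_t, T_a, T_ti, T_ci, T_ti, T_c] M (Nat.sub (T_a u) (Nat.mod (T_a u) M)) (nat_lit 40) (Nat.mod (T_a u) M) u) (Nat.ble (nat_lit 28) j)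
noncomputable def dp_a_17 (j u : ℕ) : Bool :=
  Bool.rec (motive := fun _ => Bool) (lS MG [T_z, T_ai, T_zi] M (Nat.sub (T_a u) (Nat.mod (T_a u) M)) (nat_lit 40) (Nat.mod (T_a u) M) u) (lS MG [T_zi, T_ai, T_z] M (Nat.sub (T_a u) (Nat.mod (T_a u) M)) (nat_lit 40) (Nat.mod (T_a u) M) u) (Nat.ble (nat_lit 31) j)
noncomputable def dp_a_18 (j u : ℕ) : Bool :=
  Bool.rec (motive := fun _ => Bool) (lS MG [T_ti, T_ci, T_ti, T_c, T_a, T_t, T_c, T_t] M (Nat.sub (T_a u) (Nat.mod (T_a u) M)) (nat_lit 40) (Nat.mod (T_a u) M) u) (dp_a_17 j u) (Nat.ble (nat_lit 30) j)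
noncomputable def dp_a_19 (j u : ℕ) : Bool :=
  Bool.rec (motive := fun _ => Bool) (dp_a_16 j u) (dp_a_18 j u) (Nat.ble (nat_lit 29) j)
noncomputable def dp_a_20 (j u : ℕ) : Bool :=
  Bool.rec (motive := fun _ => Bool) (dp_a_15 j u) (dp_a_19 j u) (Nat.ble (nat_lit 27) j)
noncomputable def dp_a_21 (j u : ℕ) : Bool :=
  Bool.rec (motive := fun _ => Bool) (dp_a_14 j u) (dp_a_20 j u) (Nat.ble (nat_lit 25) j)
noncomputable def dp_a_22 (j u : ℕ) : Bool :=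
  Bool.rec (motive := fun _ => Bool) (dp_a_12 j u) (dp_a_21 j u) (Nat.ble (nat_lit 22) j)
noncomputable def dp_a_23 (j u : ℕ) : Bool :=
  Bool.rec (motive := fun _ => Bool) (dp_a_9 j u) (dp_a_22 j u) (Nat.ble (nat_lit 18) j)
noncomputable def dp_a_24 (j u : ℕ) : Bool :=
  Bool.rec (motive := fun _ => Bool) (dp_a_6 j u) (dp_a_23 j u) (Nat.ble (nat_lit 14) j)
noncomputable def dp_a_25 (j u : ℕ) : Bool :=
  Bool.rec (motive := fun _ => Bool) (Bool.rec (motive := fun _ => Bool) (dp_a_1 j u) (dp_a_3 j u) (Nat.ble (nat_lit 7) j)) (dp_a_24 j u) (Nat.ble (nat_lit 10) j)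
noncomputable def disp_a (j u : ℕ) : Bool :=
  Bool.rec (motive := fun _ => Bool) (Bool.rec (motive := fun _ => Bool) (lF1 T_ai M (Nat.sub (T_a u) (Nat.mod (T_a u) M)) (Nat.mod (T_a u) M) u) (lDef P (nat_lit 2) (Nat.mod (T_a u) M) u) (Nat.ble (nat_lit 1) j)) (Bool.rec (motive := fun _ => Bool) (Bool.rec (motive := fun _ => Bool) (lDef P (nat_lit 3) u (Nat.mod (T_a u) M)) (dp_a_0 j u) (Nat.ble (nat_lit 3) j)) (dp_a_25 j u) (Nat.ble (nat_lit 5) j)) (Nat.ble (nat_lit 2) j)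
noncomputable def chk_a (j u : ℕ) : Bool :=
  Bool.rec (motive := fun _ => Bool) (disp_a j u) (Nat.ble (Nat.succ (MG u)) A) (Nat.ble A (T_a u))
noncomputable def dp_ai_0 (j u : ℕ) : Bool :=
  Bool.rec (motive := fun _ => Bool) (lS MG [T_a] M (Nat.sub (T_ai u) (Nat.mod (T_ai u) M)) (nat_lit 40) (Nat.mod (T_ai u) M) u) (lF3 T_zi T_a T_z M (Nat.sub (T_ai u) (Nat.mod (T_ai u) M)) (Nat.mod (T_ai u) M) u) (Nat.ble (nat_lit 4) j)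
noncomputable def dp_ai_1 (j u : ℕ) : Bool :=
  Bool.rec (motive := fun _ => Bool) (lF [T_b, T_a, T_ci, T_ci, T_bi] M (Nat.sub (T_ai u) (Nat.mod (T_ai u) M)) (Nat.mod (T_ai u) M) u) (lF [T_bi, T_a, T_b, T_c, T_c] M (Nat.sub (T_ai u) (Nat.mod (T_ai u) M)) (Nat.mod (T_ai u) M) u) (Nat.ble (nat_lit 6) j)
noncomputable def dp_ai_2 (j u : ℕ) : Bool :=
  Bool.rec (motive := fun _ => Bool) (lS MG [T_b, T_a, T_ci, T_ci, T_bi] M (Nat.sub (T_ai u) (Nat.mod (T_ai u) M)) (nat_lit 40) (Nat.mod (T_ai u) M) u) (lF [T_b, T_ci, T_a, T_bi, T_ci] M (Nat.sub (T_ai u) (Nat.mod (T_ai u) M)) (Nat.mod (T_ai u) M) u) (Nat.ble (nat_lit 9) j)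
noncomputable def dp_ai_3 (j u : ℕ) : Bool :=
  Bool.rec (motive := fun _ => Bool) (lF [T_c, T_bi, T_a, T_c, T_b] M (Nat.sub (T_ai u) (Nat.mod (T_ai u) M)) (Nat.mod (T_ai u) M) u) (dp_ai_2 j u) (Nat.ble (nat_lit 8) j)
noncomputable def dp_ai_4 (j u : ℕ) : Bool :=
  Bool.rec (motive := fun _ => Bool) (lF [T_ci, T_b, T_a, T_ci, T_bi] M (Nat.sub (T_ai u) (Nat.mod (T_ai u) M)) (Nat.mod (T_ai u) M) u) (lF [T_bi, T_c, T_a, T_b, T_c] M (Nat.sub (T_ai u) (Nat.mod (T_ai u) M)) (Nat.mod (T_ai u) M) u) (Nat.ble (nat_lit 11) j)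
noncomputable def dp_ai_5 (j u : ℕ) : Bool :=
  Bool.rec (motive := fun _ => Bool) (lF3 T_z T_a T_zi M (Nat.sub (T_ai u) (Nat.mod (T_ai u) M)) (Nat.mod (T_ai u) M) u) (lS MG [T_c, T_bi, T_a, T_c, T_b] M (Nat.sub (T_ai u) (Nat.mod (T_ai u) M)) (nat_lit 40) (Nat.mod (T_ai u) M) u) (Nat.ble (nat_lit 13) j)
noncomputable def dp_ai_6 (j u : ℕ) : Bool :=
  Bool.rec (motive := fun _ => Bool) (dp_ai_4 j u) (dp_ai_5 j u) (Nat.ble (nat_lit 12) j)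
noncomputable def dp_ai_7 (j u : ℕ) : Bool :=
  Bool.rec (motive := fun _ => Bool) (lS MG [T_bi, T_c, T_a, T_b, T_c] M (Nat.sub (T_ai u) (Nat.mod (T_ai u) M)) (nat_lit 40) (Nat.mod (T_ai u) M) u) (lS MG [T_bi, T_a, T_b, T_c, T_c] M (Nat.sub (T_ai u) (Nat.mod (T_ai u) M)) (nat_lit 40) (Nat.mod (T_ai u) M) u) (Nat.ble (nat_lit 15) j)
noncomputable def dp_ai_8 (j u : ℕ) : Bool :=
  Bool.rec (motive := fun _ => Bool) (lS MG [T_b, T_ci, T_a, T_bi, T_ci] M (Nat.sub (T_ai u) (Nat.mod (T_ai u) M)) (nat_lit 40) (Nat.mod (T_ai u) M) u) (lS MG [T_ci, T_b, T_a, T_ci, T_bi] M (Nat.sub (T_ai u) (Nat.mod (T_ai u) M)) (nat_lit 40) (Nat.mod (T_ai u) M) u) (Nat.ble (nat_lit 17) j)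
noncomputable def dp_ai_9 (j u : ℕ) : Bool :=
  Bool.rec (motive := fun _ => Bool) (dp_ai_7 j u) (dp_ai_8 j u) (Nat.ble (nat_lit 16) j)
noncomputable def dp_ai_10 (j u : ℕ) : Bool :=
  Bool.rec (motive := fun _ => Bool) (lS MG [T_t, T_bi, T_ti, T_ti, T_b, T_ti, T_a, T_ti] M (Nat.sub (T_ai u) (Nat.mod (T_ai u) M)) (nat_lit 40) (Nat.mod (T_ai u) M) u) (lF [T_t, T_c, T_t, T_ai, T_ci, T_ti, T_ci, T_ti] M (Nat.sub (T_ai u) (Nat.mod (T_ai u) M)) (Nat.mod (T_ai u) M) u) (Nat.ble (nat_lit 20) j)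
noncomputable def dp_ai_11 (j u : ℕ) : Bool :=
  Bool.rec (motive := fun _ => Bool) (lS MG [T_t, T_bi, T_t, T_t, T_b, T_ti, T_a, T_t] M (Nat.sub (T_ai u) (Nat.mod (T_ai u) M)) (nat_lit 40) (Nat.mod (T_ai u) M) u) (dp_ai_10 j u) (Nat.ble (nat_lit 19) j)
noncomputable def dp_ai_12 (j u : ℕ) : Bool :=
  Bool.rec (motive := fun _ => Bool) (lS MG [T_ti, T_ci, T_ti, T_ai, T_ci, T_t, T_c, T_t] M (Nat.sub (T_ai u) (Nat.mod (T_ai u) M)) (nat_lit 40) (Nat.mod (T_ai u) M) u) (lF [T_t, T_bi, T_t, T_t, T_b, T_ti, T_a, T_t] M (Nat.sub (T_ai u) (Nat.mod (T_ai u) M)) (Nat.mod (T_ai u) M) u) (Nat.ble (nat_lit 23) j)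
noncomputable def dp_ai_13 (j u : ℕ) : Bool :=
  Bool.rec (motive := fun _ => Bool) (lF [T_t, T_bi, T_ti, T_ti, T_b, T_ti, T_a, T_ti] M (Nat.sub (T_ai u) (Nat.mod (T_ai u) M)) (Nat.mod (T_ai u) M) u) (dp_ai_12 j u) (Nat.ble (nat_lit 22) j)
noncomputable def dp_ai_14 (j u : ℕ) : Bool :=
  Bool.rec (motive := fun _ => Bool) (lS MG [T_ci, T_t, T_c, T_t, T_ai, T_ti, T_ci, T_ti] M (Nat.sub (T_ai u) (Nat.mod (T_ai u) M)) (nat_lit 40) (Nat.mod (T_ai u) M) u) (lF [T_ci, T_t, T_c, T_t, T_ai, T_ti, T_ci, T_ti] M (Nat.sub (T_ai u) (Nat.mod (T_ai u) M)) (Nat.mod (T_ai u) M) u) (Nat.ble (nat_lit 25) j)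
noncomputable def dp_ai_15 (j u : ℕ) : Bool :=
  Bool.rec (motive := fun _ => Bool) (lS MG [T_ci, T_ti, T_ci, T_ti, T_ai, T_t, T_c, T_t] M (Nat.sub (T_ai u) (Nat.mod (T_ai u) M)) (nat_lit 40) (Nat.mod (T_ai u) M) u) (lF [T_ci, T_ti, T_ci, T_ti, T_ai, T_t, T_c, T_t] M (Nat.sub (T_ai u) (Nat.mod (T_ai u) M)) (Nat.mod (T_ai u) M) u) (Nat.ble (nat_lit 29) j)
noncomputable def dp_ai_16 (j u : ℕ) : Bool :=
  Bool.rec (motive := fun _ => Bool) (lS MG [T_z, T_a, T_zi] M (Nat.sub (T_ai u) (Nat.mod (T_ai u) M)) (nat_lit 40) (Nat.mod (T_ai u) M) u) (dp_ai_15 j u) (Nat.ble (nat_lit 28) j)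
noncomputable def dp_ai_17 (j u : ℕ) : Bool :=
  Bool.rec (motive := fun _ => Bool) (lS MG [T_t, T_c, T_t, T_ai, T_ci, T_ti, T_ci, T_ti] M (Nat.sub (T_ai u) (Nat.mod (T_ai u) M)) (nat_lit 40) (Nat.mod (T_ai u) M) u) (dp_ai_16 j u) (Nat.ble (nat_lit 27) j)
noncomputable def dp_ai_18 (j u : ℕ) : Bool :=
  Bool.rec (motive := fun _ => Bool) (dp_ai_14 j u) (dp_ai_17 j u) (Nat.ble (nat_lit 26) j)
noncomputable def dp_ai_19 (j u : ℕ) : Bool :=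
  Bool.rec (motive := fun _ => Bool) (dp_ai_13 j u) (dp_ai_18 j u) (Nat.ble (nat_lit 24) j)
noncomputable def dp_ai_20 (j u : ℕ) : Bool :=
  Bool.rec (motive := fun _ => Bool) (dp_ai_11 j u) (dp_ai_19 j u) (Nat.ble (nat_lit 21) j)
noncomputable def dp_ai_21 (j u : ℕ) : Bool :=
  Bool.rec (motive := fun _ => Bool) (dp_ai_9 j u) (dp_ai_20 j u) (Nat.ble (nat_lit 18) j)
noncomputable def dp_ai_22 (j u : ℕ) : Bool :=
  Bool.rec (motive := fun _ => Bool) (dp_ai_6 j u) (dp_ai_21 j u) (Nat.ble (nat_lit 14) j)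
noncomputable def dp_ai_23 (j u : ℕ) : Bool :=
  Bool.rec (motive := fun _ => Bool) (Bool.rec (motive := fun _ => Bool) (dp_ai_1 j u) (dp_ai_3 j u) (Nat.ble (nat_lit 7) j)) (dp_ai_22 j u) (Nat.ble (nat_lit 10) j)
noncomputable def disp_ai (j u : ℕ) : Bool :=
  Bool.rec (motive := fun _ => Bool) (Bool.rec (motive := fun _ => Bool) (lF1 T_a M (Nat.sub (T_ai u) (Nat.mod (T_ai u) M)) (Nat.mod (T_ai u) M) u) (lDef P (nat_lit 2) u (Nat.mod (T_ai u) M)) (Nat.ble (nat_lit 1) j)) (Bool.rec (motive := fun _ => Bool) (Bool.rec (motive := fun _ => Bool) (lDef P (nat_lit 3) (Nat.mod (T_ai u) M) u) (dp_ai_0 j u) (Nat.ble (nat_lit 3) j)) (dp_ai_23 j u) (Nat.ble (nat_lit 5) j)) (Nat.ble (nat_lit 2) j)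
noncomputable def chk_ai (j u : ℕ) : Bool :=
  Bool.rec (motive := fun _ => Bool) (disp_ai j u) (Nat.ble (Nat.succ (MG u)) A) (Nat.ble A (T_ai u))
noncomputable def dp_b_0 (j u : ℕ) : Bool :=
  Bool.rec (motive := fun _ => Bool) (lF3 T_zi T_bi T_z M (Nat.sub (T_b u) (Nat.mod (T_b u) M)) (Nat.mod (T_b u) M) u) (lF [T_a, T_ci, T_ci, T_bi, T_ai] M (Nat.sub (T_b u) (Nat.mod (T_b u) M)) (Nat.mod (T_b u) M) u) (Nat.ble (nat_lit 6) j)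
noncomputable def dp_b_1 (j u : ℕ) : Bool :=
  Bool.rec (motive := fun _ => Bool) (lF [T_ai, T_c, T_bi, T_a, T_c] M (Nat.sub (T_b u) (Nat.mod (T_b u) M)) (Nat.mod (T_b u) M) u) (lF [T_c, T_ai, T_bi, T_c, T_a] M (Nat.sub (T_b u) (Nat.mod (T_b u) M)) (Nat.mod (T_b u) M) u) (Nat.ble (nat_lit 9) j)
noncomputable def dp_b_2 (j u : ℕ) : Bool :=
  Bool.rec (motive := fun _ => Bool) (lF3 T_z T_bi T_zi M (Nat.sub (T_b u) (Nat.mod (T_b u) M)) (Nat.mod (T_b u) M) u) (dp_b_1 j u) (Nat.ble (nat_lit 8) j)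
noncomputable def dp_b_3 (j u : ℕ) : Bool :=
  Bool.rec (motive := fun _ => Bool) (lF [T_a, T_ci, T_bi, T_ai, T_ci] M (Nat.sub (T_b u) (Nat.mod (T_b u) M)) (Nat.mod (T_b u) M) u) (lF [T_c, T_c, T_ai, T_bi, T_a] M (Nat.sub (T_b u) (Nat.mod (T_b u) M)) (Nat.mod (T_b u) M) u) (Nat.ble (nat_lit 11) j)
noncomputable def dp_b_4 (j u : ℕ) : Bool :=
  Bool.rec (motive := fun _ => Bool) (lS MG [T_ai, T_c, T_bi, T_a, T_c] M (Nat.sub (T_b u) (Nat.mod (T_b u) M)) (nat_lit 40) (Nat.mod (T_b u) M) u) (lS MG [T_b, T_b, T_b, T_b] M (Nat.sub (T_b u) (Nat.mod (T_b u) M)) (nat_lit 40) (Nat.mod (T_b u) M) u) (Nat.ble (nat_lit 14) j)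
noncomputable def dp_b_5 (j u : ℕ) : Bool :=
  Bool.rec (motive := fun _ => Bool) (lS MG [T_a, T_ci, T_ci, T_bi, T_ai] M (Nat.sub (T_b u) (Nat.mod (T_b u) M)) (nat_lit 40) (Nat.mod (T_b u) M) u) (dp_b_4 j u) (Nat.ble (nat_lit 13) j)
noncomputable def dp_b_6 (j u : ℕ) : Bool :=
  Bool.rec (motive := fun _ => Bool) (dp_b_3 j u) (dp_b_5 j u) (Nat.ble (nat_lit 12) j)
noncomputable def dp_b_7 (j u : ℕ) : Bool :=
  Bool.rec (motive := fun _ => Bool) (lS MG [T_a, T_ci, T_bi, T_ai, T_ci] M (Nat.sub (T_b u) (Nat.mod (T_b u) M)) (nat_lit 40) (Nat.mod (T_b u) M) u) (lF [T_ci, T_a, T_bi, T_ci, T_ai] M (Nat.sub (T_b u) (Nat.mod (T_b u) M)) (Nat.mod (T_b u) M) u) (Nat.ble (nat_lit 16) j)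
noncomputable def dp_b_8 (j u : ℕ) : Bool :=
  Bool.rec (motive := fun _ => Bool) (lS MG [T_c, T_c, T_ai, T_bi, T_a] M (Nat.sub (T_b u) (Nat.mod (T_b u) M)) (nat_lit 40) (Nat.mod (T_b u) M) u) (lF [T_t, T_c, T_t, T_b, T_ti, T_ci, T_ti, T_c] M (Nat.sub (T_b u) (Nat.mod (T_b u) M)) (Nat.mod (T_b u) M) u) (Nat.ble (nat_lit 18) j)
noncomputable def dp_b_9 (j u : ℕ) : Bool :=
  Bool.rec (motive := fun _ => Bool) (lS MG [T_t, T_c, T_t, T_b, T_ti, T_ci, T_ti, T_c] M (Nat.sub (T_b u) (Nat.mod (T_b u) M)) (nat_lit 40) (Nat.mod (T_b u) M) u) (lF [T_ti, T_b, T_ti, T_b, T_ti, T_zi, T_b, T_ti] M (Nat.sub (T_b u) (Nat.mod (T_b u) M)) (Nat.mod (T_b u) M) u) (Nat.ble (nat_lit 20) j)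
noncomputable def dp_b_10 (j u : ℕ) : Bool :=
  Bool.rec (motive := fun _ => Bool) (dp_b_8 j u) (dp_b_9 j u) (Nat.ble (nat_lit 19) j)
noncomputable def dp_b_11 (j u : ℕ) : Bool :=
  Bool.rec (motive := fun _ => Bool) (dp_b_7 j u) (dp_b_10 j u) (Nat.ble (nat_lit 17) j)
noncomputable def dp_b_12 (j u : ℕ) : Bool :=
  Bool.rec (motive := fun _ => Bool) (lS MG [T_c, T_ai, T_bi, T_c, T_a] M (Nat.sub (T_b u) (Nat.mod (T_b u) M)) (nat_lit 40) (Nat.mod (T_b u) M) u) (lS MG [T_ci, T_a, T_bi, T_ci, T_ai] M (Nat.sub (T_b u) (Nat.mod (T_b u) M)) (nat_lit 40) (Nat.mod (T_b u) M) u) (Nat.ble (nat_lit 22) j)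
noncomputable def dp_b_13 (j u : ℕ) : Bool :=
  Bool.rec (motive := fun _ => Bool) (lS MG [T_ti, T_b, T_ti, T_b, T_ti, T_zi, T_b, T_ti] M (Nat.sub (T_b u) (Nat.mod (T_b u) M)) (nat_lit 40) (Nat.mod (T_b u) M) u) (lF [T_ti, T_ci, T_ti, T_c, T_b, T_t, T_c, T_t] M (Nat.sub (T_b u) (Nat.mod (T_b u) M)) (Nat.mod (T_b u) M) u) (Nat.ble (nat_lit 25) j)
noncomputable def dp_b_14 (j u : ℕ) : Bool :=
  Bool.rec (motive := fun _ => Bool) (lS MG [T_ti, T_b, T_ti, T_zi, T_b, T_ti, T_b, T_ti] M (Nat.sub (T_b u) (Nat.mod (T_b u) M)) (nat_lit 40) (Nat.mod (T_b u) M) u) (dp_b_13 j u) (Nat.ble (nat_lit 24) j)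
noncomputable def dp_b_15 (j u : ℕ) : Bool :=
  Bool.rec (motive := fun _ => Bool) (dp_b_12 j u) (dp_b_14 j u) (Nat.ble (nat_lit 23) j)
noncomputable def dp_b_16 (j u : ℕ) : Bool :=
  Bool.rec (motive := fun _ => Bool) (lF [T_ti, T_b, T_ti, T_zi, T_b, T_ti, T_b, T_ti] M (Nat.sub (T_b u) (Nat.mod (T_b u) M)) (Nat.mod (T_b u) M) u) (lF [T_ti, T_a, T_t, T_ai, T_t, T_bi, T_t, T_t] M (Nat.sub (T_b u) (Nat.mod (T_b u) M)) (Nat.mod (T_b u) M) u) (Nat.ble (nat_lit 27) j)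
noncomputable def dp_b_17 (j u : ℕ) : Bool :=
  Bool.rec (motive := fun _ => Bool) (lS MG [T_z, T_bi, T_zi] M (Nat.sub (T_b u) (Nat.mod (T_b u) M)) (nat_lit 40) (Nat.mod (T_b u) M) u) (lS MG [T_t, T_c, T_t, T_c, T_b, T_ti, T_ci, T_ti] M (Nat.sub (T_b u) (Nat.mod (T_b u) M)) (nat_lit 40) (Nat.mod (T_b u) M) u) (Nat.ble (nat_lit 30) j)
noncomputable def dp_b_18 (j u : ℕ) : Bool :=
  Bool.rec (motive := fun _ => Bool) (lS MG [T_ti, T_ci, T_ti, T_c, T_b, T_t, T_c, T_t] M (Nat.sub (T_b u) (Nat.mod (T_b u) M)) (nat_lit 40) (Nat.mod (T_b u) M) u) (dp_b_17 j u) (Nat.ble (nat_lit 29) j)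
noncomputable def dp_b_19 (j u : ℕ) : Bool :=
  Bool.rec (motive := fun _ => Bool) (dp_b_16 j u) (dp_b_18 j u) (Nat.ble (nat_lit 28) j)
noncomputable def dp_b_20 (j u : ℕ) : Bool :=
  Bool.rec (motive := fun _ => Bool) (lS MG [T_ti, T_a, T_t, T_ai, T_t, T_bi, T_t, T_t] M (Nat.sub (T_b u) (Nat.mod (T_b u) M)) (nat_lit 40) (Nat.mod (T_b u) M) u) (lH [] [] M (Nat.sub (T_b u) (Nat.mod (T_b u) M)) (Nat.mod (T_b u) M) u) (Nat.ble (nat_lit 33) j)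
noncomputable def dp_b_21 (j u : ℕ) : Bool :=
  Bool.rec (motive := fun _ => Bool) (lF [T_t, T_c, T_t, T_c, T_b, T_ti, T_ci, T_ti] M (Nat.sub (T_b u) (Nat.mod (T_b u) M)) (Nat.mod (T_b u) M) u) (dp_b_20 j u) (Nat.ble (nat_lit 32) j)
noncomputable def dp_b_22 (j u : ℕ) : Bool :=
  Bool.rec (motive := fun _ => Bool) (lS MG [T_ti, T_ci, T_ti, T_b, T_t, T_c, T_t, T_c] M (Nat.sub (T_b u) (Nat.mod (T_b u) M)) (nat_lit 40) (Nat.mod (T_b u) M) u) (lF [T_ti, T_ci, T_ti, T_b, T_t, T_c, T_t, T_c] M (Nat.sub (T_b u) (Nat.mod (T_b u) M)) (Nat.mod (T_b u) M) u) (Nat.ble (nat_lit 36) j)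
noncomputable def dp_b_23 (j u : ℕ) : Bool :=
  Bool.rec (motive := fun _ => Bool) (lS MG [T_ti, T_a, T_ti, T_ai, T_t, T_bi, T_ti, T_ti] M (Nat.sub (T_b u) (Nat.mod (T_b u) M)) (nat_lit 40) (Nat.mod (T_b u) M) u) (dp_b_22 j u) (Nat.ble (nat_lit 35) j)
noncomputable def dp_b_24 (j u : ℕ) : Bool :=
  Bool.rec (motive := fun _ => Bool) (lS MG [T_ti, T_ci, T_ti, T_b, T_c, T_t, T_c, T_t] M (Nat.sub (T_b u) (Nat.mod (T_b u) M)) (nat_lit 40) (Nat.mod (T_b u) M) u) (lF [T_ti, T_ci, T_ti, T_b, T_c, T_t, T_c, T_t] M (Nat.sub (T_b u) (Nat.mod (T_b u) M)) (Nat.mod (T_b u) M) u) (Nat.ble (nat_lit 39) j)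
noncomputable def dp_b_25 (j u : ℕ) : Bool :=
  Bool.rec (motive := fun _ => Bool) (lS MG [T_zi, T_bi, T_z] M (Nat.sub (T_b u) (Nat.mod (T_b u) M)) (nat_lit 40) (Nat.mod (T_b u) M) u) (dp_b_24 j u) (Nat.ble (nat_lit 38) j)
noncomputable def dp_b_26 (j u : ℕ) : Bool :=
  Bool.rec (motive := fun _ => Bool) (dp_b_23 j u) (dp_b_25 j u) (Nat.ble (nat_lit 37) j)
noncomputable def dp_b_27 (j u : ℕ) : Bool :=
  Bool.rec (motive := fun _ => Bool) (dp_b_21 j u) (dp_b_26 j u) (Nat.ble (nat_lit 34) j)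
noncomputable def dp_b_28 (j u : ℕ) : Bool :=
  Bool.rec (motive := fun _ => Bool) (dp_b_19 j u) (dp_b_27 j u) (Nat.ble (nat_lit 31) j)
noncomputable def dp_b_29 (j u : ℕ) : Bool :=
  Bool.rec (motive := fun _ => Bool) (dp_b_15 j u) (dp_b_28 j u) (Nat.ble (nat_lit 26) j)
noncomputable def dp_b_30 (j u : ℕ) : Bool :=
  Bool.rec (motive := fun _ => Bool) (dp_b_11 j u) (dp_b_29 j u) (Nat.ble (nat_lit 21) j)
noncomputable def dp_b_31 (j u : ℕ) : Bool :=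
  Bool.rec (motive := fun _ => Bool) (dp_b_6 j u) (dp_b_30 j u) (Nat.ble (nat_lit 15) j)
noncomputable def dp_b_32 (j u : ℕ) : Bool :=
  Bool.rec (motive := fun _ => Bool) (Bool.rec (motive := fun _ => Bool) (dp_b_0 j u) (dp_b_2 j u) (Nat.ble (nat_lit 7) j)) (dp_b_31 j u) (Nat.ble (nat_lit 10) j)
noncomputable def disp_b (j u : ℕ) : Bool :=
  Bool.rec (motive := fun _ => Bool) (Bool.rec (motive := fun _ => Bool) (lF1 T_bi M (Nat.sub (T_b u) (Nat.mod (T_b u) M)) (Nat.mod (T_b u) M) u) (lDef P (nat_lit 5) u (Nat.mod (T_b u) M)) (Nat.ble (nat_lit 1) j)) (Bool.rec (motive := fun _ => Bool) (Bool.rec (motive := fun _ => Bool) (lDef P (nat_lit 4) (Nat.mod (T_b u) M) u) (Bool.rec (motive := fun _ => Bool) (lS MG [T_bi] M (Nat.sub (T_b u) (Nat.mod (T_b u) M)) (nat_lit 40) (Nat.mod (T_b u) M) u) (lF [T_b, T_b, T_b, T_b] M (Nat.sub (T_b u) (Nat.mod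 (T_b u) M)) (Nat.mod (T_b u) M) u) (Nat.ble (nat_lit 4) j)) (Nat.ble (nat_lit 3) j)) (dp_b_32 j u) (Nat.ble (nat_lit 5) j)) (Nat.ble (nat_lit 2) j)
noncomputable def chk_b (j u : ℕ) : Bool :=
  Bool.rec (motive := fun _ => Bool) (disp_b j u) (Nat.ble (Nat.succ (MG u)) A) (Nat.ble A (T_b u))
noncomputable def dp_bi_0 (j u : ℕ) : Bool :=
  Bool.rec (motive := fun _ => Bool) (lF [T_bi, T_bi, T_bi, T_bi] M (Nat.sub (T_bi u) (Nat.mod (T_bi u) M)) (Nat.mod (T_bi u) M) u) (lF [T_ci, T_ai, T_b, T_ci, T_a] M (Nat.sub (T_bi u) (Nat.mod (T_bi u) M)) (Nat.mod (T_bi u) M) u) (Nat.ble (nat_lit 6) j)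
noncomputable def dp_bi_1 (j u : ℕ) : Bool :=
  Bool.rec (motive := fun _ => Bool) (lF [T_ai, T_b, T_a, T_ci, T_ci] M (Nat.sub (T_bi u) (Nat.mod (T_bi u) M)) (Nat.mod (T_bi u) M) u) (lF [T_a, T_b, T_c, T_c, T_ai] M (Nat.sub (T_bi u) (Nat.mod (T_bi u) M)) (Nat.mod (T_bi u) M) u) (Nat.ble (nat_lit 9) j)
noncomputable def dp_bi_2 (j u : ℕ) : Bool :=
  Bool.rec (motive := fun _ => Bool) (lF3 T_z T_b T_zi M (Nat.sub (T_bi u) (Nat.mod (T_bi u) M)) (Nat.mod (T_bi u) M) u) (dp_bi_1 j u) (Nat.ble (nat_lit 8) j)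
noncomputable def dp_bi_3 (j u : ℕ) : Bool :=
  Bool.rec (motive := fun _ => Bool) (lS MG [T_a, T_b, T_c, T_c, T_ai] M (Nat.sub (T_bi u) (Nat.mod (T_bi u) M)) (nat_lit 40) (Nat.mod (T_bi u) M) u) (lS MG [T_bi, T_bi, T_bi, T_bi] M (Nat.sub (T_bi u) (Nat.mod (T_bi u) M)) (nat_lit 40) (Nat.mod (T_bi u) M) u) (Nat.ble (nat_lit 12) j)
noncomputable def dp_bi_4 (j u : ℕ) : Bool :=
  Bool.rec (motive := fun _ => Bool) (lF [T_c, T_a, T_b, T_c, T_ai] M (Nat.sub (T_bi u) (Nat.mod (T_bi u) M)) (Nat.mod (T_bi u) M) u) (dp_bi_3 j u) (Nat.ble (nat_lit 11) j)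
noncomputable def dp_bi_5 (j u : ℕ) : Bool :=
  Bool.rec (motive := fun _ => Bool) (lS MG [T_ci, T_ai, T_b, T_ci, T_a] M (Nat.sub (T_bi u) (Nat.mod (T_bi u) M)) (nat_lit 40) (Nat.mod (T_bi u) M) u) (lS MG [T_ai, T_b, T_a, T_ci, T_ci] M (Nat.sub (T_bi u) (Nat.mod (T_bi u) M)) (nat_lit 40) (Nat.mod (T_bi u) M) u) (Nat.ble (nat_lit 15) j)
noncomputable def dp_bi_6 (j u : ℕ) : Bool :=
  Bool.rec (motive := fun _ => Bool) (lF [T_a, T_c, T_b, T_ai, T_c] M (Nat.sub (T_bi u) (Nat.mod (T_bi u) M)) (Nat.mod (T_bi u) M) u) (dp_bi_5 j u) (Nat.ble (nat_lit 14) j)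
noncomputable def dp_bi_7 (j u : ℕ) : Bool :=
  Bool.rec (motive := fun _ => Bool) (dp_bi_4 j u) (dp_bi_6 j u) (Nat.ble (nat_lit 13) j)
noncomputable def dp_bi_8 (j u : ℕ) : Bool :=
  Bool.rec (motive := fun _ => Bool) (lF [T_ai, T_ci, T_b, T_a, T_ci] M (Nat.sub (T_bi u) (Nat.mod (T_bi u) M)) (Nat.mod (T_bi u) M) u) (lS MG [T_c, T_a, T_b, T_c, T_ai] M (Nat.sub (T_bi u) (Nat.mod (T_bi u) M)) (nat_lit 40) (Nat.mod (T_bi u) M) u) (Nat.ble (nat_lit 17) j)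
noncomputable def dp_bi_9 (j u : ℕ) : Bool :=
  Bool.rec (motive := fun _ => Bool) (lS MG [T_ai, T_ci, T_b, T_a, T_ci] M (Nat.sub (T_bi u) (Nat.mod (T_bi u) M)) (nat_lit 40) (Nat.mod (T_bi u) M) u) (lS MG [T_t, T_c, T_t, T_bi, T_ci, T_ti, T_ci, T_ti] M (Nat.sub (T_bi u) (Nat.mod (T_bi u) M)) (nat_lit 40) (Nat.mod (T_bi u) M) u) (Nat.ble (nat_lit 20) j)
noncomputable def dp_bi_10 (j u : ℕ) : Bool :=
  Bool.rec (motive := fun _ => Bool) (lS MG [T_a, T_c, T_b, T_ai, T_c] M (Nat.sub (T_bi u) (Nat.mod (T_bi u) M)) (nat_lit 40) (Nat.mod (T_bi u) M) u) (dp_bi_9 j u) (Nat.ble (nat_lit 19) j)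
noncomputable def dp_bi_11 (j u : ℕ) : Bool :=
  Bool.rec (motive := fun _ => Bool) (dp_bi_8 j u) (dp_bi_10 j u) (Nat.ble (nat_lit 18) j)
noncomputable def dp_bi_12 (j u : ℕ) : Bool :=
  Bool.rec (motive := fun _ => Bool) (lS MG [T_ti, T_ti, T_b, T_ti, T_a, T_ti, T_ai, T_t] M (Nat.sub (T_bi u) (Nat.mod (T_bi u) M)) (nat_lit 40) (Nat.mod (T_bi u) M) u) (lS MG [T_t, T_bi, T_t, T_bi, T_z, T_t, T_bi, T_t] M (Nat.sub (T_bi u) (Nat.mod (T_bi u) M)) (nat_lit 40) (Nat.mod (T_bi u) M) u) (Nat.ble (nat_lit 22) j)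
noncomputable def dp_bi_13 (j u : ℕ) : Bool :=
  Bool.rec (motive := fun _ => Bool) (lF [T_t, T_t, T_b, T_ti, T_a, T_t, T_ai, T_t] M (Nat.sub (T_bi u) (Nat.mod (T_bi u) M)) (Nat.mod (T_bi u) M) u) (lF [T_ti, T_ti, T_b, T_ti, T_a, T_ti, T_ai, T_t] M (Nat.sub (T_bi u) (Nat.mod (T_bi u) M)) (Nat.mod (T_bi u) M) u) (Nat.ble (nat_lit 25) j)
noncomputable def dp_bi_14 (j u : ℕ) : Bool :=
  Bool.rec (motive := fun _ => Bool) (lS MG [T_ti, T_ci, T_ti, T_ci, T_bi, T_t, T_c, T_t] M (Nat.sub (T_bi u) (Nat.mod (T_bi u) M)) (nat_lit 40) (Nat.mod (T_bi u) M) u) (dp_bi_13 j u) (Nat.ble (nat_lit 24) j)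
noncomputable def dp_bi_15 (j u : ℕ) : Bool :=
  Bool.rec (motive := fun _ => Bool) (dp_bi_12 j u) (dp_bi_14 j u) (Nat.ble (nat_lit 23) j)
noncomputable def dp_bi_16 (j u : ℕ) : Bool :=
  Bool.rec (motive := fun _ => Bool) (lS MG [T_t, T_t, T_b, T_ti, T_a, T_t, T_ai, T_t] M (Nat.sub (T_bi u) (Nat.mod (T_bi u) M)) (nat_lit 40) (Nat.mod (T_bi u) M) u) (lF [T_ti, T_ci, T_ti, T_bi, T_ci, T_t, T_c, T_t] M (Nat.sub (T_bi u) (Nat.mod (T_bi u) M)) (Nat.mod (T_bi u) M) u) (Nat.ble (nat_lit 27) j)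
noncomputable def dp_bi_17 (j u : ℕ) : Bool :=
  Bool.rec (motive := fun _ => Bool) (lS MG [T_ti, T_ci, T_ti, T_bi, T_ci, T_t, T_c, T_t] M (Nat.sub (T_bi u) (Nat.mod (T_bi u) M)) (nat_lit 40) (Nat.mod (T_bi u) M) u) (lS MG [T_ci, T_ti, T_ci, T_ti, T_bi, T_t, T_c, T_t] M (Nat.sub (T_bi u) (Nat.mod (T_bi u) M)) (nat_lit 40) (Nat.mod (T_bi u) M) u) (Nat.ble (nat_lit 29) j)
noncomputable def dp_bi_18 (j u : ℕ) : Bool :=
  Bool.rec (motive := fun _ => Bool) (dp_bi_16 j u) (dp_bi_17 j u) (Nat.ble (nat_lit 28) j)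
noncomputable def dp_bi_19 (j u : ℕ) : Bool :=
  Bool.rec (motive := fun _ => Bool) (lF [T_ci, T_ti, T_ci, T_ti, T_bi, T_t, T_c, T_t] M (Nat.sub (T_bi u) (Nat.mod (T_bi u) M)) (Nat.mod (T_bi u) M) u) (lF [T_t, T_bi, T_t, T_bi, T_z, T_t, T_bi, T_t] M (Nat.sub (T_bi u) (Nat.mod (T_bi u) M)) (Nat.mod (T_bi u) M) u) (Nat.ble (nat_lit 33) j)
noncomputable def dp_bi_20 (j u : ℕ) : Bool :=
  Bool.rec (motive := fun _ => Bool) (lS MG [T_t, T_bi, T_t, T_bi, T_t, T_bi, T_z, T_t] M (Nat.sub (T_bi u) (Nat.mod (T_bi u) M)) (nat_lit 40) (Nat.mod (T_bi u) M) u) (dp_bi_19 j u) (Nat.ble (nat_lit 32) j)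
noncomputable def dp_bi_21 (j u : ℕ) : Bool :=
  Bool.rec (motive := fun _ => Bool) (lS MG [T_ci, T_t, T_c, T_t, T_bi, T_ti, T_ci, T_ti] M (Nat.sub (T_bi u) (Nat.mod (T_bi u) M)) (nat_lit 40) (Nat.mod (T_bi u) M) u) (dp_bi_20 j u) (Nat.ble (nat_lit 31) j)
noncomputable def dp_bi_22 (j u : ℕ) : Bool :=
  Bool.rec (motive := fun _ => Bool) (lS MG [T_z, T_b, T_zi] M (Nat.sub (T_bi u) (Nat.mod (T_bi u) M)) (nat_lit 40) (Nat.mod (T_bi u) M) u) (lF [T_t, T_c, T_t, T_bi, T_ci, T_ti, T_ci, T_ti] M (Nat.sub (T_bi u) (Nat.mod (T_bi u) M)) (Nat.mod (T_bi u) M) u) (Nat.ble (nat_lit 36) j)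
noncomputable def dp_bi_23 (j u : ℕ) : Bool :=
  Bool.rec (motive := fun _ => Bool) (lS MG [T_zi, T_b, T_z] M (Nat.sub (T_bi u) (Nat.mod (T_bi u) M)) (nat_lit 40) (Nat.mod (T_bi u) M) u) (dp_bi_22 j u) (Nat.ble (nat_lit 35) j)
noncomputable def dp_bi_24 (j u : ℕ) : Bool :=
  Bool.rec (motive := fun _ => Bool) (lS MG [T_t, T_bi, T_z, T_t, T_bi, T_t, T_bi, T_t] M (Nat.sub (T_bi u) (Nat.mod (T_bi u) M)) (nat_lit 40) (Nat.mod (T_bi u) M) u) (lF [T_z, T_t, T_bi, T_t, T_bi, T_t, T_bi, T_t] M (Nat.sub (T_bi u) (Nat.mod (T_bi u) M)) (Nat.mod (T_bi u) M) u) (Nat.ble (nat_lit 39) j)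
noncomputable def dp_bi_25 (j u : ℕ) : Bool :=
  Bool.rec (motive := fun _ => Bool) (lF [T_t, T_bi, T_t, T_bi, T_t, T_bi, T_z, T_t] M (Nat.sub (T_bi u) (Nat.mod (T_bi u) M)) (Nat.mod (T_bi u) M) u) (dp_bi_24 j u) (Nat.ble (nat_lit 38) j)
noncomputable def dp_bi_26 (j u : ℕ) : Bool :=
  Bool.rec (motive := fun _ => Bool) (dp_bi_23 j u) (dp_bi_25 j u) (Nat.ble (nat_lit 37) j)
noncomputable def dp_bi_27 (j u : ℕ) : Bool :=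
  Bool.rec (motive := fun _ => Bool) (dp_bi_21 j u) (dp_bi_26 j u) (Nat.ble (nat_lit 34) j)
noncomputable def dp_bi_28 (j u : ℕ) : Bool :=
  Bool.rec (motive := fun _ => Bool) (dp_bi_18 j u) (dp_bi_27 j u) (Nat.ble (nat_lit 30) j)
noncomputable def dp_bi_29 (j u : ℕ) : Bool :=
  Bool.rec (motive := fun _ => Bool) (dp_bi_15 j u) (dp_bi_28 j u) (Nat.ble (nat_lit 26) j)
noncomputable def dp_bi_30 (j u : ℕ) : Bool :=
  Bool.rec (motive := fun _ => Bool) (dp_bi_11 j u) (dp_bi_29 j u) (Nat.ble (nat_lit 21) j)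
noncomputable def dp_bi_31 (j u : ℕ) : Bool :=
  Bool.rec (motive := fun _ => Bool) (dp_bi_7 j u) (dp_bi_30 j u) (Nat.ble (nat_lit 16) j)
noncomputable def dp_bi_32 (j u : ℕ) : Bool :=
  Bool.rec (motive := fun _ => Bool) (Bool.rec (motive := fun _ => Bool) (dp_bi_0 j u) (dp_bi_2 j u) (Nat.ble (nat_lit 7) j)) (dp_bi_31 j u) (Nat.ble (nat_lit 10) j)
noncomputable def disp_bi (j u : ℕ) : Bool :=
  Bool.rec (motive := fun _ => Bool) (Bool.rec (motive := fun _ => Bool) (lF1 T_b M (Nat.sub (T_bi u) (Nat.mod (T_bi u) M)) (Nat.mod (T_bi u) M) u) (lDef P (nat_lit 5) (Nat.mod (T_bi u) M) u) (Nat.ble (nat_lit 1) j)) (Bool.rec (motive := fun _ => Bool) (Bool.rec (motive := fun _ => Bool) (lDef P (nat_lit 4) u (Nat.mod (T_bi u) M)) (Bool.rec (motive := fun _ => Bool) (lS MG [T_b] M (Nat.sub (T_bi u) (Nat.mod (T_bi u) M)) (nat_lit 40) (Nat.mod (T_bi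 u) M) u) (lF3 T_zi T_b T_z M (Nat.sub (T_bi u) (Nat.mod (T_bi u) M)) (Nat.mod (T_bi u) M) u) (Nat.ble (nat_lit 4) j)) (Nat.ble (nat_lit 3) j)) (dp_bi_32 j u) (Nat.ble (nat_lit 5) j)) (Nat.ble (nat_lit 2) j)
noncomputable def chk_bi (j u : ℕ) : Bool :=
  Bool.rec (motive := fun _ => Bool) (disp_bi j u) (Nat.ble (Nat.succ (MG u)) A) (Nat.ble A (T_bi u))
noncomputable def dp_t_0 (j u : ℕ) : Bool :=
  Bool.rec (motive := fun _ => Bool) (lF3 T_z T_ti T_zi M (Nat.sub (T_t u) (Nat.mod (T_t u) M)) (Nat.mod (T_t u) M) u) (lS MG [T_c, T_ti, T_c, T_c, T_ti, T_ti, T_ci, T_ci] M (Nat.sub (T_t u) (Nat.mod (T_t u) M)) (nat_lit 40) (Nat.mod (T_t u) M) u) (Nat.ble (nat_lit 6) j)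
noncomputable def dp_t_1 (j u : ℕ) : Bool :=
  Bool.rec (motive := fun _ => Bool) (lF3 T_zi T_ti T_z M (Nat.sub (T_t u) (Nat.mod (T_t u) M)) (Nat.mod (T_t u) M) u) (dp_t_0 j u) (Nat.ble (nat_lit 5) j)
noncomputable def dp_t_2 (j u : ℕ) : Bool :=
  Bool.rec (motive := fun _ => Bool) (lS MG [T_c, T_c, T_ti, T_ti, T_c, T_ti, T_ci, T_t] M (Nat.sub (T_t u) (Nat.mod (T_t u) M)) (nat_lit 40) (Nat.mod (T_t u) M) u) (lS MG [T_ci, T_ti, T_c, T_c, T_t, T_t, T_ci, T_ci] M (Nat.sub (T_t u) (Nat.mod (T_t u) M)) (nat_lit 40) (Nat.mod (T_t u) M) u) (Nat.ble (nat_lit 8) j)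
noncomputable def dp_t_3 (j u : ℕ) : Bool :=
  Bool.rec (motive := fun _ => Bool) (lS MG [T_ai, T_t, T_bi, T_t, T_t, T_b, T_ti, T_a] M (Nat.sub (T_t u) (Nat.mod (T_t u) M)) (nat_lit 40) (Nat.mod (T_t u) M) u) (lS MG [T_ci, T_ci, T_ti, T_ti, T_c, T_t, T_ci, T_t] M (Nat.sub (T_t u) (Nat.mod (T_t u) M)) (nat_lit 40) (Nat.mod (T_t u) M) u) (Nat.ble (nat_lit 11) j)
noncomputable def dp_t_4 (j u : ℕ) : Bool :=
  Bool.rec (motive := fun _ => Bool) (lF [T_ai, T_t, T_bi, T_t, T_t, T_b, T_ti, T_a] M (Nat.sub (T_t u) (Nat.mod (T_t u) M)) (Nat.mod (T_t u) M) u) (dp_t_3 j u) (Nat.ble (nat_lit 10) j)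
noncomputable def dp_t_5 (j u : ℕ) : Bool :=
  Bool.rec (motive := fun _ => Bool) (dp_t_2 j u) (dp_t_4 j u) (Nat.ble (nat_lit 9) j)
noncomputable def dp_t_6 (j u : ℕ) : Bool :=
  Bool.rec (motive := fun _ => Bool) (lF [T_ci, T_ci, T_t, T_ci, T_ti, T_c, T_c, T_t] M (Nat.sub (T_t u) (Nat.mod (T_t u) M)) (Nat.mod (T_t u) M) u) (lS MG [T_c, T_t, T_c, T_a, T_ti, T_ci, T_ti, T_a] M (Nat.sub (T_t u) (Nat.mod (T_t u) M)) (nat_lit 40) (Nat.mod (T_t u) M) u) (Nat.ble (nat_lit 14) j)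
noncomputable def dp_t_7 (j u : ℕ) : Bool :=
  Bool.rec (motive := fun _ => Bool) (lS MG [T_bi, T_ti, T_ti, T_b, T_ti, T_a, T_ti, T_ai] M (Nat.sub (T_t u) (Nat.mod (T_t u) M)) (nat_lit 40) (Nat.mod (T_t u) M) u) (dp_t_6 j u) (Nat.ble (nat_lit 13) j)
noncomputable def dp_t_8 (j u : ℕ) : Bool :=
  Bool.rec (motive := fun _ => Bool) (lS MG [T_t, T_ci, T_ci, T_t, T_ci, T_ti, T_c, T_c] M (Nat.sub (T_t u) (Nat.mod (T_t u) M)) (nat_lit 40) (Nat.mod (T_t u) M) u) (lS MG [T_ci, T_ci, T_t, T_ci, T_ti, T_c, T_c, T_t] M (Nat.sub (T_t u) (Nat.mod (T_t u) M)) (nat_lit 40) (Nat.mod (T_t u) M) u) (Nat.ble (nat_lit 17) j)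
noncomputable def dp_t_9 (j u : ℕ) : Bool :=
  Bool.rec (motive := fun _ => Bool) (lF [T_c, T_t, T_bi, T_ci, T_ti, T_ci, T_ti, T_bi] M (Nat.sub (T_t u) (Nat.mod (T_t u) M)) (Nat.mod (T_t u) M) u) (dp_t_8 j u) (Nat.ble (nat_lit 16) j)
noncomputable def dp_t_10 (j u : ℕ) : Bool :=
  Bool.rec (motive := fun _ => Bool) (dp_t_7 j u) (dp_t_9 j u) (Nat.ble (nat_lit 15) j)
noncomputable def dp_t_11 (j u : ℕ) : Bool :=
  Bool.rec (motive := fun _ => Bool) (dp_t_5 j u) (dp_t_10 j u) (Nat.ble (nat_lit 12) j)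
noncomputable def dp_t_12 (j u : ℕ) : Bool :=
  Bool.rec (motive := fun _ => Bool) (dp_t_1 j u) (dp_t_11 j u) (Nat.ble (nat_lit 7) j)
noncomputable def dp_t_13 (j u : ℕ) : Bool :=
  Bool.rec (motive := fun _ => Bool) (lS MG [T_c, T_t, T_c, T_b, T_ti, T_ci, T_ti, T_b] M (Nat.sub (T_t u) (Nat.mod (T_t u) M)) (nat_lit 40) (Nat.mod (T_t u) M) u) (lS MG [T_c, T_t, T_ai, T_ci, T_ti, T_ci, T_ti, T_ai] M (Nat.sub (T_t u) (Nat.mod (T_t u) M)) (nat_lit 40) (Nat.mod (T_t u) M) u) (Nat.ble (nat_lit 19) j)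
noncomputable def dp_t_14 (j u : ℕ) : Bool :=
  Bool.rec (motive := fun _ => Bool) (lS MG [T_a, T_ti, T_ci, T_ti, T_c, T_a, T_t, T_c] M (Nat.sub (T_t u) (Nat.mod (T_t u) M)) (nat_lit 40) (Nat.mod (T_t u) M) u) (lF [T_bi, T_t, T_t, T_b, T_ti, T_a, T_t, T_ai] M (Nat.sub (T_t u) (Nat.mod (T_t u) M)) (Nat.mod (T_t u) M) u) (Nat.ble (nat_lit 21) j)
noncomputable def dp_t_15 (j u : ℕ) : Bool :=
  Bool.rec (motive := fun _ => Bool) (dp_t_13 j u) (dp_t_14 j u) (Nat.ble (nat_lit 20) j)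
noncomputable def dp_t_16 (j u : ℕ) : Bool :=
  Bool.rec (motive := fun _ => Bool) (lF [T_b, T_ti, T_a, T_t, T_ai, T_t, T_bi, T_t] M (Nat.sub (T_t u) (Nat.mod (T_t u) M)) (Nat.mod (T_t u) M) u) (lS MG [T_bi, T_t, T_bi, T_z, T_t, T_bi, T_t, T_bi] M (Nat.sub (T_t u) (Nat.mod (T_t u) M)) (nat_lit 40) (Nat.mod (T_t u) M) u) (Nat.ble (nat_lit 23) j)
noncomputable def dp_t_17 (j u : ℕ) : Bool :=
  Bool.rec (motive := fun _ => Bool) (lS MG [T_bi, T_t, T_t, T_b, T_ti, T_a, T_t, T_ai] M (Nat.sub (T_t u) (Nat.mod (T_t u) M)) (nat_lit 40) (Nat.mod (T_t u) M) u) (lS MG [T_bi, T_ci, T_ti, T_ci, T_ti, T_bi, T_t, T_c] M (Nat.sub (T_t u) (Nat.mod (T_t u) M)) (nat_lit 40) (Nat.mod (T_t u) M) u) (Nat.ble (nat_lit 25) j)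
noncomputable def dp_t_18 (j u : ℕ) : Bool :=
  Bool.rec (motive := fun _ => Bool) (dp_t_16 j u) (dp_t_17 j u) (Nat.ble (nat_lit 24) j)
noncomputable def dp_t_19 (j u : ℕ) : Bool :=
  Bool.rec (motive := fun _ => Bool) (dp_t_15 j u) (dp_t_18 j u) (Nat.ble (nat_lit 22) j)
noncomputable def dp_t_20 (j u : ℕ) : Bool :=
  Bool.rec (motive := fun _ => Bool) (lF [T_ai, T_ti, T_ci, T_ti, T_ai, T_ci, T_t, T_c] M (Nat.sub (T_t u) (Nat.mod (T_t u) M)) (Nat.mod (T_t u) M) u) (lF [T_bi, T_t, T_bi, T_t, T_bi, T_t, T_bi, T_z] M (Nat.sub (T_t u) (Nat.mod (T_t u) M)) (Nat.mod (T_t u) M) u) (Nat.ble (nat_lit 27) j)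
noncomputable def dp_t_21 (j u : ℕ) : Bool :=
  Bool.rec (motive := fun _ => Bool) (lS MG [T_t, T_c, T_c, T_ti, T_ti, T_c, T_ti, T_ci] M (Nat.sub (T_t u) (Nat.mod (T_t u) M)) (nat_lit 40) (Nat.mod (T_t u) M) u) (lF [T_c, T_c, T_ti, T_ti, T_c, T_ti, T_ci, T_t] M (Nat.sub (T_t u) (Nat.mod (T_t u) M)) (Nat.mod (T_t u) M) u) (Nat.ble (nat_lit 30) j)
noncomputable def dp_t_22 (j u : ℕ) : Bool :=
  Bool.rec (motive := fun _ => Bool) (lS MG [T_ci, T_t, T_t, T_ci, T_ci, T_ti, T_ti, T_c] M (Nat.sub (T_t u) (Nat.mod (T_t u) M)) (nat_lit 40) (Nat.mod (T_t u) M) u) (dp_t_21 j u) (Nat.ble (nat_lit 29) j)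
noncomputable def dp_t_23 (j u : ℕ) : Bool :=
  Bool.rec (motive := fun _ => Bool) (dp_t_20 j u) (dp_t_22 j u) (Nat.ble (nat_lit 28) j)
noncomputable def dp_t_24 (j u : ℕ) : Bool :=
  Bool.rec (motive := fun _ => Bool) (lS MG [T_b, T_ti, T_a, T_t, T_ai, T_t, T_bi, T_t] M (Nat.sub (T_t u) (Nat.mod (T_t u) M)) (nat_lit 40) (Nat.mod (T_t u) M) u) (lS MG [T_c, T_t, T_bi, T_ci, T_ti, T_ci, T_ti, T_bi] M (Nat.sub (T_t u) (Nat.mod (T_t u) M)) (nat_lit 40) (Nat.mod (T_t u) M) u) (Nat.ble (nat_lit 33) j)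
noncomputable def dp_t_25 (j u : ℕ) : Bool :=
  Bool.rec (motive := fun _ => Bool) (lF [T_t, T_b, T_ti, T_a, T_t, T_ai, T_t, T_bi] M (Nat.sub (T_t u) (Nat.mod (T_t u) M)) (Nat.mod (T_t u) M) u) (dp_t_24 j u) (Nat.ble (nat_lit 32) j)
noncomputable def dp_t_26 (j u : ℕ) : Bool :=
  Bool.rec (motive := fun _ => Bool) (lF [T_c, T_t, T_a, T_ti, T_ci, T_ti, T_c, T_a] M (Nat.sub (T_t u) (Nat.mod (T_t u) M)) (Nat.mod (T_t u) M) u) (lS MG [T_t, T_ci, T_ci, T_ti, T_ti, T_c, T_t, T_ci] M (Nat.sub (T_t u) (Nat.mod (T_t u) M)) (nat_lit 40) (Nat.mod (T_t u) M) u) (Nat.ble (nat_lit 36) j)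
noncomputable def dp_t_27 (j u : ℕ) : Bool :=
  Bool.rec (motive := fun _ => Bool) (lF [T_ci, T_ci, T_ti, T_ti, T_c, T_t, T_ci, T_t] M (Nat.sub (T_t u) (Nat.mod (T_t u) M)) (Nat.mod (T_t u) M) u) (dp_t_26 j u) (Nat.ble (nat_lit 35) j)
noncomputable def dp_t_28 (j u : ℕ) : Bool :=
  Bool.rec (motive := fun _ => Bool) (dp_t_25 j u) (dp_t_27 j u) (Nat.ble (nat_lit 34) j)
noncomputable def dp_t_29 (j u : ℕ) : Bool :=
  Bool.rec (motive := fun _ => Bool) (dp_t_23 j u) (dp_t_28 j u) (Nat.ble (nat_lit 31) j)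
noncomputable def dp_t_30 (j u : ℕ) : Bool :=
  Bool.rec (motive := fun _ => Bool) (dp_t_19 j u) (dp_t_29 j u) (Nat.ble (nat_lit 26) j)
noncomputable def dp_t_31 (j u : ℕ) : Bool :=
  Bool.rec (motive := fun _ => Bool) (lF [T_ci, T_ti, T_c, T_c, T_t, T_t, T_ci, T_ci] M (Nat.sub (T_t u) (Nat.mod (T_t u) M)) (Nat.mod (T_t u) M) u) (lF [T_c, T_b, T_ti, T_ci, T_ti, T_b, T_t, T_c] M (Nat.sub (T_t u) (Nat.mod (T_t u) M)) (Nat.mod (T_t u) M) u) (Nat.ble (nat_lit 39) j)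
noncomputable def dp_t_32 (j u : ℕ) : Bool :=
  Bool.rec (motive := fun _ => Bool) (lS MG [T_ai, T_ci, T_ti, T_ci, T_ti, T_ai, T_t, T_c] M (Nat.sub (T_t u) (Nat.mod (T_t u) M)) (nat_lit 40) (Nat.mod (T_t u) M) u) (dp_t_31 j u) (Nat.ble (nat_lit 38) j)
noncomputable def dp_t_33 (j u : ℕ) : Bool :=
  Bool.rec (motive := fun _ => Bool) (lF [T_bi, T_ci, T_ti, T_ci, T_ti, T_bi, T_t, T_c] M (Nat.sub (T_t u) (Nat.mod (T_t u) M)) (Nat.mod (T_t u) M) u) (lS MG [T_b, T_ti, T_ci, T_ti, T_b, T_c, T_t, T_c] M (Nat.sub (T_t u) (Nat.mod (T_t u) M)) (nat_lit 40) (Nat.mod (T_t u) M) u) (Nat.ble (nat_lit 42) j)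
noncomputable def dp_t_34 (j u : ℕ) : Bool :=
  Bool.rec (motive := fun _ => Bool) (lF [T_bi, T_ti, T_ti, T_b, T_ti, T_a, T_ti, T_ai] M (Nat.sub (T_t u) (Nat.mod (T_t u) M)) (Nat.mod (T_t u) M) u) (dp_t_33 j u) (Nat.ble (nat_lit 41) j)
noncomputable def dp_t_35 (j u : ℕ) : Bool :=
  Bool.rec (motive := fun _ => Bool) (dp_t_32 j u) (dp_t_34 j u) (Nat.ble (nat_lit 40) j)
noncomputable def dp_t_36 (j u : ℕ) : Bool :=
  Bool.rec (motive := fun _ => Bool) (lF [T_c, T_t, T_b, T_ti, T_ci, T_ti, T_b, T_c] M (Nat.sub (T_t u) (Nat.mod (T_t u) M)) (Nat.mod (T_t u) M) u) (lS MG [T_c, T_t, T_bi, T_ti, T_ci, T_ti, T_bi, T_ci] M (Nat.sub (T_t u) (Nat.mod (T_t u) M)) (nat_lit 40) (Nat.mod (T_t u) M) u) (Nat.ble (nat_lit 45) j)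
noncomputable def dp_t_37 (j u : ℕ) : Bool :=
  Bool.rec (motive := fun _ => Bool) (lS MG [T_bi, T_ti, T_ci, T_ti, T_ci, T_bi, T_t, T_c] M (Nat.sub (T_t u) (Nat.mod (T_t u) M)) (nat_lit 40) (Nat.mod (T_t u) M) u) (dp_t_36 j u) (Nat.ble (nat_lit 44) j)
noncomputable def dp_t_38 (j u : ℕ) : Bool :=
  Bool.rec (motive := fun _ => Bool) (lS MG [T_bi, T_ti, T_ci, T_ti, T_bi, T_ci, T_t, T_c] M (Nat.sub (T_t u) (Nat.mod (T_t u) M)) (nat_lit 40) (Nat.mod (T_t u) M) u) (lF [T_c, T_t, T_c, T_b, T_ti, T_ci, T_ti, T_b] M (Nat.sub (T_t u) (Nat.mod (T_t u) M)) (Nat.mod (T_t u) M) u) (Nat.ble (nat_lit 47) j)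
noncomputable def dp_t_39 (j u : ℕ) : Bool :=
  Bool.rec (motive := fun _ => Bool) (lF [T_c, T_t, T_ai, T_ci, T_ti, T_ci, T_ti, T_ai] M (Nat.sub (T_t u) (Nat.mod (T_t u) M)) (Nat.mod (T_t u) M) u) (lF [T_ci, T_t, T_t, T_ci, T_ci, T_ti, T_ti, T_c] M (Nat.sub (T_t u) (Nat.mod (T_t u) M)) (Nat.mod (T_t u) M) u) (Nat.ble (nat_lit 49) j)
noncomputable def dp_t_40 (j u : ℕ) : Bool :=
  Bool.rec (motive := fun _ => Bool) (dp_t_38 j u) (dp_t_39 j u) (Nat.ble (nat_lit 48) j)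
noncomputable def dp_t_41 (j u : ℕ) : Bool :=
  Bool.rec (motive := fun _ => Bool) (dp_t_37 j u) (dp_t_40 j u) (Nat.ble (nat_lit 46) j)
noncomputable def dp_t_42 (j u : ℕ) : Bool :=
  Bool.rec (motive := fun _ => Bool) (dp_t_35 j u) (dp_t_41 j u) (Nat.ble (nat_lit 43) j)
noncomputable def dp_t_43 (j u : ℕ) : Bool :=
  Bool.rec (motive := fun _ => Bool) (lF [T_ai, T_ci, T_ti, T_ci, T_ti, T_ai, T_t, T_c] M (Nat.sub (T_t u) (Nat.mod (T_t u) M)) (Nat.mod (T_t u) M) u) (lF [T_bi, T_t, T_bi, T_t, T_bi, T_z, T_t, T_bi] M (Nat.sub (T_t u) (Nat.mod (T_t u) M)) (Nat.mod (T_t u) M) u) (Nat.ble (nat_lit 51) j)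
noncomputable def dp_t_44 (j u : ℕ) : Bool :=
  Bool.rec (motive := fun _ => Bool) (lS MG [T_t, T_b, T_ti, T_a, T_t, T_ai, T_t, T_bi] M (Nat.sub (T_t u) (Nat.mod (T_t u) M)) (nat_lit 40) (Nat.mod (T_t u) M) u) (lF [T_t, T_c, T_c, T_ti, T_ti, T_c, T_ti, T_ci] M (Nat.sub (T_t u) (Nat.mod (T_t u) M)) (Nat.mod (T_t u) M) u) (Nat.ble (nat_lit 53) j)
noncomputable def dp_t_45 (j u : ℕ) : Bool :=
  Bool.rec (motive := fun _ => Bool) (dp_t_43 j u) (dp_t_44 j u) (Nat.ble (nat_lit 52) j)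
noncomputable def dp_t_46 (j u : ℕ) : Bool :=
  Bool.rec (motive := fun _ => Bool) (lF [T_c, T_t, T_ai, T_ti, T_ci, T_ti, T_ai, T_ci] M (Nat.sub (T_t u) (Nat.mod (T_t u) M)) (Nat.mod (T_t u) M) u) (lS MG [T_c, T_t, T_bi, T_ti, T_ci, T_ti, T_ci, T_bi] M (Nat.sub (T_t u) (Nat.mod (T_t u) M)) (nat_lit 40) (Nat.mod (T_t u) M) u) (Nat.ble (nat_lit 56) j)
noncomputable def dp_t_47 (j u : ℕ) : Bool :=
  Bool.rec (motive := fun _ => Bool) (lF [T_bi, T_t, T_bi, T_z, T_t, T_bi, T_t, T_bi] M (Nat.sub (T_t u) (Nat.mod (T_t u) M)) (Nat.mod (T_t u) M) u) (dp_t_46 j u) (Nat.ble (nat_lit 55) j)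
noncomputable def dp_t_48 (j u : ℕ) : Bool :=
  Bool.rec (motive := fun _ => Bool) (lF [T_c, T_t, T_bi, T_ti, T_ci, T_ti, T_bi, T_ci] M (Nat.sub (T_t u) (Nat.mod (T_t u) M)) (Nat.mod (T_t u) M) u) (lS MG [T_c, T_t, T_b, T_ti, T_ci, T_ti, T_c, T_b] M (Nat.sub (T_t u) (Nat.mod (T_t u) M)) (nat_lit 40) (Nat.mod (T_t u) M) u) (Nat.ble (nat_lit 59) j)
noncomputable def dp_t_49 (j u : ℕ) : Bool :=
  Bool.rec (motive := fun _ => Bool) (lF [T_c, T_a, T_ti, T_ci, T_ti, T_a, T_t, T_c] M (Nat.sub (T_t u) (Nat.mod (T_t u) M)) (Nat.mod (T_t u) M) u) (dp_t_48 j u) (Nat.ble (nat_lit 58) j)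
noncomputable def dp_t_50 (j u : ℕ) : Bool :=
  Bool.rec (motive := fun _ => Bool) (dp_t_47 j u) (dp_t_49 j u) (Nat.ble (nat_lit 57) j)
noncomputable def dp_t_51 (j u : ℕ) : Bool :=
  Bool.rec (motive := fun _ => Bool) (dp_t_45 j u) (dp_t_50 j u) (Nat.ble (nat_lit 54) j)
noncomputable def dp_t_52 (j u : ℕ) : Bool :=
  Bool.rec (motive := fun _ => Bool) (lF [T_c, T_ti, T_c, T_c, T_ti, T_ti, T_ci, T_ci] M (Nat.sub (T_t u) (Nat.mod (T_t u) M)) (Nat.mod (T_t u) M) u) (lS MG [T_ai, T_ti, T_ci, T_ti, T_ai, T_ci, T_t, T_c] M (Nat.sub (T_t u) (Nat.mod (T_t u) M)) (nat_lit 40) (Nat.mod (T_t u) M) u) (Nat.ble (nat_lit 62) j)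
noncomputable def dp_t_53 (j u : ℕ) : Bool :=
  Bool.rec (motive := fun _ => Bool) (lS MG [T_c, T_a, T_ti, T_ci, T_ti, T_a, T_t, T_c] M (Nat.sub (T_t u) (Nat.mod (T_t u) M)) (nat_lit 40) (Nat.mod (T_t u) M) u) (dp_t_52 j u) (Nat.ble (nat_lit 61) j)
noncomputable def dp_t_54 (j u : ℕ) : Bool :=
  Bool.rec (motive := fun _ => Bool) (lF [T_t, T_ci, T_ci, T_t, T_ci, T_ti, T_c, T_c] M (Nat.sub (T_t u) (Nat.mod (T_t u) M)) (Nat.mod (T_t u) M) u) (lS MG [T_bi, T_t, T_bi, T_t, T_bi, T_z, T_t, T_bi] M (Nat.sub (T_t u) (Nat.mod (T_t u) M)) (nat_lit 40) (Nat.mod (T_t u) M) u) (Nat.ble (nat_lit 65) j)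
noncomputable def dp_t_55 (j u : ℕ) : Bool :=
  Bool.rec (motive := fun _ => Bool) (lF [T_t, T_ci, T_ci, T_ti, T_ti, T_c, T_t, T_ci] M (Nat.sub (T_t u) (Nat.mod (T_t u) M)) (Nat.mod (T_t u) M) u) (dp_t_54 j u) (Nat.ble (nat_lit 64) j)
noncomputable def dp_t_56 (j u : ℕ) : Bool :=
  Bool.rec (motive := fun _ => Bool) (dp_t_53 j u) (dp_t_55 j u) (Nat.ble (nat_lit 63) j)
noncomputable def dp_t_57 (j u : ℕ) : Bool :=
  Bool.rec (motive := fun _ => Bool) (lS MG [T_bi, T_z, T_t, T_bi, T_t, T_bi, T_t, T_bi] M (Nat.sub (T_t u) (Nat.mod (T_t u) M)) (nat_lit 40) (Nat.mod (T_t u) M) u) (lS MG [T_bi, T_t, T_bi, T_t, T_bi, T_t, T_bi, T_z] M (Nat.sub (T_t u) (Nat.mod (T_t u) M)) (nat_lit 40) (Nat.mod (T_t u) M) u) (Nat.ble (nat_lit 67) j)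
noncomputable def dp_t_58 (j u : ℕ) : Bool :=
  Bool.rec (motive := fun _ => Bool) (lF [T_c, T_t, T_b, T_ti, T_ci, T_ti, T_c, T_b] M (Nat.sub (T_t u) (Nat.mod (T_t u) M)) (Nat.mod (T_t u) M) u) (lS MG [T_zi, T_ti, T_z] M (Nat.sub (T_t u) (Nat.mod (T_t u) M)) (nat_lit 40) (Nat.mod (T_t u) M) u) (Nat.ble (nat_lit 70) j)
noncomputable def dp_t_59 (j u : ℕ) : Bool :=
  Bool.rec (motive := fun _ => Bool) (lF [T_c, T_t, T_c, T_a, T_ti, T_ci, T_ti, T_a] M (Nat.sub (T_t u) (Nat.mod (T_t u) M)) (Nat.mod (T_t u) M) u) (dp_t_58 j u) (Nat.ble (nat_lit 69) j)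
noncomputable def dp_t_60 (j u : ℕ) : Bool :=
  Bool.rec (motive := fun _ => Bool) (dp_t_57 j u) (dp_t_59 j u) (Nat.ble (nat_lit 68) j)
noncomputable def dp_t_61 (j u : ℕ) : Bool :=
  Bool.rec (motive := fun _ => Bool) (lS MG [T_c, T_t, T_a, T_ti, T_ci, T_ti, T_c, T_a] M (Nat.sub (T_t u) (Nat.mod (T_t u) M)) (nat_lit 40) (Nat.mod (T_t u) M) u) (lF [T_bi, T_ti, T_ci, T_ti, T_ci, T_bi, T_t, T_c] M (Nat.sub (T_t u) (Nat.mod (T_t u) M)) (Nat.mod (T_t u) M) u) (Nat.ble (nat_lit 73) j)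
noncomputable def dp_t_62 (j u : ℕ) : Bool :=
  Bool.rec (motive := fun _ => Bool) (lS MG [T_c, T_t, T_b, T_ti, T_ci, T_ti, T_b, T_c] M (Nat.sub (T_t u) (Nat.mod (T_t u) M)) (nat_lit 40) (Nat.mod (T_t u) M) u) (dp_t_61 j u) (Nat.ble (nat_lit 72) j)
noncomputable def dp_t_63 (j u : ℕ) : Bool :=
  Bool.rec (motive := fun _ => Bool) (lS MG [T_c, T_b, T_ti, T_ci, T_ti, T_b, T_t, T_c] M (Nat.sub (T_t u) (Nat.mod (T_t u) M)) (nat_lit 40) (Nat.mod (T_t u) M) u) (lF [T_b, T_ti, T_ci, T_ti, T_c, T_b, T_t, T_c] M (Nat.sub (T_t u) (Nat.mod (T_t u) M)) (Nat.mod (T_t u) M) u) (Nat.ble (nat_lit 76) j)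
noncomputable def dp_t_64 (j u : ℕ) : Bool :=
  Bool.rec (motive := fun _ => Bool) (lS MG [T_b, T_ti, T_ci, T_ti, T_c, T_b, T_t, T_c] M (Nat.sub (T_t u) (Nat.mod (T_t u) M)) (nat_lit 40) (Nat.mod (T_t u) M) u) (dp_t_63 j u) (Nat.ble (nat_lit 75) j)
noncomputable def dp_t_65 (j u : ℕ) : Bool :=
  Bool.rec (motive := fun _ => Bool) (dp_t_62 j u) (dp_t_64 j u) (Nat.ble (nat_lit 74) j)
noncomputable def dp_t_66 (j u : ℕ) : Bool :=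
  Bool.rec (motive := fun _ => Bool) (dp_t_60 j u) (dp_t_65 j u) (Nat.ble (nat_lit 71) j)
noncomputable def dp_t_67 (j u : ℕ) : Bool :=
  Bool.rec (motive := fun _ => Bool) (dp_t_56 j u) (dp_t_66 j u) (Nat.ble (nat_lit 66) j)
noncomputable def dp_t_68 (j u : ℕ) : Bool :=
  Bool.rec (motive := fun _ => Bool) (dp_t_51 j u) (dp_t_67 j u) (Nat.ble (nat_lit 60) j)
noncomputable def dp_t_69 (j u : ℕ) : Bool :=
  Bool.rec (motive := fun _ => Bool) (dp_t_42 j u) (dp_t_68 j u) (Nat.ble (nat_lit 50) j)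
noncomputable def dp_t_70 (j u : ℕ) : Bool :=
  Bool.rec (motive := fun _ => Bool) (dp_t_30 j u) (dp_t_69 j u) (Nat.ble (nat_lit 37) j)
noncomputable def dp_t_71 (j u : ℕ) : Bool :=
  Bool.rec (motive := fun _ => Bool) (dp_t_12 j u) (dp_t_70 j u) (Nat.ble (nat_lit 18) j)
noncomputable def disp_t (j u : ℕ) : Bool :=
  Bool.rec (motive := fun _ => Bool) (Bool.rec (motive := fun _ => Bool) (lF1 T_ti M (Nat.sub (T_t u) (Nat.mod (T_t u) M)) (Nat.mod (T_t u) M) u) (lDef P (nat_lit 6) (Nat.mod (T_t u) M) u) (Nat.ble (nat_lit 1) j)) (Bool.rec (motive := fun _ => Bool) (Bool.rec (motive := fun _ => Bool) (lDef P (nat_lit 7) u (Nat.mod (T_t u) M)) (lS MG [T_ti] M (Nat.sub (T_t u) (Nat.mod (T_t u) M)) (nat_lit 40) (Nat.mod (T_t u) M) u) (Nat.ble (nat_lit 3) j)) (dp_t_71 j u) (Nat.ble (nat_lit 4) j)) (Nat.ble (nat_lit 2) j)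
noncomputable def chk_t (j u : ℕ) : Bool :=
  Bool.rec (motive := fun _ => Bool) (disp_t j u) (Nat.ble (Nat.succ (MG u)) A) (Nat.ble A (T_t u))
noncomputable def dp_ti_0 (j u : ℕ) : Bool :=
  Bool.rec (motive := fun _ => Bool) (lF3 T_z T_t T_zi M (Nat.sub (T_ti u) (Nat.mod (T_ti u) M)) (Nat.mod (T_ti u) M) u) (lS MG [T_ti, T_c, T_t, T_ci, T_t, T_t, T_ci, T_ci] M (Nat.sub (T_ti u) (Nat.mod (T_ti u) M)) (nat_lit 40) (Nat.mod (T_ti u) M) u) (Nat.ble (nat_lit 6) j)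
noncomputable def dp_ti_1 (j u : ℕ) : Bool :=
  Bool.rec (motive := fun _ => Bool) (lF3 T_zi T_t T_z M (Nat.sub (T_ti u) (Nat.mod (T_ti u) M)) (Nat.mod (T_ti u) M) u) (dp_ti_0 j u) (Nat.ble (nat_lit 5) j)
noncomputable def dp_ti_2 (j u : ℕ) : Bool :=
  Bool.rec (motive := fun _ => Bool) (lS MG [T_c, T_ti, T_ci, T_t, T_t, T_c, T_c, T_ti] M (Nat.sub (T_ti u) (Nat.mod (T_ti u) M)) (nat_lit 40) (Nat.mod (T_ti u) M) u) (lS MG [T_ti, T_ci, T_ci, T_t, T_c, T_ti, T_c, T_c] M (Nat.sub (T_ti u) (Nat.mod (T_ti u) M)) (nat_lit 40) (Nat.mod (T_ti u) M) u) (Nat.ble (nat_lit 8) j)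
noncomputable def dp_ti_3 (j u : ℕ) : Bool :=
  Bool.rec (motive := fun _ => Bool) (lS MG [T_ai, T_t, T_bi, T_ti, T_ti, T_b, T_ti, T_a] M (Nat.sub (T_ti u) (Nat.mod (T_ti u) M)) (nat_lit 40) (Nat.mod (T_ti u) M) u) (lS MG [T_ci, T_ti, T_ai, T_ci, T_t, T_c, T_t, T_ai] M (Nat.sub (T_ti u) (Nat.mod (T_ti u) M)) (nat_lit 40) (Nat.mod (T_ti u) M) u) (Nat.ble (nat_lit 11) j)
noncomputable def dp_ti_4 (j u : ℕ) : Bool :=
  Bool.rec (motive := fun _ => Bool) (lS MG [T_c, T_t, T_ci, T_t, T_t, T_ci, T_ci, T_ti] M (Nat.sub (T_ti u) (Nat.mod (T_ti u) M)) (nat_lit 40) (Nat.mod (T_ti u) M) u) (dp_ti_3 j u) (Nat.ble (nat_lit 10) j)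
noncomputable def dp_ti_5 (j u : ℕ) : Bool :=
  Bool.rec (motive := fun _ => Bool) (dp_ti_2 j u) (dp_ti_4 j u) (Nat.ble (nat_lit 9) j)
noncomputable def dp_ti_6 (j u : ℕ) : Bool :=
  Bool.rec (motive := fun _ => Bool) (lF [T_ci, T_t, T_t, T_c, T_c, T_ti, T_ti, T_c] M (Nat.sub (T_ti u) (Nat.mod (T_ti u) M)) (Nat.mod (T_ti u) M) u) (lS MG [T_a, T_t, T_ai, T_t, T_bi, T_t, T_t, T_b] M (Nat.sub (T_ti u) (Nat.mod (T_ti u) M)) (nat_lit 40) (Nat.mod (T_ti u) M) u) (Nat.ble (nat_lit 14) j)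
noncomputable def dp_ti_7 (j u : ℕ) : Bool :=
  Bool.rec (motive := fun _ => Bool) (lS MG [T_ci, T_ci, T_t, T_c, T_ti, T_c, T_c, T_ti] M (Nat.sub (T_ti u) (Nat.mod (T_ti u) M)) (nat_lit 40) (Nat.mod (T_ti u) M) u) (dp_ti_6 j u) (Nat.ble (nat_lit 13) j)
noncomputable def dp_ti_8 (j u : ℕ) : Bool :=
  Bool.rec (motive := fun _ => Bool) (lF [T_c, T_t, T_ci, T_t, T_t, T_ci, T_ci, T_ti] M (Nat.sub (T_ti u) (Nat.mod (T_ti u) M)) (Nat.mod (T_ti u) M) u) (lS MG [T_a, T_ti, T_ai, T_t, T_bi, T_ti, T_ti, T_b] M (Nat.sub (T_ti u) (Nat.mod (T_ti u) M)) (nat_lit 40) (Nat.mod (T_ti u) M) u) (Nat.ble (nat_lit 16) j)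
noncomputable def dp_ti_9 (j u : ℕ) : Bool :=
  Bool.rec (motive := fun _ => Bool) (lS MG [T_ti, T_b, T_ti, T_a, T_ti, T_ai, T_t, T_bi] M (Nat.sub (T_ti u) (Nat.mod (T_ti u) M)) (nat_lit 40) (Nat.mod (T_ti u) M) u) (lF [T_c, T_c, T_ti, T_ti, T_ci, T_ci, T_t, T_c] M (Nat.sub (T_ti u) (Nat.mod (T_ti u) M)) (Nat.mod (T_ti u) M) u) (Nat.ble (nat_lit 18) j)
noncomputable def dp_ti_10 (j u : ℕ) : Bool :=
  Bool.rec (motive := fun _ => Bool) (dp_ti_8 j u) (dp_ti_9 j u) (Nat.ble (nat_lit 17) j)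
noncomputable def dp_ti_11 (j u : ℕ) : Bool :=
  Bool.rec (motive := fun _ => Bool) (dp_ti_7 j u) (dp_ti_10 j u) (Nat.ble (nat_lit 15) j)
noncomputable def dp_ti_12 (j u : ℕ) : Bool :=
  Bool.rec (motive := fun _ => Bool) (dp_ti_5 j u) (dp_ti_11 j u) (Nat.ble (nat_lit 12) j)
noncomputable def dp_ti_13 (j u : ℕ) : Bool :=
  Bool.rec (motive := fun _ => Bool) (dp_ti_1 j u) (dp_ti_12 j u) (Nat.ble (nat_lit 7) j)
noncomputable def dp_ti_14 (j u : ℕ) : Bool :=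
  Bool.rec (motive := fun _ => Bool) (lF [T_ai, T_ci, T_t, T_c, T_t, T_ai, T_ti, T_ci] M (Nat.sub (T_ti u) (Nat.mod (T_ti u) M)) (Nat.mod (T_ti u) M) u) (lF [T_bi, T_ci, T_t, T_c, T_t, T_bi, T_ti, T_ci] M (Nat.sub (T_ti u) (Nat.mod (T_ti u) M)) (Nat.mod (T_ti u) M) u) (Nat.ble (nat_lit 20) j)
noncomputable def dp_ti_15 (j u : ℕ) : Bool :=
  Bool.rec (motive := fun _ => Bool) (lF [T_ci, T_ci, T_t, T_c, T_ti, T_c, T_c, T_ti] M (Nat.sub (T_ti u) (Nat.mod (T_ti u) M)) (Nat.mod (T_ti u) M) u) (lF [T_ci, T_ti, T_bi, T_t, T_c, T_t, T_bi, T_ci] M (Nat.sub (T_ti u) (Nat.mod (T_ti u) M)) (Nat.mod (T_ti u) M) u) (Nat.ble (nat_lit 22) j)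
noncomputable def dp_ti_16 (j u : ℕ) : Bool :=
  Bool.rec (motive := fun _ => Bool) (dp_ti_14 j u) (dp_ti_15 j u) (Nat.ble (nat_lit 21) j)
noncomputable def dp_ti_17 (j u : ℕ) : Bool :=
  Bool.rec (motive := fun _ => Bool) (lS MG [T_ci, T_ti, T_bi, T_t, T_c, T_t, T_bi, T_ci] M (Nat.sub (T_ti u) (Nat.mod (T_ti u) M)) (nat_lit 40) (Nat.mod (T_ti u) M) u) (lS MG [T_ci, T_ti, T_a, T_t, T_c, T_t, T_c, T_a] M (Nat.sub (T_ti u) (Nat.mod (T_ti u) M)) (nat_lit 40) (Nat.mod (T_ti u) M) u) (Nat.ble (nat_lit 24) j)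
noncomputable def dp_ti_18 (j u : ℕ) : Bool :=
  Bool.rec (motive := fun _ => Bool) (lS MG [T_ci, T_ti, T_bi, T_ci, T_t, T_c, T_t, T_bi] M (Nat.sub (T_ti u) (Nat.mod (T_ti u) M)) (nat_lit 40) (Nat.mod (T_ti u) M) u) (lF [T_ci, T_ti, T_a, T_t, T_c, T_t, T_c, T_a] M (Nat.sub (T_ti u) (Nat.mod (T_ti u) M)) (Nat.mod (T_ti u) M) u) (Nat.ble (nat_lit 26) j)
noncomputable def dp_ti_19 (j u : ℕ) : Bool :=
  Bool.rec (motive := fun _ => Bool) (dp_ti_17 j u) (dp_ti_18 j u) (Nat.ble (nat_lit 25) j)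
noncomputable def dp_ti_20 (j u : ℕ) : Bool :=
  Bool.rec (motive := fun _ => Bool) (dp_ti_16 j u) (dp_ti_19 j u) (Nat.ble (nat_lit 23) j)
noncomputable def dp_ti_21 (j u : ℕ) : Bool :=
  Bool.rec (motive := fun _ => Bool) (lF [T_ci, T_ti, T_c, T_b, T_t, T_c, T_t, T_b] M (Nat.sub (T_ti u) (Nat.mod (T_ti u) M)) (Nat.mod (T_ti u) M) u) (lS MG [T_ai, T_t, T_c, T_t, T_ai, T_ci, T_ti, T_ci] M (Nat.sub (T_ti u) (Nat.mod (T_ti u) M)) (nat_lit 40) (Nat.mod (T_ti u) M) u) (Nat.ble (nat_lit 28) j)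
noncomputable def dp_ti_22 (j u : ℕ) : Bool :=
  Bool.rec (motive := fun _ => Bool) (lF [T_c, T_c, T_t, T_t, T_ci, T_ci, T_t, T_ci] M (Nat.sub (T_ti u) (Nat.mod (T_ti u) M)) (Nat.mod (T_ti u) M) u) (lS MG [T_zi, T_t, T_z] M (Nat.sub (T_ti u) (Nat.mod (T_ti u) M)) (nat_lit 40) (Nat.mod (T_ti u) M) u) (Nat.ble (nat_lit 31) j)
noncomputable def dp_ti_23 (j u : ℕ) : Bool :=
  Bool.rec (motive := fun _ => Bool) (lF [T_ti, T_ci, T_ci, T_t, T_c, T_ti, T_c, T_c] M (Nat.sub (T_ti u) (Nat.mod (T_ti u) M)) (Nat.mod (T_ti u) M) u) (dp_ti_22 j u) (Nat.ble (nat_lit 30) j)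
noncomputable def dp_ti_24 (j u : ℕ) : Bool :=
  Bool.rec (motive := fun _ => Bool) (dp_ti_21 j u) (dp_ti_23 j u) (Nat.ble (nat_lit 29) j)
noncomputable def dp_ti_25 (j u : ℕ) : Bool :=
  Bool.rec (motive := fun _ => Bool) (lS MG [T_ci, T_ti, T_c, T_b, T_t, T_c, T_t, T_b] M (Nat.sub (T_ti u) (Nat.mod (T_ti u) M)) (nat_lit 40) (Nat.mod (T_ti u) M) u) (lS MG [T_c, T_b, T_t, T_c, T_t, T_b, T_ti, T_ci] M (Nat.sub (T_ti u) (Nat.mod (T_ti u) M)) (nat_lit 40) (Nat.mod (T_ti u) M) u) (Nat.ble (nat_lit 34) j)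
noncomputable def dp_ti_26 (j u : ℕ) : Bool :=
  Bool.rec (motive := fun _ => Bool) (lS MG [T_ci, T_ti, T_c, T_a, T_t, T_c, T_t, T_a] M (Nat.sub (T_ti u) (Nat.mod (T_ti u) M)) (nat_lit 40) (Nat.mod (T_ti u) M) u) (dp_ti_25 j u) (Nat.ble (nat_lit 33) j)
noncomputable def dp_ti_27 (j u : ℕ) : Bool :=
  Bool.rec (motive := fun _ => Bool) (lF [T_ci, T_ti, T_ci, T_bi, T_t, T_c, T_t, T_bi] M (Nat.sub (T_ti u) (Nat.mod (T_ti u) M)) (Nat.mod (T_ti u) M) u) (lF [T_a, T_ti, T_ai, T_t, T_bi, T_ti, T_ti, T_b] M (Nat.sub (T_ti u) (Nat.mod (T_ti u) M)) (Nat.mod (T_ti u) M) u) (Nat.ble (nat_lit 37) j)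
noncomputable def dp_ti_28 (j u : ℕ) : Bool :=
  Bool.rec (motive := fun _ => Bool) (lS MG [T_ti, T_c, T_ti, T_ci, T_t, T_t, T_c, T_c] M (Nat.sub (T_ti u) (Nat.mod (T_ti u) M)) (nat_lit 40) (Nat.mod (T_ti u) M) u) (dp_ti_27 j u) (Nat.ble (nat_lit 36) j)
noncomputable def dp_ti_29 (j u : ℕ) : Bool :=
  Bool.rec (motive := fun _ => Bool) (dp_ti_26 j u) (dp_ti_28 j u) (Nat.ble (nat_lit 35) j)
noncomputable def dp_ti_30 (j u : ℕ) : Bool :=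
  Bool.rec (motive := fun _ => Bool) (dp_ti_24 j u) (dp_ti_29 j u) (Nat.ble (nat_lit 32) j)
noncomputable def dp_ti_31 (j u : ℕ) : Bool :=
  Bool.rec (motive := fun _ => Bool) (dp_ti_20 j u) (dp_ti_30 j u) (Nat.ble (nat_lit 27) j)
noncomputable def dp_ti_32 (j u : ℕ) : Bool :=
  Bool.rec (motive := fun _ => Bool) (lS MG [T_a, T_t, T_c, T_t, T_c, T_a, T_ti, T_ci] M (Nat.sub (T_ti u) (Nat.mod (T_ti u) M)) (nat_lit 40) (Nat.mod (T_ti u) M) u) (lS MG [T_b, T_ti, T_a, T_ti, T_ai, T_t, T_bi, T_ti] M (Nat.sub (T_ti u) (Nat.mod (T_ti u) M)) (nat_lit 40) (Nat.mod (T_ti u) M) u) (Nat.ble (nat_lit 40) j)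
noncomputable def dp_ti_33 (j u : ℕ) : Bool :=
  Bool.rec (motive := fun _ => Bool) (lS MG [T_b, T_ti, T_b, T_ti, T_zi, T_b, T_ti, T_b] M (Nat.sub (T_ti u) (Nat.mod (T_ti u) M)) (nat_lit 40) (Nat.mod (T_ti u) M) u) (dp_ti_32 j u) (Nat.ble (nat_lit 39) j)
noncomputable def dp_ti_34 (j u : ℕ) : Bool :=
  Bool.rec (motive := fun _ => Bool) (lF [T_b, T_ti, T_a, T_ti, T_ai, T_t, T_bi, T_ti] M (Nat.sub (T_ti u) (Nat.mod (T_ti u) M)) (Nat.mod (T_ti u) M) u) (lS MG [T_c, T_c, T_t, T_t, T_ci, T_ci, T_t, T_ci] M (Nat.sub (T_ti u) (Nat.mod (T_ti u) M)) (nat_lit 40) (Nat.mod (T_ti u) M) u) (Nat.ble (nat_lit 43) j)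
noncomputable def dp_ti_35 (j u : ℕ) : Bool :=
  Bool.rec (motive := fun _ => Bool) (lF [T_c, T_ti, T_ci, T_t, T_t, T_c, T_c, T_ti] M (Nat.sub (T_ti u) (Nat.mod (T_ti u) M)) (Nat.mod (T_ti u) M) u) (dp_ti_34 j u) (Nat.ble (nat_lit 42) j)
noncomputable def dp_ti_36 (j u : ℕ) : Bool :=
  Bool.rec (motive := fun _ => Bool) (dp_ti_33 j u) (dp_ti_35 j u) (Nat.ble (nat_lit 41) j)
noncomputable def dp_ti_37 (j u : ℕ) : Bool :=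
  Bool.rec (motive := fun _ => Bool) (lS MG [T_ci, T_ti, T_ci, T_bi, T_t, T_c, T_t, T_bi] M (Nat.sub (T_ti u) (Nat.mod (T_ti u) M)) (nat_lit 40) (Nat.mod (T_ti u) M) u) (lF [T_b, T_ti, T_b, T_ti, T_b, T_ti, T_zi, T_b] M (Nat.sub (T_ti u) (Nat.mod (T_ti u) M)) (Nat.mod (T_ti u) M) u) (Nat.ble (nat_lit 45) j)
noncomputable def dp_ti_38 (j u : ℕ) : Bool :=
  Bool.rec (motive := fun _ => Bool) (lF [T_c, T_a, T_t, T_c, T_t, T_a, T_ti, T_ci] M (Nat.sub (T_ti u) (Nat.mod (T_ti u) M)) (Nat.mod (T_ti u) M) u) (lF [T_ai, T_t, T_bi, T_ti, T_ti, T_b, T_ti, T_a] M (Nat.sub (T_ti u) (Nat.mod (T_ti u) M)) (Nat.mod (T_ti u) M) u) (Nat.ble (nat_lit 47) j)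
noncomputable def dp_ti_39 (j u : ℕ) : Bool :=
  Bool.rec (motive := fun _ => Bool) (dp_ti_37 j u) (dp_ti_38 j u) (Nat.ble (nat_lit 46) j)
noncomputable def dp_ti_40 (j u : ℕ) : Bool :=
  Bool.rec (motive := fun _ => Bool) (lS MG [T_ci, T_ti, T_b, T_t, T_c, T_t, T_c, T_b] M (Nat.sub (T_ti u) (Nat.mod (T_ti u) M)) (nat_lit 40) (Nat.mod (T_ti u) M) u) (lF [T_b, T_c, T_t, T_c, T_t, T_b, T_ti, T_ci] M (Nat.sub (T_ti u) (Nat.mod (T_ti u) M)) (Nat.mod (T_ti u) M) u) (Nat.ble (nat_lit 49) j)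
noncomputable def dp_ti_41 (j u : ℕ) : Bool :=
  Bool.rec (motive := fun _ => Bool) (lS MG [T_ci, T_t, T_t, T_c, T_c, T_ti, T_ti, T_c] M (Nat.sub (T_ti u) (Nat.mod (T_ti u) M)) (nat_lit 40) (Nat.mod (T_ti u) M) u) (lS MG [T_bi, T_ci, T_t, T_c, T_t, T_bi, T_ti, T_ci] M (Nat.sub (T_ti u) (Nat.mod (T_ti u) M)) (nat_lit 40) (Nat.mod (T_ti u) M) u) (Nat.ble (nat_lit 51) j)
noncomputable def dp_ti_42 (j u : ℕ) : Bool :=
  Bool.rec (motive := fun _ => Bool) (dp_ti_40 j u) (dp_ti_41 j u) (Nat.ble (nat_lit 50) j)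
noncomputable def dp_ti_43 (j u : ℕ) : Bool :=
  Bool.rec (motive := fun _ => Bool) (dp_ti_39 j u) (dp_ti_42 j u) (Nat.ble (nat_lit 48) j)
noncomputable def dp_ti_44 (j u : ℕ) : Bool :=
  Bool.rec (motive := fun _ => Bool) (dp_ti_36 j u) (dp_ti_43 j u) (Nat.ble (nat_lit 44) j)
noncomputable def dp_ti_45 (j u : ℕ) : Bool :=
  Bool.rec (motive := fun _ => Bool) (lF [T_ci, T_ti, T_b, T_t, T_c, T_t, T_c, T_b] M (Nat.sub (T_ti u) (Nat.mod (T_ti u) M)) (Nat.mod (T_ti u) M) u) (lF [T_ti, T_c, T_ti, T_ci, T_t, T_t, T_c, T_c] M (Nat.sub (T_ti u) (Nat.mod (T_ti u) M)) (Nat.mod (T_ti u) M) u) (Nat.ble (nat_lit 53) j)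
noncomputable def dp_ti_46 (j u : ℕ) : Bool :=
  Bool.rec (motive := fun _ => Bool) (lF [T_a, T_t, T_c, T_t, T_c, T_a, T_ti, T_ci] M (Nat.sub (T_ti u) (Nat.mod (T_ti u) M)) (Nat.mod (T_ti u) M) u) (lS MG [T_b, T_t, T_c, T_t, T_c, T_b, T_ti, T_ci] M (Nat.sub (T_ti u) (Nat.mod (T_ti u) M)) (nat_lit 40) (Nat.mod (T_ti u) M) u) (Nat.ble (nat_lit 56) j)
noncomputable def dp_ti_47 (j u : ℕ) : Bool :=
  Bool.rec (motive := fun _ => Bool) (lF [T_c, T_b, T_t, T_c, T_t, T_b, T_ti, T_ci] M (Nat.sub (T_ti u) (Nat.mod (T_ti u) M)) (Nat.mod (T_ti u) M) u) (dp_ti_46 j u) (Nat.ble (nat_lit 55) j)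
noncomputable def dp_ti_48 (j u : ℕ) : Bool :=
  Bool.rec (motive := fun _ => Bool) (dp_ti_45 j u) (dp_ti_47 j u) (Nat.ble (nat_lit 54) j)
noncomputable def dp_ti_49 (j u : ℕ) : Bool :=
  Bool.rec (motive := fun _ => Bool) (lS MG [T_ci, T_bi, T_t, T_c, T_t, T_bi, T_ti, T_ci] M (Nat.sub (T_ti u) (Nat.mod (T_ti u) M)) (nat_lit 40) (Nat.mod (T_ti u) M) u) (lS MG [T_ai, T_ci, T_t, T_c, T_t, T_ai, T_ti, T_ci] M (Nat.sub (T_ti u) (Nat.mod (T_ti u) M)) (nat_lit 40) (Nat.mod (T_ti u) M) u) (Nat.ble (nat_lit 59) j)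
noncomputable def dp_ti_50 (j u : ℕ) : Bool :=
  Bool.rec (motive := fun _ => Bool) (lF [T_b, T_t, T_c, T_t, T_c, T_b, T_ti, T_ci] M (Nat.sub (T_ti u) (Nat.mod (T_ti u) M)) (Nat.mod (T_ti u) M) u) (dp_ti_49 j u) (Nat.ble (nat_lit 58) j)
noncomputable def dp_ti_51 (j u : ℕ) : Bool :=
  Bool.rec (motive := fun _ => Bool) (lF [T_zi, T_b, T_ti, T_b, T_ti, T_b, T_ti, T_b] M (Nat.sub (T_ti u) (Nat.mod (T_ti u) M)) (Nat.mod (T_ti u) M) u) (lS MG [T_zi, T_b, T_ti, T_b, T_ti, T_b, T_ti, T_b] M (Nat.sub (T_ti u) (Nat.mod (T_ti u) M)) (nat_lit 40) (Nat.mod (T_ti u) M) u) (Nat.ble (nat_lit 62) j)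
noncomputable def dp_ti_52 (j u : ℕ) : Bool :=
  Bool.rec (motive := fun _ => Bool) (lS MG [T_b, T_ti, T_b, T_ti, T_b, T_ti, T_zi, T_b] M (Nat.sub (T_ti u) (Nat.mod (T_ti u) M)) (nat_lit 40) (Nat.mod (T_ti u) M) u) (dp_ti_51 j u) (Nat.ble (nat_lit 61) j)
noncomputable def dp_ti_53 (j u : ℕ) : Bool :=
  Bool.rec (motive := fun _ => Bool) (dp_ti_50 j u) (dp_ti_52 j u) (Nat.ble (nat_lit 60) j)
noncomputable def dp_ti_54 (j u : ℕ) : Bool :=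
  Bool.rec (motive := fun _ => Bool) (dp_ti_48 j u) (dp_ti_53 j u) (Nat.ble (nat_lit 57) j)
noncomputable def dp_ti_55 (j u : ℕ) : Bool :=
  Bool.rec (motive := fun _ => Bool) (lS MG [T_bi, T_t, T_c, T_t, T_bi, T_ci, T_ti, T_ci] M (Nat.sub (T_ti u) (Nat.mod (T_ti u) M)) (nat_lit 40) (Nat.mod (T_ti u) M) u) (lF [T_bi, T_t, T_c, T_t, T_bi, T_ci, T_ti, T_ci] M (Nat.sub (T_ti u) (Nat.mod (T_ti u) M)) (Nat.mod (T_ti u) M) u) (Nat.ble (nat_lit 65) j)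
noncomputable def dp_ti_56 (j u : ℕ) : Bool :=
  Bool.rec (motive := fun _ => Bool) (lF [T_ci, T_ti, T_ai, T_t, T_c, T_t, T_ai, T_ci] M (Nat.sub (T_ti u) (Nat.mod (T_ti u) M)) (Nat.mod (T_ti u) M) u) (dp_ti_55 j u) (Nat.ble (nat_lit 64) j)
noncomputable def dp_ti_57 (j u : ℕ) : Bool :=
  Bool.rec (motive := fun _ => Bool) (lF [T_ti, T_b, T_ti, T_a, T_ti, T_ai, T_t, T_bi] M (Nat.sub (T_ti u) (Nat.mod (T_ti u) M)) (Nat.mod (T_ti u) M) u) (lS MG [T_c, T_c, T_ti, T_ti, T_ci, T_ci, T_t, T_c] M (Nat.sub (T_ti u) (Nat.mod (T_ti u) M)) (nat_lit 40) (Nat.mod (T_ti u) M) u) (Nat.ble (nat_lit 68) j)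
noncomputable def dp_ti_58 (j u : ℕ) : Bool :=
  Bool.rec (motive := fun _ => Bool) (lF [T_ci, T_ti, T_bi, T_ci, T_t, T_c, T_t, T_bi] M (Nat.sub (T_ti u) (Nat.mod (T_ti u) M)) (Nat.mod (T_ti u) M) u) (dp_ti_57 j u) (Nat.ble (nat_lit 67) j)
noncomputable def dp_ti_59 (j u : ℕ) : Bool :=
  Bool.rec (motive := fun _ => Bool) (dp_ti_56 j u) (dp_ti_58 j u) (Nat.ble (nat_lit 66) j)
noncomputable def dp_ti_60 (j u : ℕ) : Bool :=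
  Bool.rec (motive := fun _ => Bool) (lS MG [T_ci, T_ti, T_ai, T_t, T_c, T_t, T_ai, T_ci] M (Nat.sub (T_ti u) (Nat.mod (T_ti u) M)) (nat_lit 40) (Nat.mod (T_ti u) M) u) (lS MG [T_b, T_c, T_t, T_c, T_t, T_b, T_ti, T_ci] M (Nat.sub (T_ti u) (Nat.mod (T_ti u) M)) (nat_lit 40) (Nat.mod (T_ti u) M) u) (Nat.ble (nat_lit 70) j)
noncomputable def dp_ti_61 (j u : ℕ) : Bool :=
  Bool.rec (motive := fun _ => Bool) (lS MG [T_z, T_t, T_zi] M (Nat.sub (T_ti u) (Nat.mod (T_ti u) M)) (nat_lit 40) (Nat.mod (T_ti u) M) u) (lF [T_ci, T_ti, T_b, T_c, T_t, T_c, T_t, T_b] M (Nat.sub (T_ti u) (Nat.mod (T_ti u) M)) (Nat.mod (T_ti u) M) u) (Nat.ble (nat_lit 73) j)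
noncomputable def dp_ti_62 (j u : ℕ) : Bool :=
  Bool.rec (motive := fun _ => Bool) (lF [T_b, T_ti, T_b, T_ti, T_zi, T_b, T_ti, T_b] M (Nat.sub (T_ti u) (Nat.mod (T_ti u) M)) (Nat.mod (T_ti u) M) u) (dp_ti_61 j u) (Nat.ble (nat_lit 72) j)
noncomputable def dp_ti_63 (j u : ℕ) : Bool :=
  Bool.rec (motive := fun _ => Bool) (dp_ti_60 j u) (dp_ti_62 j u) (Nat.ble (nat_lit 71) j)
noncomputable def dp_ti_64 (j u : ℕ) : Bool :=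
  Bool.rec (motive := fun _ => Bool) (lF [T_b, T_ti, T_zi, T_b, T_ti, T_b, T_ti, T_b] M (Nat.sub (T_ti u) (Nat.mod (T_ti u) M)) (Nat.mod (T_ti u) M) u) (lF [T_ci, T_ti, T_ai, T_ci, T_t, T_c, T_t, T_ai] M (Nat.sub (T_ti u) (Nat.mod (T_ti u) M)) (Nat.mod (T_ti u) M) u) (Nat.ble (nat_lit 76) j)
noncomputable def dp_ti_65 (j u : ℕ) : Bool :=
  Bool.rec (motive := fun _ => Bool) (lF [T_a, T_t, T_ai, T_t, T_bi, T_t, T_t, T_b] M (Nat.sub (T_ti u) (Nat.mod (T_ti u) M)) (Nat.mod (T_ti u) M) u) (dp_ti_64 j u) (Nat.ble (nat_lit 75) j)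
noncomputable def dp_ti_66 (j u : ℕ) : Bool :=
  Bool.rec (motive := fun _ => Bool) (lF [T_ci, T_ti, T_c, T_a, T_t, T_c, T_t, T_a] M (Nat.sub (T_ti u) (Nat.mod (T_ti u) M)) (Nat.mod (T_ti u) M) u) (lF [T_ti, T_c, T_t, T_ci, T_t, T_t, T_ci, T_ci] M (Nat.sub (T_ti u) (Nat.mod (T_ti u) M)) (Nat.mod (T_ti u) M) u) (Nat.ble (nat_lit 79) j)
noncomputable def dp_ti_67 (j u : ℕ) : Bool :=
  Bool.rec (motive := fun _ => Bool) (lS MG [T_ci, T_ti, T_b, T_c, T_t, T_c, T_t, T_b] M (Nat.sub (T_ti u) (Nat.mod (T_ti u) M)) (nat_lit 40) (Nat.mod (T_ti u) M) u) (dp_ti_66 j u) (Nat.ble (nat_lit 78) j)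
noncomputable def dp_ti_68 (j u : ℕ) : Bool :=
  Bool.rec (motive := fun _ => Bool) (dp_ti_65 j u) (dp_ti_67 j u) (Nat.ble (nat_lit 77) j)
noncomputable def dp_ti_69 (j u : ℕ) : Bool :=
  Bool.rec (motive := fun _ => Bool) (dp_ti_63 j u) (dp_ti_68 j u) (Nat.ble (nat_lit 74) j)
noncomputable def dp_ti_70 (j u : ℕ) : Bool :=
  Bool.rec (motive := fun _ => Bool) (dp_ti_59 j u) (dp_ti_69 j u) (Nat.ble (nat_lit 69) j)
noncomputable def dp_ti_71 (j u : ℕ) : Bool :=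
  Bool.rec (motive := fun _ => Bool) (dp_ti_54 j u) (dp_ti_70 j u) (Nat.ble (nat_lit 63) j)
noncomputable def dp_ti_72 (j u : ℕ) : Bool :=
  Bool.rec (motive := fun _ => Bool) (dp_ti_44 j u) (dp_ti_71 j u) (Nat.ble (nat_lit 52) j)
noncomputable def dp_ti_73 (j u : ℕ) : Bool :=
  Bool.rec (motive := fun _ => Bool) (dp_ti_31 j u) (dp_ti_72 j u) (Nat.ble (nat_lit 38) j)
noncomputable def dp_ti_74 (j u : ℕ) : Bool :=
  Bool.rec (motive := fun _ => Bool) (dp_ti_13 j u) (dp_ti_73 j u) (Nat.ble (nat_lit 19) j)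
noncomputable def disp_ti (j u : ℕ) : Bool :=
  Bool.rec (motive := fun _ => Bool) (Bool.rec (motive := fun _ => Bool) (lF1 T_t M (Nat.sub (T_ti u) (Nat.mod (T_ti u) M)) (Nat.mod (T_ti u) M) u) (lDef P (nat_lit 6) u (Nat.mod (T_ti u) M)) (Nat.ble (nat_lit 1) j)) (Bool.rec (motive := fun _ => Bool) (Bool.rec (motive := fun _ => Bool) (lDef P (nat_lit 7) (Nat.mod (T_ti u) M) u) (lS MG [T_t] M (Nat.sub (T_ti u) (Nat.mod (T_ti u) M)) (nat_lit 40) (Nat.mod (T_ti u) M) u) (Nat.ble (nat_lit 3) j)) (dp_ti_74 j u) (Nat.ble (nat_lit 4) j)) (Nat.ble (nat_lit 2) j)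
noncomputable def chk_ti (j u : ℕ) : Bool :=
  Bool.rec (motive := fun _ => Bool) (disp_ti j u) (Nat.ble (Nat.succ (MG u)) A) (Nat.ble A (T_ti u))
noncomputable def dp_z_0 (j u : ℕ) : Bool :=
  Bool.rec (motive := fun _ => Bool) (lS MG [T_t, T_zi, T_ti] M (Nat.sub (T_z u) (Nat.mod (T_z u) M)) (nat_lit 40) (Nat.mod (T_z u) M) u) (lS MG [T_a, T_zi, T_ai] M (Nat.sub (T_z u) (Nat.mod (T_z u) M)) (nat_lit 40) (Nat.mod (T_z u) M) u) (Nat.ble (nat_lit 4) j)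
noncomputable def dp_z_1 (j u : ℕ) : Bool :=
  Bool.rec (motive := fun _ => Bool) (lS MG [T_ai, T_zi, T_a] M (Nat.sub (T_z u) (Nat.mod (T_z u) M)) (nat_lit 40) (Nat.mod (T_z u) M) u) (lS MG [T_ti, T_zi, T_t] M (Nat.sub (T_z u) (Nat.mod (T_z u) M)) (nat_lit 40) (Nat.mod (T_z u) M) u) (Nat.ble (nat_lit 6) j)
noncomputable def dp_z_2 (j u : ℕ) : Bool :=
  Bool.rec (motive := fun _ => Bool) (lS MG [T_b, T_zi, T_bi] M (Nat.sub (T_z u) (Nat.mod (T_z u) M)) (nat_lit 40) (Nat.mod (T_z u) M) u) (lF3 T_z T_z T_z M (Nat.sub (T_z u) (Nat.mod (T_z u) M)) (Nat.mod (T_z u) M) u) (Nat.ble (nat_lit 9) j)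
noncomputable def dp_z_3 (j u : ℕ) : Bool :=
  Bool.rec (motive := fun _ => Bool) (lS MG [T_bi, T_zi, T_b] M (Nat.sub (T_z u) (Nat.mod (T_z u) M)) (nat_lit 40) (Nat.mod (T_z u) M) u) (dp_z_2 j u) (Nat.ble (nat_lit 8) j)
noncomputable def dp_z_4 (j u : ℕ) : Bool :=
  Bool.rec (motive := fun _ => Bool) (lS MG [T_c, T_zi, T_ci] M (Nat.sub (T_z u) (Nat.mod (T_z u) M)) (nat_lit 40) (Nat.mod (T_z u) M) u) (lS MG [T_zi] M (Nat.sub (T_z u) (Nat.mod (T_z u) M)) (nat_lit 40) (Nat.mod (T_z u) M) u) (Nat.ble (nat_lit 11) j)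
noncomputable def dp_z_5 (j u : ℕ) : Bool :=
  Bool.rec (motive := fun _ => Bool) (lF3 T_ai T_zi T_a M (Nat.sub (T_z u) (Nat.mod (T_z u) M)) (Nat.mod (T_z u) M) u) (lF3 T_t T_zi T_ti M (Nat.sub (T_z u) (Nat.mod (T_z u) M)) (Nat.mod (T_z u) M) u) (Nat.ble (nat_lit 13) j)
noncomputable def dp_z_6 (j u : ℕ) : Bool :=
  Bool.rec (motive := fun _ => Bool) (dp_z_4 j u) (dp_z_5 j u) (Nat.ble (nat_lit 12) j)
noncomputable def dp_z_7 (j u : ℕ) : Bool :=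
  Bool.rec (motive := fun _ => Bool) (lF3 T_b T_zi T_bi M (Nat.sub (T_z u) (Nat.mod (T_z u) M)) (Nat.mod (T_z u) M) u) (lF3 T_ti T_zi T_t M (Nat.sub (T_z u) (Nat.mod (T_z u) M)) (Nat.mod (T_z u) M) u) (Nat.ble (nat_lit 16) j)
noncomputable def dp_z_8 (j u : ℕ) : Bool :=
  Bool.rec (motive := fun _ => Bool) (lS MG [T_ci, T_zi, T_c] M (Nat.sub (T_z u) (Nat.mod (T_z u) M)) (nat_lit 40) (Nat.mod (T_z u) M) u) (dp_z_7 j u) (Nat.ble (nat_lit 15) j)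
noncomputable def dp_z_9 (j u : ℕ) : Bool :=
  Bool.rec (motive := fun _ => Bool) (lF3 T_a T_zi T_ai M (Nat.sub (T_z u) (Nat.mod (T_z u) M)) (Nat.mod (T_z u) M) u) (lF3 T_c T_zi T_ci M (Nat.sub (T_z u) (Nat.mod (T_z u) M)) (Nat.mod (T_z u) M) u) (Nat.ble (nat_lit 18) j)
noncomputable def dp_z_10 (j u : ℕ) : Bool :=
  Bool.rec (motive := fun _ => Bool) (lF3 T_ci T_zi T_c M (Nat.sub (T_z u) (Nat.mod (T_z u) M)) (Nat.mod (T_z u) M) u) (lS MG [T_z, T_z, T_z] M (Nat.sub (T_z u) (Nat.mod (T_z u) M)) (nat_lit 40) (Nat.mod (T_z u) M) u) (Nat.ble (nat_lit 21) j)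
noncomputable def dp_z_11 (j u : ℕ) : Bool :=
  Bool.rec (motive := fun _ => Bool) (lF3 T_bi T_zi T_b M (Nat.sub (T_z u) (Nat.mod (T_z u) M)) (Nat.mod (T_z u) M) u) (dp_z_10 j u) (Nat.ble (nat_lit 20) j)
noncomputable def dp_z_12 (j u : ℕ) : Bool :=
  Bool.rec (motive := fun _ => Bool) (dp_z_9 j u) (dp_z_11 j u) (Nat.ble (nat_lit 19) j)
noncomputable def dp_z_13 (j u : ℕ) : Bool :=
  Bool.rec (motive := fun _ => Bool) (dp_z_8 j u) (dp_z_12 j u) (Nat.ble (nat_lit 17) j)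
noncomputable def dp_z_14 (j u : ℕ) : Bool :=
  Bool.rec (motive := fun _ => Bool) (dp_z_6 j u) (dp_z_13 j u) (Nat.ble (nat_lit 14) j)
noncomputable def dp_z_15 (j u : ℕ) : Bool :=
  Bool.rec (motive := fun _ => Bool) (Bool.rec (motive := fun _ => Bool) (dp_z_1 j u) (dp_z_3 j u) (Nat.ble (nat_lit 7) j)) (dp_z_14 j u) (Nat.ble (nat_lit 10) j)
noncomputable def disp_z (j u : ℕ) : Bool :=
  Bool.rec (motive := fun _ => Bool) (Bool.rec (motive := fun _ => Bool) (lDef P (nat_lit 8) (Nat.mod (T_z u) M) u) (lF1 T_zi M (Nat.sub (T_z u) (Nat.mod (T_z u) M)) (Nat.mod (T_z u) M) u) (Nat.ble (nat_lit 1) j)) (Bool.rec (motive := fun _ => Bool) (Bool.rec (motive := fun _ => Bool) (lDef P (nat_lit 9) u (Nat.mod (T_z u) M)) (dp_z_0 j u) (Nat.ble (nat_lit 3) j)) (dp_z_15 j u) (Nat.ble (nat_lit 5) j)) (Nat.ble (nat_lit 2) j)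
noncomputable def chk_z (j u : ℕ) : Bool :=
  Bool.rec (motive := fun _ => Bool) (disp_z j u) (Nat.ble (Nat.succ (MG u)) A) (Nat.ble A (T_z u))
noncomputable def dp_zi_0 (j u : ℕ) : Bool :=
  Bool.rec (motive := fun _ => Bool) (lS MG [T_ai, T_z, T_a] M (Nat.sub (T_zi u) (Nat.mod (T_zi u) M)) (nat_lit 40) (Nat.mod (T_zi u) M) u) (lS MG [T_z] M (Nat.sub (T_zi u) (Nat.mod (T_zi u) M)) (nat_lit 40) (Nat.mod (T_zi u) M) u) (Nat.ble (nat_lit 6) j)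
noncomputable def dp_zi_1 (j u : ℕ) : Bool :=
  Bool.rec (motive := fun _ => Bool) (lS MG [T_t, T_z, T_ti] M (Nat.sub (T_zi u) (Nat.mod (T_zi u) M)) (nat_lit 40) (Nat.mod (T_zi u) M) u) (dp_zi_0 j u) (Nat.ble (nat_lit 5) j)
noncomputable def dp_zi_2 (j u : ℕ) : Bool :=
  Bool.rec (motive := fun _ => Bool) (lS MG [T_a, T_z, T_ai] M (Nat.sub (T_zi u) (Nat.mod (T_zi u) M)) (nat_lit 40) (Nat.mod (T_zi u) M) u) (lF3 T_t T_z T_ti M (Nat.sub (T_zi u) (Nat.mod (T_zi u) M)) (Nat.mod (T_zi u) M) u) (Nat.ble (nat_lit 9) j)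
noncomputable def dp_zi_3 (j u : ℕ) : Bool :=
  Bool.rec (motive := fun _ => Bool) (lS MG [T_b, T_z, T_bi] M (Nat.sub (T_zi u) (Nat.mod (T_zi u) M)) (nat_lit 40) (Nat.mod (T_zi u) M) u) (dp_zi_2 j u) (Nat.ble (nat_lit 8) j)
noncomputable def dp_zi_4 (j u : ℕ) : Bool :=
  Bool.rec (motive := fun _ => Bool) (dp_zi_1 j u) (dp_zi_3 j u) (Nat.ble (nat_lit 7) j)
noncomputable def dp_zi_5 (j u : ℕ) : Bool :=
  Bool.rec (motive := fun _ => Bool) (lF3 T_ti T_z T_t M (Nat.sub (T_zi u) (Nat.mod (T_zi u) M)) (Nat.mod (T_zi u) M) u) (lS MG [T_bi, T_z, T_b] M (Nat.sub (T_zi u) (Nat.mod (T_zi u) M)) (nat_lit 40) (Nat.mod (T_zi u) M) u) (Nat.ble (nat_lit 11) j)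
noncomputable def dp_zi_6 (j u : ℕ) : Bool :=
  Bool.rec (motive := fun _ => Bool) (lF3 T_a T_z T_ai M (Nat.sub (T_zi u) (Nat.mod (T_zi u) M)) (Nat.mod (T_zi u) M) u) (lF3 T_ai T_z T_a M (Nat.sub (T_zi u) (Nat.mod (T_zi u) M)) (Nat.mod (T_zi u) M) u) (Nat.ble (nat_lit 13) j)
noncomputable def dp_zi_7 (j u : ℕ) : Bool :=
  Bool.rec (motive := fun _ => Bool) (dp_zi_5 j u) (dp_zi_6 j u) (Nat.ble (nat_lit 12) j)
noncomputable def dp_zi_8 (j u : ℕ) : Bool :=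
  Bool.rec (motive := fun _ => Bool) (lF3 T_ci T_z T_c M (Nat.sub (T_zi u) (Nat.mod (T_zi u) M)) (Nat.mod (T_zi u) M) u) (lS MG [T_c, T_z, T_ci] M (Nat.sub (T_zi u) (Nat.mod (T_zi u) M)) (nat_lit 40) (Nat.mod (T_zi u) M) u) (Nat.ble (nat_lit 16) j)
noncomputable def dp_zi_9 (j u : ℕ) : Bool :=
  Bool.rec (motive := fun _ => Bool) (lF3 T_b T_z T_bi M (Nat.sub (T_zi u) (Nat.mod (T_zi u) M)) (Nat.mod (T_zi u) M) u) (dp_zi_8 j u) (Nat.ble (nat_lit 15) j)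
noncomputable def dp_zi_10 (j u : ℕ) : Bool :=
  Bool.rec (motive := fun _ => Bool) (lF3 T_c T_z T_ci M (Nat.sub (T_zi u) (Nat.mod (T_zi u) M)) (Nat.mod (T_zi u) M) u) (lF3 T_bi T_z T_b M (Nat.sub (T_zi u) (Nat.mod (T_zi u) M)) (Nat.mod (T_zi u) M) u) (Nat.ble (nat_lit 18) j)
noncomputable def dp_zi_11 (j u : ℕ) : Bool :=
  Bool.rec (motive := fun _ => Bool) (lS MG [T_b, T_ti, T_b, T_ti, T_b, T_ti, T_b, T_ti] M (Nat.sub (T_zi u) (Nat.mod (T_zi u) M)) (nat_lit 40) (Nat.mod (T_zi u) M) u) (lF [T_b, T_ti, T_b, T_ti, T_b, T_ti, T_b, T_ti] M (Nat.sub (T_zi u) (Nat.mod (T_zi u) M)) (Nat.mod (T_zi u) M) u) (Nat.ble (nat_lit 22) j)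
noncomputable def dp_zi_12 (j u : ℕ) : Bool :=
  Bool.rec (motive := fun _ => Bool) (lF3 T_zi T_zi T_zi M (Nat.sub (T_zi u) (Nat.mod (T_zi u) M)) (Nat.mod (T_zi u) M) u) (dp_zi_11 j u) (Nat.ble (nat_lit 21) j)
noncomputable def dp_zi_13 (j u : ℕ) : Bool :=
  Bool.rec (motive := fun _ => Bool) (lS MG [T_ci, T_z, T_c] M (Nat.sub (T_zi u) (Nat.mod (T_zi u) M)) (nat_lit 40) (Nat.mod (T_zi u) M) u) (dp_zi_12 j u) (Nat.ble (nat_lit 20) j)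
noncomputable def dp_zi_14 (j u : ℕ) : Bool :=
  Bool.rec (motive := fun _ => Bool) (dp_zi_10 j u) (dp_zi_13 j u) (Nat.ble (nat_lit 19) j)
noncomputable def dp_zi_15 (j u : ℕ) : Bool :=
  Bool.rec (motive := fun _ => Bool) (dp_zi_9 j u) (dp_zi_14 j u) (Nat.ble (nat_lit 17) j)
noncomputable def dp_zi_16 (j u : ℕ) : Bool :=
  Bool.rec (motive := fun _ => Bool) (dp_zi_7 j u) (dp_zi_15 j u) (Nat.ble (nat_lit 14) j)
noncomputable def dp_zi_17 (j u : ℕ) : Bool :=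
  Bool.rec (motive := fun _ => Bool) (dp_zi_4 j u) (dp_zi_16 j u) (Nat.ble (nat_lit 10) j)
noncomputable def dp_zi_18 (j u : ℕ) : Bool :=
  Bool.rec (motive := fun _ => Bool) (Bool.rec (motive := fun _ => Bool) (lDef P (nat_lit 9) (Nat.mod (T_zi u) M) u) (lS MG [T_ti, T_z, T_t] M (Nat.sub (T_zi u) (Nat.mod (T_zi u) M)) (nat_lit 40) (Nat.mod (T_zi u) M) u) (Nat.ble (nat_lit 3) j)) (dp_zi_17 j u) (Nat.ble (nat_lit 4) j)
noncomputable def disp_zi (j u : ℕ) : Bool :=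
  Bool.rec (motive := fun _ => Bool) (Bool.rec (motive := fun _ => Bool) (lF1 T_z M (Nat.sub (T_zi u) (Nat.mod (T_zi u) M)) (Nat.mod (T_zi u) M) u) (lDef P (nat_lit 8) u (Nat.mod (T_zi u) M)) (Nat.ble (nat_lit 1) j)) (dp_zi_18 j u) (Nat.ble (nat_lit 2) j)
noncomputable def chk_zi (j u : ℕ) : Bool :=
  Bool.rec (motive := fun _ => Bool) (disp_zi j u) (Nat.ble (Nat.succ (MG u)) A) (Nat.ble A (T_zi u))
noncomputable def dM_0 (j z1 z2 u : ℕ) : Bool :=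
  Bool.rec (motive := fun _ => Bool) (Bool.rec (motive := fun _ => Bool) (mCo MG T_zi M (Nat.sub (MG u) (Nat.mod (MG u) M)) (nat_lit 40) z1 z2 u (Nat.mod (MG u) M)) (Bool.rec (motive := fun _ => Bool) (mCo MG T_b M (Nat.sub (MG u) (Nat.mod (MG u) M)) (nat_lit 40) z1 z2 u (Nat.mod (MG u) M)) (mCo MG T_t M (Nat.sub (MG u) (Nat.mod (MG u) M)) (nat_lit 40) z1 z2 u (Nat.mod (MG u) M)) (Nat.ble (nat_lit 2) j)) (Nat.ble (nat_lit 1) j)) (Bool.rec (motive := fun _ => Bool) (mCo MG T_bi M (Nat.sub (MG u) (Nat.mod (MG u) M)) (nat_lit 40) z1 z2 u (Nat.mod (MG u) M)) (Bool.rec (motive := fun _ => Bool) (mCo MG T_ai M (Nat.sub (MG u) (Nat.mod (MG u) M)) (nat_lit 40) z1 z2 u (Nat.mod (MG u) M)) (mCo MG T_z M (Nat.sub (MG u) (Nat.mod (MG u) M)) (nat_lit 40) z1 z2 u (Nat.mod (MG u) M)) (Nat.ble (nat_lit 5) j)) (Nat.ble (nat_lit 4) j)) (Nat.ble (nat_lit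 3) j)
noncomputable def dM_1 (j z1 z2 u : ℕ) : Bool :=
  Bool.rec (motive := fun _ => Bool) (Bool.rec (motive := fun _ => Bool) (mCo MG T_a M (Nat.sub (MG u) (Nat.mod (MG u) M)) (nat_lit 40) z1 z2 u (Nat.mod (MG u) M)) (mCo MG T_ti M (Nat.sub (MG u) (Nat.mod (MG u) M)) (nat_lit 40) z1 z2 u (Nat.mod (MG u) M)) (Nat.ble (nat_lit 7) j)) (Bool.rec (motive := fun _ => Bool) (mCo MG T_ci M (Nat.sub (MG u) (Nat.mod (MG u) M)) (nat_lit 40) z1 z2 u (Nat.mod (MG u) M)) (Bool.rec (motive := fun _ => Bool) (mCo MG T_c M (Nat.sub (MG u) (Nat.mod (MG u) M)) (nat_lit 40) z1 z2 u (Nat.mod (MG u) M)) (Bool.rec (motive := fun _ => Bool) (Bool.rec (motive := fun _ => Bool) (mRel MG [T_c, T_bi, T_a, T_c] [T_a, T_bi] M (Nat.sub (MG u) (Nat.mod (MG u) M)) (nat_lit 40) z1 u (Nat.mod (MG u) M)) (Bool.rec (motive := fun _ => Bool) (mRel MG [T_ai, T_bi, T_a]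 [T_ci, T_ci, T_bi] M (Nat.sub (MG u) (Nat.mod (MG u) M)) (nat_lit 40) z1 u (Nat.mod (MG u) M)) (mRel MG [T_c, T_b, T_ai, T_c] [T_ai, T_b] M (Nat.sub (MG u) (Nat.mod (MG u) M)) (nat_lit 40) z1 u (Nat.mod (MG u) M)) (Nat.ble (nat_lit 12) j)) (Nat.ble (nat_lit 11) j)) (Bool.rec (motive := fun _ => Bool) (Bool.rec (motive := fun _ => Bool) (mRel MG [T_ci, T_a, T_bi] [T_bi, T_a, T_c] M (Nat.sub (MG u) (Nat.mod (MG u) M)) (nat_lit 40) z1 u (Nat.mod (MG u) M)) (mRel MG [T_bi, T_ai, T_ci] [T_c, T_ai, T_bi] M (Nat.sub (MG u) (Nat.mod (MG u) M)) (nat_lit 40) z1 u (Nat.mod (MG u) M)) (Nat.ble (nat_lit 14) j)) (Bool.rec (motive := fun _ => Bool) (mRel MG [T_ci, T_ai, T_b, T_ci] [T_b, T_ai] M (Nat.sub (MG u) (Nat.mod (MG u) M)) (nat_lit 40) z1 u (Nat.mod (MG u) M)) (Bool.rec (motive := fun _ => Bool) (mRel MG [T_ci, T_a, T_bi, T_ci] [T_bi, T_a] M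 (Nat.sub (MG u) (Nat.mod (MG u) M)) (nat_lit 40) z1 u (Nat.mod (MG u) M)) (mRel MG [T_b, T_c, T_c] [T_ai, T_b, T_a] M (Nat.sub (MG u) (Nat.mod (MG u) M)) (nat_lit 40) z1 u (Nat.mod (MG u) M)) (Nat.ble (nat_lit 17) j)) (Nat.ble (nat_lit 16) j)) (Nat.ble (nat_lit 15) j)) (Nat.ble (nat_lit 13) j)) (Nat.ble (nat_lit 10) j)) (Nat.ble (nat_lit 9) j)) (Nat.ble (nat_lit 8) j)
noncomputable def dM_2 (j z1 z2 u : ℕ) : Bool :=
  Bool.rec (motive := fun _ => Bool) (Bool.rec (motive := fun _ => Bool) (mRel MG [T_bi, T_ai, T_b, T_a] [T_c, T_c] M (Nat.sub (MG u) (Nat.mod (MG u) M)) (nat_lit 40) z1 u (Nat.mod (MG u) M)) (Bool.rec (motive := fun _ => Bool) (mRel MG [T_b, T_b, T_b] [T_bi, T_bi] M (Nat.sub (MG u) (Nat.mod (MG u) M)) (nat_lit 40) z1 u (Nat.mod (MG u) M)) (mRel MG [T_c, T_ai, T_bi, T_c] [T_bi, T_ai] M (Nat.sub (MG u) (Nat.mod (MG u) M))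 (nat_lit 40) z1 u (Nat.mod (MG u) M)) (Nat.ble (nat_lit 20) j)) (Nat.ble (nat_lit 19) j)) (Bool.rec (motive := fun _ => Bool) (mRel MG [T_bi, T_a, T_b, T_c] [T_a, T_ci] M (Nat.sub (MG u) (Nat.mod (MG u) M)) (nat_lit 40) z1 u (Nat.mod (MG u) M)) (Bool.rec (motive := fun _ => Bool) (mRel MG [T_bi, T_c] [T_a, T_ci, T_bi, T_ai] M (Nat.sub (MG u) (Nat.mod (MG u) M)) (nat_lit 40) z1 u (Nat.mod (MG u) M)) (mRel MG [T_bi, T_ai, T_b, T_a, T_ci] [T_c] M (Nat.sub (MG u) (Nat.mod (MG u) M)) (nat_lit 40) z1 u (Nat.mod (MG u) M)) (Nat.ble (nat_lit 23) j)) (Nat.ble (nat_lit 22) j)) (Nat.ble (nat_lit 21) j)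
noncomputable def dM_3 (j z1 z2 u : ℕ) : Bool :=
  Bool.rec (motive := fun _ => Bool) (Bool.rec (motive := fun _ => Bool) (Bool.rec (motive := fun _ => Bool) (mRel MG [T_a, T_ci, T_ci] [T_bi, T_a, T_b] M (Nat.sub (MG u) (Nat.mod (MG u) M)) (nat_lit 40) z1 u (Nat.mod (MG u) M)) (mRel MG [T_ai, T_c, T_bi, T_a, T_c] [T_bi] M (Nat.sub (MG u) (Nat.mod (MG u) M)) (nat_lit 40) z1 u (Nat.mod (MG u) M)) (Nat.ble (nat_lit 25) j)) (Bool.rec (motive := fun _ => Bool) (mRel MG [T_a, T_c, T_b, T_ai, T_c] [T_b] M (Nat.sub (MG u) (Nat.mod (MG u) M)) (nat_lit 40) z1 u (Nat.mod (MG u) M)) (mRel MG [T_c] [T_bi, T_ai, T_b, T_a, T_ci] M (Nat.sub (MG u) (Nat.mod (MG u) M)) (nat_lit 40) z1 u (Nat.mod (MG u) M)) (Nat.ble (nat_lit 27) j)) (Nat.ble (nat_lit 26) j)) (Bool.rec (motive := fun _ => Bool) (Bool.rec (motive := fun _ => Bool) (mRel MG [T_b, T_c] [T_ai,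 T_b, T_a, T_ci] M (Nat.sub (MG u) (Nat.mod (MG u) M)) (nat_lit 40) z1 u (Nat.mod (MG u) M)) (mRel MG [T_c, T_a] [T_b, T_a, T_ci, T_bi] M (Nat.sub (MG u) (Nat.mod (MG u) M)) (nat_lit 40) z1 u (Nat.mod (MG u) M)) (Nat.ble (nat_lit 29) j)) (Bool.rec (motive := fun _ => Bool) (mRel MG [T_ci, T_bi, T_ai, T_b] [T_c, T_ai] M (Nat.sub (MG u) (Nat.mod (MG u) M)) (nat_lit 40) z1 u (Nat.mod (MG u) M)) (mRel MG [T_ci, T_bi, T_ai, T_b, T_a, T_ci] [] M (Nat.sub (MG u) (Nat.mod (MG u) M)) (nat_lit 40) z1 u (Nat.mod (MG u) M)) (Nat.ble (nat_lit 31) j)) (Nat.ble (nat_lit 30) j)) (Nat.ble (nat_lit 28) j)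
noncomputable def dM_4 (j z1 z2 u : ℕ) : Bool :=
  Bool.rec (motive := fun _ => Bool) (dM_2 j z1 z2 u) (dM_3 j z1 z2 u) (Nat.ble (nat_lit 24) j)
noncomputable def dM_5 (j z1 z2 u : ℕ) : Bool :=
  Bool.rec (motive := fun _ => Bool) (Bool.rec (motive := fun _ => Bool) (Bool.rec (motive := fun _ => Bool) (mRel MG [T_c, T_b] [T_ai, T_b, T_ci, T_a] M (Nat.sub (MG u) (Nat.mod (MG u) M)) (nat_lit 40) z1 u (Nat.mod (MG u) M)) (mRel MG [T_ci, T_bi] [T_ai, T_bi, T_c, T_a] M (Nat.sub (MG u) (Nat.mod (MG u) M)) (nat_lit 40) z1 u (Nat.mod (MG u) M)) (Nat.ble (nat_lit 33) j)) (Bool.rec (motive := fun _ => Bool) (mRel MG [T_ai, T_ci, T_b, T_a] [T_b, T_c] M (Nat.sub (MG u) (Nat.mod (MG u) M)) (nat_lit 40) z1 u (Nat.mod (MG u) M)) (mRel MG [T_ai, T_b] [T_b, T_c, T_c, T_ai] M (Nat.sub (MG u) (Nat.mod (MG u) M)) (nat_lit 40) z1 u (Nat.mod (MG u) M)) (Nat.ble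 (nat_lit 35) j)) (Nat.ble (nat_lit 34) j)) (Bool.rec (motive := fun _ => Bool) (Bool.rec (motive := fun _ => Bool) (mRel MG [T_ai, T_bi, T_c, T_a] [T_ci, T_bi] M (Nat.sub (MG u) (Nat.mod (MG u) M)) (nat_lit 40) z1 u (Nat.mod (MG u) M)) (mRel MG [T_bi, T_a] [T_a, T_ci, T_ci, T_bi] M (Nat.sub (MG u) (Nat.mod (MG u) M)) (nat_lit 40) z1 u (Nat.mod (MG u) M)) (Nat.ble (nat_lit 37) j)) (Bool.rec (motive := fun _ => Bool) (mRel MG [T_c, T_a, T_b, T_c] [T_b, T_a] M (Nat.sub (MG u) (Nat.mod (MG u) M)) (nat_lit 40) z1 u (Nat.mod (MG u) M)) (mRel MG [T_ai, T_bi, T_c] [T_ci, T_bi, T_ai] M (Nat.sub (MG u) (Nat.mod (MG u) M)) (nat_lit 40) z1 u (Nat.mod (MG u) M)) (Nat.ble (nat_lit 39) j)) (Nat.ble (nat_lit 38) j)) (Nat.ble (nat_lit 36) j)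
noncomputable def dM_6 (j z1 z2 u : ℕ) : Bool :=
  Bool.rec (motive := fun _ => Bool) (Bool.rec (motive := fun _ => Bool) (Bool.rec (motive := fun _ => Bool) (mRel MG [T_b, T_b] [T_bi, T_bi, T_bi] M (Nat.sub (MG u) (Nat.mod (MG u) M)) (nat_lit 40) z1 u (Nat.mod (MG u) M)) (mRel MG [T_b, T_c] [T_ai, T_ci, T_b, T_a] M (Nat.sub (MG u) (Nat.mod (MG u) M)) (nat_lit 40) z1 u (Nat.mod (MG u) M)) (Nat.ble (nat_lit 41) j)) (Bool.rec (motive := fun _ => Bool) (mRel MG [T_b, T_ci, T_a, T_bi] [T_a, T_c] M (Nat.sub (MG u) (Nat.mod (MG u) M)) (nat_lit 40) z1 u (Nat.mod (MG u) M)) (Bool.rec (motive := fun _ => Bool) (mRel MG [T_t, T_c, T_ti, T_c, T_c, T_ti] [T_c, T_c, T_t] M (Nat.sub (MG u) (Nat.mod (MG u) M)) (nat_lit 40) z1 u (Nat.mod (MG u) M)) (mRel MG [T_ci, T_ti, T_ci, T_ti, T_ai] [T_a, T_ti, T_ci, T_ti] M (Nat.sub (MG u) (Nat.mod (MG u) M))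 (nat_lit 40) z1 u (Nat.mod (MG u) M)) (Nat.ble (nat_lit 44) j)) (Nat.ble (nat_lit 43) j)) (Nat.ble (nat_lit 42) j)) (Bool.rec (motive := fun _ => Bool) (Bool.rec (motive := fun _ => Bool) (mRel MG [T_bi, T_ai] [T_c, T_ai, T_bi, T_c] M (Nat.sub (MG u) (Nat.mod (MG u) M)) (nat_lit 40) z1 u (Nat.mod (MG u) M)) (Bool.rec (motive := fun _ => Bool) (mRel MG [T_ti, T_ci, T_t, T_t, T_c, T_c, T_ti] [T_ci, T_t] M (Nat.sub (MG u) (Nat.mod (MG u) M)) (nat_lit 40) z1 u (Nat.mod (MG u) M)) (mRel MG [T_a, T_ci, T_bi] [T_bi, T_c, T_a] M (Nat.sub (MG u) (Nat.mod (MG u) M)) (nat_lit 40) z1 u (Nat.mod (MG u) M)) (Nat.ble (nat_lit 47) j)) (Nat.ble (nat_lit 46) j)) (Bool.rec (motive := fun _ => Bool) (mRel MG [T_ci, T_ci, T_bi, T_ai] [T_ai, T_bi] M (Nat.sub (MG u) (Nat.mod (MG u) M)) (nat_lit 40) z1 u (Nat.mod (MG u) M)) (Bool.rec (motive := fun _ => Bool)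 (mRel MG [T_a, T_t, T_c, T_t, T_c] [T_t, T_c, T_t, T_ai] M (Nat.sub (MG u) (Nat.mod (MG u) M)) (nat_lit 40) z1 u (Nat.mod (MG u) M)) (mRel MG [T_c, T_c, T_ai, T_bi] [T_bi, T_ai] M (Nat.sub (MG u) (Nat.mod (MG u) M)) (nat_lit 40) z1 u (Nat.mod (MG u) M)) (Nat.ble (nat_lit 50) j)) (Nat.ble (nat_lit 49) j)) (Nat.ble (nat_lit 48) j)) (Nat.ble (nat_lit 45) j)
noncomputable def dM_7 (j z1 z2 u : ℕ) : Bool :=
  Bool.rec (motive := fun _ => Bool) (dM_5 j z1 z2 u) (dM_6 j z1 z2 u) (Nat.ble (nat_lit 40) j)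
noncomputable def dM_8 (j z1 z2 u : ℕ) : Bool :=
  Bool.rec (motive := fun _ => Bool) (dM_4 j z1 z2 u) (dM_7 j z1 z2 u) (Nat.ble (nat_lit 32) j)
noncomputable def dM_9 (j z1 z2 u : ℕ) : Bool :=
  Bool.rec (motive := fun _ => Bool) (Bool.rec (motive := fun _ => Bool) (Bool.rec (motive := fun _ => Bool) (mRel MG [T_c, T_b, T_ai] [T_ai, T_b, T_ci] M (Nat.sub (MG u) (Nat.mod (MG u) M)) (nat_lit 40) z1 u (Nat.mod (MG u) M)) (Bool.rec (motive := fun _ => Bool) (mRel MG [T_b, T_t, T_c, T_t, T_c] [T_t, T_c, T_t, T_bi] M (Nat.sub (MG u) (Nat.mod (MG u) M)) (nat_lit 40) z1 u (Nat.mod (MG u) M)) (mRel MG [T_bi, T_t, T_bi, T_z, T_t] [T_ti, T_b, T_ti, T_b] M (Nat.sub (MG u) (Nat.mod (MG u) M)) (nat_lit 40) z1 u (Nat.mod (MG u) M)) (Nat.ble (nat_lit 53) j)) (Nat.ble (nat_lit 52) j)) (Bool.rec (motive := fun _ => Bool) (mRel MG [T_ci, T_ci, T_bi] [T_ai,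 T_bi, T_a] M (Nat.sub (MG u) (Nat.mod (MG u) M)) (nat_lit 40) z1 u (Nat.mod (MG u) M)) (Bool.rec (motive := fun _ => Bool) (mRel MG [T_ti, T_bi, T_t, T_c, T_t, T_bi] [T_c, T_t, T_c] M (Nat.sub (MG u) (Nat.mod (MG u) M)) (nat_lit 40) z1 u (Nat.mod (MG u) M)) (mRel MG [T_a, T_b, T_c, T_ai] [T_ci, T_b] M (Nat.sub (MG u) (Nat.mod (MG u) M)) (nat_lit 40) z1 u (Nat.mod (MG u) M)) (Nat.ble (nat_lit 56) j)) (Nat.ble (nat_lit 55) j)) (Nat.ble (nat_lit 54) j)) (Bool.rec (motive := fun _ => Bool) (Bool.rec (motive := fun _ => Bool) (mRel MG [T_ci, T_bi, T_ai, T_ci] [T_ai, T_bi] M (Nat.sub (MG u) (Nat.mod (MG u) M)) (nat_lit 40) z1 u (Nat.mod (MG u) M)) (Bool.rec (motive := fun _ => Bool) (mRel MG [T_bi, T_bi, T_bi] [T_b, T_b] M (Nat.sub (MG u) (Nat.mod (MG u) M)) (nat_lit 40) z1 u (Nat.mod (MG u) M)) (mRel MG [T_c, T_t, T_c, T_b, T_ti, T_ci, T_ti,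 T_b] [T_ti] M (Nat.sub (MG u) (Nat.mod (MG u) M)) (nat_lit 40) z1 u (Nat.mod (MG u) M)) (Nat.ble (nat_lit 59) j)) (Nat.ble (nat_lit 58) j)) (Bool.rec (motive := fun _ => Bool) (mRel MG [T_b, T_a, T_ci, T_bi] [T_c, T_a] M (Nat.sub (MG u) (Nat.mod (MG u) M)) (nat_lit 40) z1 u (Nat.mod (MG u) M)) (Bool.rec (motive := fun _ => Bool) (mRel MG [T_a, T_bi, T_ci, T_ai] [T_c, T_bi] M (Nat.sub (MG u) (Nat.mod (MG u) M)) (nat_lit 40) z1 u (Nat.mod (MG u) M)) (mRel MG [T_ti, T_ci, T_ti] [T_c, T_a, T_ti, T_ci, T_ti, T_a] M (Nat.sub (MG u) (Nat.mod (MG u) M)) (nat_lit 40) z1 u (Nat.mod (MG u) M)) (Nat.ble (nat_lit 62) j)) (Nat.ble (nat_lit 61) j)) (Nat.ble (nat_lit 60) j)) (Nat.ble (nat_lit 57) j)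
noncomputable def dM_10 (j z1 z2 u : ℕ) : Bool :=
  Bool.rec (motive := fun _ => Bool) (Bool.rec (motive := fun _ => Bool) (Bool.rec (motive := fun _ => Bool) (mRel MG [T_c, T_ai] [T_ci, T_bi, T_ai, T_b] M (Nat.sub (MG u) (Nat.mod (MG u) M)) (nat_lit 40) z1 u (Nat.mod (MG u) M)) (Bool.rec (motive := fun _ => Bool) (mRel MG [T_ci, T_ti, T_b, T_c] [T_t, T_bi, T_ti, T_ci, T_ti] M (Nat.sub (MG u) (Nat.mod (MG u) M)) (nat_lit 40) z1 u (Nat.mod (MG u) M)) (mRel MG [T_ai, T_bi, T_a, T_b] [T_ci, T_ci] M (Nat.sub (MG u) (Nat.mod (MG u) M)) (nat_lit 40) z1 u (Nat.mod (MG u) M)) (Nat.ble (nat_lit 65) j)) (Nat.ble (nat_lit 64) j)) (Bool.rec (motive := fun _ => Bool) (mRel MG [T_ti, T_b, T_ti, T_a] [T_t, T_b, T_ti, T_a, T_t] M (Nat.sub (MG u) (Nat.mod (MG u) M)) (nat_lit 40) z1 u (Nat.mod (MG u) M)) (Bool.rec (motive := fun _ => Bool) (mRel MG [T_c,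 T_t, T_ci, T_t] [T_t, T_t, T_c, T_c, T_ti] M (Nat.sub (MG u) (Nat.mod (MG u) M)) (nat_lit 40) z1 u (Nat.mod (MG u) M)) (mRel MG [T_b, T_ti, T_a] [T_ti, T_ti, T_b, T_ti, T_a, T_ti] M (Nat.sub (MG u) (Nat.mod (MG u) M)) (nat_lit 40) z1 u (Nat.mod (MG u) M)) (Nat.ble (nat_lit 68) j)) (Nat.ble (nat_lit 67) j)) (Nat.ble (nat_lit 66) j)) (Bool.rec (motive := fun _ => Bool) (Bool.rec (motive := fun _ => Bool) (mRel MG [T_bi, T_ti, T_ti, T_b, T_ti, T_a, T_ti] [T_ti, T_a] M (Nat.sub (MG u) (Nat.mod (MG u) M)) (nat_lit 40) z1 u (Nat.mod (MG u) M)) (Bool.rec (motive := fun _ => Bool) (mRel MG [T_ai, T_b, T_a] [T_b, T_c, T_c] M (Nat.sub (MG u) (Nat.mod (MG u) M)) (nat_lit 40) z1 u (Nat.mod (MG u) M)) (mRel MG [T_t, T_ci, T_ci, T_ti] [T_ti, T_c, T_ti, T_ci, T_t] M (Nat.sub (MG u) (Nat.mod (MG u) M)) (nat_lit 40) z1 u (Nat.mod (MG u) M)) (Nat.ble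 (nat_lit 71) j)) (Nat.ble (nat_lit 70) j)) (Bool.rec (motive := fun _ => Bool) (mRel MG [T_b, T_ti, T_ci, T_ti, T_c] [T_ti, T_ci, T_ti, T_bi] M (Nat.sub (MG u) (Nat.mod (MG u) M)) (nat_lit 40) z1 u (Nat.mod (MG u) M)) (Bool.rec (motive := fun _ => Bool) (mRel MG [T_ti, T_ti, T_c, T_t, T_ci] [T_c, T_c, T_ti, T_ti] M (Nat.sub (MG u) (Nat.mod (MG u) M)) (nat_lit 40) z1 u (Nat.mod (MG u) M)) (mRel MG [T_a, T_c, T_b, T_ai] [T_b, T_ci] M (Nat.sub (MG u) (Nat.mod (MG u) M)) (nat_lit 40) z1 u (Nat.mod (MG u) M)) (Nat.ble (nat_lit 74) j)) (Nat.ble (nat_lit 73) j)) (Nat.ble (nat_lit 72) j)) (Nat.ble (nat_lit 69) j)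
noncomputable def dM_11 (j z1 z2 u : ℕ) : Bool :=
  Bool.rec (motive := fun _ => Bool) (dM_9 j z1 z2 u) (dM_10 j z1 z2 u) (Nat.ble (nat_lit 63) j)
noncomputable def dM_12 (j z1 z2 u : ℕ) : Bool :=
  Bool.rec (motive := fun _ => Bool) (Bool.rec (motive := fun _ => Bool) (Bool.rec (motive := fun _ => Bool) (mRel MG [T_ci, T_ci, T_t, T_c, T_ti, T_c, T_c] [T_t, T_t] M (Nat.sub (MG u) (Nat.mod (MG u) M)) (nat_lit 40) z1 u (Nat.mod (MG u) M)) (Bool.rec (motive := fun _ => Bool) (mRel MG [T_c, T_t, T_ci, T_t, T_t, T_ci, T_ci, T_ti] [T_t] M (Nat.sub (MG u) (Nat.mod (MG u) M)) (nat_lit 40) z1 u (Nat.mod (MG u) M)) (mRel MG [T_ci, T_ti, T_c, T_b, T_t, T_c, T_t] [T_t, T_bi] M (Nat.sub (MG u) (Nat.mod (MG u) M)) (nat_lit 40) z1 u (Nat.mod (MG u) M)) (Nat.ble (nat_lit 77) j)) (Nat.ble (nat_lit 76) j)) (Bool.rec (motive := fun _ => Bool) (mRel MG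 [T_bi, T_ci, T_ti, T_ci, T_ti, T_bi] [T_ti, T_ci, T_ti] M (Nat.sub (MG u) (Nat.mod (MG u) M)) (nat_lit 40) z1 u (Nat.mod (MG u) M)) (Bool.rec (motive := fun _ => Bool) (mRel MG [T_bi, T_ai] [T_c, T_c, T_ai, T_bi] M (Nat.sub (MG u) (Nat.mod (MG u) M)) (nat_lit 40) z1 u (Nat.mod (MG u) M)) (mRel MG [T_b, T_ai] [T_ci, T_ai, T_b, T_ci] M (Nat.sub (MG u) (Nat.mod (MG u) M)) (nat_lit 40) z1 u (Nat.mod (MG u) M)) (Nat.ble (nat_lit 80) j)) (Nat.ble (nat_lit 79) j)) (Nat.ble (nat_lit 78) j)) (Bool.rec (motive := fun _ => Bool) (Bool.rec (motive := fun _ => Bool) (mRel MG [T_bi, T_ti, T_ci, T_ti, T_bi] [T_ti, T_ci, T_ti, T_c] M (Nat.sub (MG u) (Nat.mod (MG u) M)) (nat_lit 40) z1 u (Nat.mod (MG u) M)) (Bool.rec (motive := fun _ => Bool) (mRel MG [T_a, T_ci, T_bi, T_ai] [T_bi, T_c] M (Nat.sub (MG u) (Nat.mod (MG u) M)) (nat_lit 40) z1 u (Nat.mod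 (MG u) M)) (mRel MG [T_t, T_t, T_b] [T_b, T_ti, T_a, T_ti, T_ai, T_t] M (Nat.sub (MG u) (Nat.mod (MG u) M)) (nat_lit 40) z1 u (Nat.mod (MG u) M)) (Nat.ble (nat_lit 83) j)) (Nat.ble (nat_lit 82) j)) (Bool.rec (motive := fun _ => Bool) (mRel MG [T_c, T_a, T_ti, T_ci, T_ti, T_a] [T_ti, T_ci, T_ti] M (Nat.sub (MG u) (Nat.mod (MG u) M)) (nat_lit 40) z1 u (Nat.mod (MG u) M)) (Bool.rec (motive := fun _ => Bool) (mRel MG [T_b, T_ti, T_a, T_ti, T_ai, T_t] [T_t, T_t, T_b] M (Nat.sub (MG u) (Nat.mod (MG u) M)) (nat_lit 40) z1 u (Nat.mod (MG u) M)) (mRel MG [T_ci, T_ti, T_ti] [T_c, T_ti, T_ti, T_c, T_ti, T_ci] M (Nat.sub (MG u) (Nat.mod (MG u) M)) (nat_lit 40) z1 u (Nat.mod (MG u) M)) (Nat.ble (nat_lit 86) j)) (Nat.ble (nat_lit 85) j)) (Nat.ble (nat_lit 84) j)) (Nat.ble (nat_lit 81) j)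
noncomputable def dM_13 (j z1 z2 u : ℕ) : Bool :=
  Bool.rec (motive := fun _ => Bool) (Bool.rec (motive := fun _ => Bool) (mRel MG [T_ai, T_b, T_a, T_ci] [T_b, T_c] M (Nat.sub (MG u) (Nat.mod (MG u) M)) (nat_lit 40) z1 u (Nat.mod (MG u) M)) (Bool.rec (motive := fun _ => Bool) (mRel MG [T_a, T_b, T_c] [T_ci, T_b, T_a] M (Nat.sub (MG u) (Nat.mod (MG u) M)) (nat_lit 40) z1 u (Nat.mod (MG u) M)) (mRel MG [T_bi, T_ai, T_b] [T_c, T_c, T_ai] M (Nat.sub (MG u) (Nat.mod (MG u) M)) (nat_lit 40) z1 u (Nat.mod (MG u) M)) (Nat.ble (nat_lit 89) j)) (Nat.ble (nat_lit 88) j)) (Bool.rec (motive := fun _ => Bool) (mRel MG [T_ai, T_b, T_ci] [T_c, T_b, T_ai] M (Nat.sub (MG u) (Nat.mod (MG u) M)) (nat_lit 40) z1 u (Nat.mod (MG u) M)) (Bool.rec (motive := fun _ => Bool) (mRel MG [T_ci, T_bi] [T_c, T_ai, T_bi, T_a] M (Nat.sub (MG u) (Nat.mod (MG u) M)) (nat_lit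 40) z1 u (Nat.mod (MG u) M)) (mRel MG [T_a, T_ti, T_ai, T_t, T_bi] [T_t, T_bi, T_t, T_t] M (Nat.sub (MG u) (Nat.mod (MG u) M)) (nat_lit 40) z1 u (Nat.mod (MG u) M)) (Nat.ble (nat_lit 92) j)) (Nat.ble (nat_lit 91) j)) (Nat.ble (nat_lit 90) j)
noncomputable def dM_14 (j z1 z2 u : ℕ) : Bool :=
  Bool.rec (motive := fun _ => Bool) (Bool.rec (motive := fun _ => Bool) (Bool.rec (motive := fun _ => Bool) (mRel MG [T_ai, T_bi, T_a, T_b, T_c] [T_ci] M (Nat.sub (MG u) (Nat.mod (MG u) M)) (nat_lit 40) z1 u (Nat.mod (MG u) M)) (mRel MG [T_c, T_c, T_ti] [T_t, T_ci, T_ti, T_c, T_c, T_t] M (Nat.sub (MG u) (Nat.mod (MG u) M)) (nat_lit 40) z1 u (Nat.mod (MG u) M)) (Nat.ble (nat_lit 94) j)) (Bool.rec (motive := fun _ => Bool) (mRel MG [T_c, T_t, T_bi, T_ti, T_ci, T_ti] [T_ti, T_b, T_c] M (Nat.sub (MG u) (Nat.mod (MG u) M)) (nat_lit 40) z1 u (Nat.mod (MG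 u) M)) (Bool.rec (motive := fun _ => Bool) (mRel MG [T_b, T_a, T_ci, T_ci] [T_a, T_b] M (Nat.sub (MG u) (Nat.mod (MG u) M)) (nat_lit 40) z1 u (Nat.mod (MG u) M)) (mRel MG [T_c, T_t, T_b, T_ti, T_ci, T_ti] [T_ti, T_ci, T_bi] M (Nat.sub (MG u) (Nat.mod (MG u) M)) (nat_lit 40) z1 u (Nat.mod (MG u) M)) (Nat.ble (nat_lit 97) j)) (Nat.ble (nat_lit 96) j)) (Nat.ble (nat_lit 95) j)) (Bool.rec (motive := fun _ => Bool) (Bool.rec (motive := fun _ => Bool) (mRel MG [T_ci, T_t, T_ci, T_ti, T_c, T_c] [T_c, T_ti, T_ti] M (Nat.sub (MG u) (Nat.mod (MG u) M)) (nat_lit 40) z1 u (Nat.mod (MG u) M)) (Bool.rec (motive := fun _ => Bool) (mRel MG [T_ci, T_ci, T_t] [T_ti, T_ti, T_ci, T_ci, T_t, T_c] M (Nat.sub (MG u) (Nat.mod (MG u) M)) (nat_lit 40) z1 u (Nat.mod (MG u) M)) (mRel MG [T_t, T_c, T_ti] [T_c, T_c, T_t, T_t, T_ci, T_ci] M (Nat.sub (MG u) (Nat.mod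 (MG u) M)) (nat_lit 40) z1 u (Nat.mod (MG u) M)) (Nat.ble (nat_lit 100) j)) (Nat.ble (nat_lit 99) j)) (Bool.rec (motive := fun _ => Bool) (mRel MG [T_ci, T_t] [T_c, T_ti, T_ti, T_ci, T_ci, T_t, T_c] M (Nat.sub (MG u) (Nat.mod (MG u) M)) (nat_lit 40) z1 u (Nat.mod (MG u) M)) (Bool.rec (motive := fun _ => Bool) (mRel MG [T_ci, T_ai, T_b, T_ci, T_a, T_bi] [] M (Nat.sub (MG u) (Nat.mod (MG u) M)) (nat_lit 40) z1 u (Nat.mod (MG u) M)) (mRel MG [T_ci, T_bi, T_ai, T_ci, T_b] [T_ai] M (Nat.sub (MG u) (Nat.mod (MG u) M)) (nat_lit 40) z1 u (Nat.mod (MG u) M)) (Nat.ble (nat_lit 103) j)) (Nat.ble (nat_lit 102) j)) (Nat.ble (nat_lit 101) j)) (Nat.ble (nat_lit 98) j)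
noncomputable def dM_15 (j z1 z2 u : ℕ) : Bool :=
  Bool.rec (motive := fun _ => Bool) (dM_13 j z1 z2 u) (dM_14 j z1 z2 u) (Nat.ble (nat_lit 93) j)
noncomputable def dM_16 (j z1 z2 u : ℕ) : Bool :=
  Bool.rec (motive := fun _ => Bool) (dM_12 j z1 z2 u) (dM_15 j z1 z2 u) (Nat.ble (nat_lit 87) j)
noncomputable def dM_17 (j z1 z2 u : ℕ) : Bool :=
  Bool.rec (motive := fun _ => Bool) (dM_11 j z1 z2 u) (dM_16 j z1 z2 u) (Nat.ble (nat_lit 75) j)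
noncomputable def dM_18 (j z1 z2 u : ℕ) : Bool :=
  Bool.rec (motive := fun _ => Bool) (dM_8 j z1 z2 u) (dM_17 j z1 z2 u) (Nat.ble (nat_lit 51) j)
noncomputable def dM_19 (j z1 z2 u : ℕ) : Bool :=
  Bool.rec (motive := fun _ => Bool) (Bool.rec (motive := fun _ => Bool) (Bool.rec (motive := fun _ => Bool) (mRel MG [T_ci, T_ti, T_ai] [T_t, T_a, T_ti, T_ci, T_ti, T_c] M (Nat.sub (MG u) (Nat.mod (MG u) M)) (nat_lit 40) z1 u (Nat.mod (MG u) M)) (Bool.rec (motive := fun _ => Bool) (mRel MG [T_a, T_ci] [T_bi, T_a, T_b, T_c] M (Nat.sub (MG u) (Nat.mod (MG u) M)) (nat_lit 40) z1 u (Nat.mod (MG u) M)) (mRel MG [T_ci, T_ti, T_b] [T_t, T_bi, T_ti, T_ci, T_ti, T_ci] M (Nat.sub (MG u) (Nat.mod (MG u) M)) (nat_lit 40) z1 u (Nat.mod (MG u) M)) (Nat.ble (nat_lit 106) j)) (Nat.ble (nat_lit 105) j)) (Bool.rec (motive := fun _ => Bool) (mRel MG [T_bi, T_ti,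 T_ci, T_ti] [T_ti, T_ci, T_ti, T_b, T_c] M (Nat.sub (MG u) (Nat.mod (MG u) M)) (nat_lit 40) z1 u (Nat.mod (MG u) M)) (Bool.rec (motive := fun _ => Bool) (mRel MG [T_c] [T_ai, T_b, T_ci, T_a, T_bi] M (Nat.sub (MG u) (Nat.mod (MG u) M)) (nat_lit 40) z1 u (Nat.mod (MG u) M)) (mRel MG [T_bi, T_t, T_bi, T_t, T_bi] [T_ti, T_zi, T_b, T_ti] M (Nat.sub (MG u) (Nat.mod (MG u) M)) (nat_lit 40) z1 u (Nat.mod (MG u) M)) (Nat.ble (nat_lit 109) j)) (Nat.ble (nat_lit 108) j)) (Nat.ble (nat_lit 107) j)) (Bool.rec (motive := fun _ => Bool) (Bool.rec (motive := fun _ => Bool) (mRel MG [T_c, T_ai, T_bi] [T_bi, T_ai, T_ci] M (Nat.sub (MG u) (Nat.mod (MG u) M)) (nat_lit 40) z1 u (Nat.mod (MG u) M)) (Bool.rec (motive := fun _ => Bool) (mRel MG [T_t, T_c, T_t] [T_b, T_t, T_c, T_t, T_c, T_b] M (Nat.sub (MG u) (Nat.mod (MG u) M)) (nat_lit 40) z1 u (Nat.mod (MG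 u) M)) (mRel MG [T_t, T_b, T_ti, T_ci, T_ti, T_b] [T_ci, T_ti, T_ci] M (Nat.sub (MG u) (Nat.mod (MG u) M)) (nat_lit 40) z1 u (Nat.mod (MG u) M)) (Nat.ble (nat_lit 112) j)) (Nat.ble (nat_lit 111) j)) (Bool.rec (motive := fun _ => Bool) (mRel MG [T_ti, T_ci, T_ti, T_ai, T_t, T_c, T_t, T_ai, T_ci] [] M (Nat.sub (MG u) (Nat.mod (MG u) M)) (nat_lit 40) z1 u (Nat.mod (MG u) M)) (Bool.rec (motive := fun _ => Bool) (mRel MG [T_t, T_ai, T_ti, T_ci, T_ti, T_ai] [T_ci, T_ti, T_c] M (Nat.sub (MG u) (Nat.mod (MG u) M)) (nat_lit 40) z1 u (Nat.mod (MG u) M)) (mRel MG [T_c, T_ai, T_bi, T_a, T_b, T_c] [] M (Nat.sub (MG u) (Nat.mod (MG u) M)) (nat_lit 40) z1 u (Nat.mod (MG u) M)) (Nat.ble (nat_lit 115) j)) (Nat.ble (nat_lit 114) j)) (Nat.ble (nat_lit 113) j)) (Nat.ble (nat_lit 110) j)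
noncomputable def dM_20 (j z1 z2 u : ℕ) : Bool :=
  Bool.rec (motive := fun _ => Bool) (Bool.rec (motive := fun _ => Bool) (Bool.rec (motive := fun _ => Bool) (mRel MG [T_bi, T_ti, T_ci, T_ti, T_ci] [T_ti, T_ci, T_ti, T_b] M (Nat.sub (MG u) (Nat.mod (MG u) M)) (nat_lit 40) z1 u (Nat.mod (MG u) M)) (Bool.rec (motive := fun _ => Bool) (mRel MG [T_ti, T_ci, T_ti] [T_ai, T_ci, T_ti, T_ci, T_ti, T_ai] M (Nat.sub (MG u) (Nat.mod (MG u) M)) (nat_lit 40) z1 u (Nat.mod (MG u) M)) (mRel MG [T_ti, T_a, T_ti, T_ai, T_t] [T_bi, T_t, T_t, T_b] M (Nat.sub (MG u) (Nat.mod (MG u) M)) (nat_lit 40) z1 u (Nat.mod (MG u) M)) (Nat.ble (nat_lit 118) j)) (Nat.ble (nat_lit 117) j)) (Bool.rec (motive := fun _ => Bool) (mRel MG [T_b, T_ti, T_ci, T_ti, T_b, T_t] [T_ci, T_ti, T_ci] M (Nat.sub (MG u) (Nat.mod (MG u) M)) (nat_lit 40) z1 u (Nat.mod (MG u) M)) (Bool.rec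 (motive := fun _ => Bool) (mRel MG [T_c, T_t] [T_ti, T_b, T_t, T_c, T_t, T_c, T_b] M (Nat.sub (MG u) (Nat.mod (MG u) M)) (nat_lit 40) z1 u (Nat.mod (MG u) M)) (mRel MG [T_ci, T_b, T_a] [T_a, T_b, T_c] M (Nat.sub (MG u) (Nat.mod (MG u) M)) (nat_lit 40) z1 u (Nat.mod (MG u) M)) (Nat.ble (nat_lit 121) j)) (Nat.ble (nat_lit 120) j)) (Nat.ble (nat_lit 119) j)) (Bool.rec (motive := fun _ => Bool) (Bool.rec (motive := fun _ => Bool) (mRel MG [T_c, T_t, T_b, T_ti, T_ci, T_ti, T_c] [T_ti, T_bi] M (Nat.sub (MG u) (Nat.mod (MG u) M)) (nat_lit 40) z1 u (Nat.mod (MG u) M)) (Bool.rec (motive := fun _ => Bool) (mRel MG [T_ti, T_b, T_ti] [T_t, T_b, T_ti, T_a, T_t, T_ai] M (Nat.sub (MG u) (Nat.mod (MG u) M)) (nat_lit 40) z1 u (Nat.mod (MG u) M)) (mRel MG [T_t, T_c, T_t, T_bi, T_ti, T_ci] [T_c, T_b, T_t] M (Nat.sub (MG u) (Nat.mod (MG u) M)) (nat_lit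 40) z1 u (Nat.mod (MG u) M)) (Nat.ble (nat_lit 124) j)) (Nat.ble (nat_lit 123) j)) (Bool.rec (motive := fun _ => Bool) (mRel MG [T_ai] [T_c, T_b, T_ai, T_c, T_bi] M (Nat.sub (MG u) (Nat.mod (MG u) M)) (nat_lit 40) z1 u (Nat.mod (MG u) M)) (Bool.rec (motive := fun _ => Bool) (mRel MG [T_ti, T_c, T_ti] [T_t, T_ci, T_ci, T_ti, T_ti, T_c] M (Nat.sub (MG u) (Nat.mod (MG u) M)) (nat_lit 40) z1 u (Nat.mod (MG u) M)) (mRel MG [T_b] [T_t, T_c, T_t, T_bi, T_ci, T_ti, T_ci, T_ti] M (Nat.sub (MG u) (Nat.mod (MG u) M)) (nat_lit 40) z1 u (Nat.mod (MG u) M)) (Nat.ble (nat_lit 127) j)) (Nat.ble (nat_lit 126) j)) (Nat.ble (nat_lit 125) j)) (Nat.ble (nat_lit 122) j)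
noncomputable def dM_21 (j z1 z2 u : ℕ) : Bool :=
  Bool.rec (motive := fun _ => Bool) (dM_19 j z1 z2 u) (dM_20 j z1 z2 u) (Nat.ble (nat_lit 116) j)
noncomputable def dM_22 (j z1 z2 u : ℕ) : Bool :=
  Bool.rec (motive := fun _ => Bool) (Bool.rec (motive := fun _ => Bool) (Bool.rec (motive := fun _ => Bool) (mRel MG [T_t, T_bi, T_ci, T_ti, T_ci, T_ti, T_bi] [T_ci, T_ti] M (Nat.sub (MG u) (Nat.mod (MG u) M)) (nat_lit 40) z1 u (Nat.mod (MG u) M)) (Bool.rec (motive := fun _ => Bool) (mRel MG [T_ci, T_ti, T_ci, T_bi] [T_t, T_b, T_ti, T_ci, T_ti] M (Nat.sub (MG u) (Nat.mod (MG u) M)) (nat_lit 40) z1 u (Nat.mod (MG u) M)) (mRel MG [T_a, T_t, T_ai, T_t, T_bi] [T_t, T_bi, T_ti, T_ti] M (Nat.sub (MG u) (Nat.mod (MG u) M)) (nat_lit 40) z1 u (Nat.mod (MG u) M)) (Nat.ble (nat_lit 130) j)) (Nat.ble (nat_lit 129) j)) (Bool.rec (motive := fun _ => Bool)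 (mRel MG [T_bi, T_a, T_b, T_c, T_c, T_ai] [] M (Nat.sub (MG u) (Nat.mod (MG u) M)) (nat_lit 40) z1 u (Nat.mod (MG u) M)) (Bool.rec (motive := fun _ => Bool) (mRel MG [T_t, T_t] [T_c, T_ti, T_ci, T_t, T_t, T_c, T_c] M (Nat.sub (MG u) (Nat.mod (MG u) M)) (nat_lit 40) z1 u (Nat.mod (MG u) M)) (mRel MG [T_c, T_ti, T_ci, T_t, T_t] [T_t, T_t, T_ci, T_ci] M (Nat.sub (MG u) (Nat.mod (MG u) M)) (nat_lit 40) z1 u (Nat.mod (MG u) M)) (Nat.ble (nat_lit 133) j)) (Nat.ble (nat_lit 132) j)) (Nat.ble (nat_lit 131) j)) (Bool.rec (motive := fun _ => Bool) (Bool.rec (motive := fun _ => Bool) (mRel MG [T_t, T_ci, T_ci, T_t] [T_ti, T_ci, T_ci, T_t, T_c] M (Nat.sub (MG u) (Nat.mod (MG u) M)) (nat_lit 40) z1 u (Nat.mod (MG u) M)) (Bool.rec (motive := fun _ => Bool) (mRel MG [T_c, T_ti, T_ti, T_c, T_ti, T_ci, T_t, T_t] [T_ci] M (Nat.sub (MG u) (Nat.mod (MG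 u) M)) (nat_lit 40) z1 u (Nat.mod (MG u) M)) (mRel MG [T_t, T_t, T_ci, T_ci, T_t, T_ci, T_ti] [T_ci, T_ci] M (Nat.sub (MG u) (Nat.mod (MG u) M)) (nat_lit 40) z1 u (Nat.mod (MG u) M)) (Nat.ble (nat_lit 136) j)) (Nat.ble (nat_lit 135) j)) (Bool.rec (motive := fun _ => Bool) (mRel MG [T_ai, T_c] [T_bi, T_ci, T_ai, T_b] M (Nat.sub (MG u) (Nat.mod (MG u) M)) (nat_lit 40) z1 u (Nat.mod (MG u) M)) (Bool.rec (motive := fun _ => Bool) (mRel MG [T_ci, T_b] [T_a, T_b, T_c, T_ai] M (Nat.sub (MG u) (Nat.mod (MG u) M)) (nat_lit 40) z1 u (Nat.mod (MG u) M)) (mRel MG [T_bi, T_ci, T_ti, T_ci, T_ti] [T_ti, T_ci, T_ti, T_b] M (Nat.sub (MG u) (Nat.mod (MG u) M)) (nat_lit 40) z1 u (Nat.mod (MG u) M)) (Nat.ble (nat_lit 139) j)) (Nat.ble (nat_lit 138) j)) (Nat.ble (nat_lit 137) j)) (Nat.ble (nat_lit 134) j)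
noncomputable def dM_23 (j z1 z2 u : ℕ) : Bool :=
  Bool.rec (motive := fun _ => Bool) (Bool.rec (motive := fun _ => Bool) (Bool.rec (motive := fun _ => Bool) (mRel MG [T_ci, T_a, T_bi, T_ci, T_ai] [T_bi] M (Nat.sub (MG u) (Nat.mod (MG u) M)) (nat_lit 40) z1 u (Nat.mod (MG u) M)) (Bool.rec (motive := fun _ => Bool) (mRel MG [T_ti, T_ti, T_c, T_t] [T_c, T_c, T_ti, T_ti, T_c] M (Nat.sub (MG u) (Nat.mod (MG u) M)) (nat_lit 40) z1 u (Nat.mod (MG u) M)) (mRel MG [T_t, T_bi, T_ci, T_ti, T_ci, T_ti] [T_ci, T_ti, T_b] M (Nat.sub (MG u) (Nat.mod (MG u) M)) (nat_lit 40) z1 u (Nat.mod (MG u) M)) (Nat.ble (nat_lit 142) j)) (Nat.ble (nat_lit 141) j)) (Bool.rec (motive := fun _ => Bool) (mRel MG [T_ti, T_b] [T_c, T_t, T_bi, T_ci, T_ti, T_ci, T_ti] M (Nat.sub (MG u) (Nat.mod (MG u) M)) (nat_lit 40) z1 u (Nat.mod (MG u) M)) (Bool.rec (motive := fun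 _ => Bool) (mRel MG [T_c, T_t, T_t, T_ci, T_ci, T_t, T_ci] [T_ci, T_t] M (Nat.sub (MG u) (Nat.mod (MG u) M)) (nat_lit 40) z1 u (Nat.mod (MG u) M)) (mRel MG [T_ci, T_ti, T_ci, T_ti, T_bi, T_t, T_c, T_t] [T_b] M (Nat.sub (MG u) (Nat.mod (MG u) M)) (nat_lit 40) z1 u (Nat.mod (MG u) M)) (Nat.ble (nat_lit 145) j)) (Nat.ble (nat_lit 144) j)) (Nat.ble (nat_lit 143) j)) (Bool.rec (motive := fun _ => Bool) (Bool.rec (motive := fun _ => Bool) (mRel MG [T_bi, T_ti, T_ci] [T_ti, T_ci, T_ti, T_b, T_c, T_t] M (Nat.sub (MG u) (Nat.mod (MG u) M)) (nat_lit 40) z1 u (Nat.mod (MG u) M)) (Bool.rec (motive := fun _ => Bool) (mRel MG [T_ti, T_ci, T_ti, T_b] [T_bi, T_ti, T_ci, T_ti, T_ci] M (Nat.sub (MG u) (Nat.mod (MG u) M)) (nat_lit 40) z1 u (Nat.mod (MG u) M)) (mRel MG [T_ai, T_ci, T_t, T_c, T_t] [T_t, T_c, T_t, T_a] M (Nat.sub (MG u) (Nat.mod (MG u) M))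 (nat_lit 40) z1 u (Nat.mod (MG u) M)) (Nat.ble (nat_lit 148) j)) (Nat.ble (nat_lit 147) j)) (Bool.rec (motive := fun _ => Bool) (mRel MG [T_t, T_c, T_t, T_a, T_ti] [T_ai, T_ci, T_t, T_c] M (Nat.sub (MG u) (Nat.mod (MG u) M)) (nat_lit 40) z1 u (Nat.mod (MG u) M)) (Bool.rec (motive := fun _ => Bool) (mRel MG [T_ti] [T_c, T_t, T_c, T_b, T_ti, T_ci, T_ti, T_b] M (Nat.sub (MG u) (Nat.mod (MG u) M)) (nat_lit 40) z1 u (Nat.mod (MG u) M)) (mRel MG [T_ti, T_ci, T_ti, T_c, T_b, T_t] [T_bi, T_ti, T_ci] M (Nat.sub (MG u) (Nat.mod (MG u) M)) (nat_lit 40) z1 u (Nat.mod (MG u) M)) (Nat.ble (nat_lit 151) j)) (Nat.ble (nat_lit 150) j)) (Nat.ble (nat_lit 149) j)) (Nat.ble (nat_lit 146) j)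
noncomputable def dM_24 (j z1 z2 u : ℕ) : Bool :=
  Bool.rec (motive := fun _ => Bool) (dM_22 j z1 z2 u) (dM_23 j z1 z2 u) (Nat.ble (nat_lit 140) j)
noncomputable def dM_25 (j z1 z2 u : ℕ) : Bool :=
  Bool.rec (motive := fun _ => Bool) (dM_21 j z1 z2 u) (dM_24 j z1 z2 u) (Nat.ble (nat_lit 128) j)
noncomputable def dM_26 (j z1 z2 u : ℕ) : Bool :=
  Bool.rec (motive := fun _ => Bool) (Bool.rec (motive := fun _ => Bool) (Bool.rec (motive := fun _ => Bool) (mRel MG [T_c, T_t, T_b, T_ti, T_ci, T_ti] [T_ti, T_bi, T_ci] M (Nat.sub (MG u) (Nat.mod (MG u) M)) (nat_lit 40) z1 u (Nat.mod (MG u) M)) (Bool.rec (motive := fun _ => Bool) (mRel MG [T_c, T_ti, T_c, T_c, T_ti] [T_ti, T_c, T_c, T_t] M (Nat.sub (MG u) (Nat.mod (MG u) M)) (nat_lit 40) z1 u (Nat.mod (MG u) M)) (mRel MG [T_ti, T_ci, T_ti, T_c, T_a, T_t, T_c, T_t, T_a] [] M (Nat.sub (MG u)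 (Nat.mod (MG u) M)) (nat_lit 40) z1 u (Nat.mod (MG u) M)) (Nat.ble (nat_lit 154) j)) (Nat.ble (nat_lit 153) j)) (Bool.rec (motive := fun _ => Bool) (mRel MG [T_c, T_c, T_ai, T_bi, T_a] [T_bi] M (Nat.sub (MG u) (Nat.mod (MG u) M)) (nat_lit 40) z1 u (Nat.mod (MG u) M)) (Bool.rec (motive := fun _ => Bool) (mRel MG [T_ti, T_ci, T_ti] [T_bi, T_ci, T_ti, T_ci, T_ti, T_bi] M (Nat.sub (MG u) (Nat.mod (MG u) M)) (nat_lit 40) z1 u (Nat.mod (MG u) M)) (mRel MG [T_ti, T_ci, T_ti, T_bi, T_ci, T_t] [T_b, T_ti, T_ci] M (Nat.sub (MG u) (Nat.mod (MG u) M)) (nat_lit 40) z1 u (Nat.mod (MG u) M)) (Nat.ble (nat_lit 157) j)) (Nat.ble (nat_lit 156) j)) (Nat.ble (nat_lit 155) j)) (Bool.rec (motive := fun _ => Bool) (Bool.rec (motive := fun _ => Bool) (mRel MG [T_bi, T_t, T_c, T_t, T_bi] [T_c, T_t, T_c, T_t] M (Nat.sub (MG u) (Nat.mod (MG u) M)) (nat_lit 40)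 z1 u (Nat.mod (MG u) M)) (Bool.rec (motive := fun _ => Bool) (mRel MG [T_z, T_ci, T_zi] [T_ci] M (Nat.sub (MG u) (Nat.mod (MG u) M)) (nat_lit 40) z1 u (Nat.mod (MG u) M)) (mRel MG [T_t, T_t, T_ci, T_ci, T_t] [T_ci, T_ci, T_t, T_c] M (Nat.sub (MG u) (Nat.mod (MG u) M)) (nat_lit 40) z1 u (Nat.mod (MG u) M)) (Nat.ble (nat_lit 160) j)) (Nat.ble (nat_lit 159) j)) (Bool.rec (motive := fun _ => Bool) (mRel MG [T_ti, T_zi] [T_zi, T_ti] M (Nat.sub (MG u) (Nat.mod (MG u) M)) (nat_lit 40) z1 u (Nat.mod (MG u) M)) (Bool.rec (motive := fun _ => Bool) (mRel MG [T_t, T_c, T_t, T_ai, T_ci] [T_a, T_t, T_c, T_t] M (Nat.sub (MG u) (Nat.mod (MG u) M)) (nat_lit 40) z1 u (Nat.mod (MG u) M)) (mRel MG [T_b, T_ci, T_a] [T_a, T_c, T_b] M (Nat.sub (MG u) (Nat.mod (MG u) M)) (nat_lit 40) z1 u (Nat.mod (MG u) M)) (Nat.ble (nat_lit 163) j)) (Nat.ble (nat_lit 162)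 j)) (Nat.ble (nat_lit 161) j)) (Nat.ble (nat_lit 158) j)
noncomputable def dM_27 (j z1 z2 u : ℕ) : Bool :=
  Bool.rec (motive := fun _ => Bool) (Bool.rec (motive := fun _ => Bool) (Bool.rec (motive := fun _ => Bool) (mRel MG [T_ti, T_ci, T_ti, T_b] [T_bi, T_ci, T_ti, T_ci, T_ti] M (Nat.sub (MG u) (Nat.mod (MG u) M)) (nat_lit 40) z1 u (Nat.mod (MG u) M)) (Bool.rec (motive := fun _ => Bool) (mRel MG [T_bi, T_t, T_c, T_t] [T_c, T_t, T_c, T_t, T_b] M (Nat.sub (MG u) (Nat.mod (MG u) M)) (nat_lit 40) z1 u (Nat.mod (MG u) M)) (mRel MG [T_ci, T_ci] [T_ai, T_bi, T_a, T_b] M (Nat.sub (MG u) (Nat.mod (MG u) M)) (nat_lit 40) z1 u (Nat.mod (MG u) M)) (Nat.ble (nat_lit 166) j)) (Nat.ble (nat_lit 165) j)) (Bool.rec (motive := fun _ => Bool) (mRel MG [T_ti, T_c, T_c, T_t, T_t] [T_c, T_ti, T_c, T_c] M (Nat.sub (MG u) (Nat.mod (MG u) M)) (nat_lit 40)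 z1 u (Nat.mod (MG u) M)) (Bool.rec (motive := fun _ => Bool) (mRel MG [T_t, T_c] [T_bi, T_t, T_c, T_t, T_bi, T_ci, T_ti] M (Nat.sub (MG u) (Nat.mod (MG u) M)) (nat_lit 40) z1 u (Nat.mod (MG u) M)) (mRel MG [T_bi, T_t, T_t] [T_ti, T_a, T_ti, T_ai, T_t, T_bi] M (Nat.sub (MG u) (Nat.mod (MG u) M)) (nat_lit 40) z1 u (Nat.mod (MG u) M)) (Nat.ble (nat_lit 169) j)) (Nat.ble (nat_lit 168) j)) (Nat.ble (nat_lit 167) j)) (Bool.rec (motive := fun _ => Bool) (Bool.rec (motive := fun _ => Bool) (mRel MG [T_ci, T_ti, T_ai, T_t, T_c] [T_t, T_c, T_a, T_ti] M (Nat.sub (MG u) (Nat.mod (MG u) M)) (nat_lit 40) z1 u (Nat.mod (MG u) M)) (Bool.rec (motive := fun _ => Bool) (mRel MG [T_ti, T_ci, T_ti, T_ai, T_ci, T_t] [T_a, T_ti, T_ci] M (Nat.sub (MG u) (Nat.mod (MG u) M)) (nat_lit 40) z1 u (Nat.mod (MG u) M)) (mRel MG [T_ci, T_ti, T_c] [T_t, T_ai, T_ti, T_ci,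 T_ti, T_ai] M (Nat.sub (MG u) (Nat.mod (MG u) M)) (nat_lit 40) z1 u (Nat.mod (MG u) M)) (Nat.ble (nat_lit 172) j)) (Nat.ble (nat_lit 171) j)) (Bool.rec (motive := fun _ => Bool) (mRel MG [T_ai, T_zi] [T_zi, T_ai] M (Nat.sub (MG u) (Nat.mod (MG u) M)) (nat_lit 40) z1 u (Nat.mod (MG u) M)) (Bool.rec (motive := fun _ => Bool) (mRel MG [T_ci, T_t, T_c, T_t] [T_a, T_t, T_c, T_t, T_a] M (Nat.sub (MG u) (Nat.mod (MG u) M)) (nat_lit 40) z1 u (Nat.mod (MG u) M)) (mRel MG [T_ci, T_ci, T_t, T_c, T_ti] [T_t, T_t, T_ci, T_ci] M (Nat.sub (MG u) (Nat.mod (MG u) M)) (nat_lit 40) z1 u (Nat.mod (MG u) M)) (Nat.ble (nat_lit 175) j)) (Nat.ble (nat_lit 174) j)) (Nat.ble (nat_lit 173) j)) (Nat.ble (nat_lit 170) j)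
noncomputable def dM_28 (j z1 z2 u : ℕ) : Bool :=
  Bool.rec (motive := fun _ => Bool) (dM_26 j z1 z2 u) (dM_27 j z1 z2 u) (Nat.ble (nat_lit 164) j)
noncomputable def dM_29 (j z1 z2 u : ℕ) : Bool :=
  Bool.rec (motive := fun _ => Bool) (Bool.rec (motive := fun _ => Bool) (Bool.rec (motive := fun _ => Bool) (mRel MG [T_ci, T_ti, T_ci, T_bi, T_t, T_c, T_t] [T_t, T_b] M (Nat.sub (MG u) (Nat.mod (MG u) M)) (nat_lit 40) z1 u (Nat.mod (MG u) M)) (Bool.rec (motive := fun _ => Bool) (mRel MG [T_t, T_c, T_t] [T_b, T_c, T_t, T_c, T_t, T_b] M (Nat.sub (MG u) (Nat.mod (MG u) M)) (nat_lit 40) z1 u (Nat.mod (MG u) M)) (mRel MG [T_ti, T_ci, T_ti, T_a] [T_ai, T_ci, T_ti, T_ci, T_ti] M (Nat.sub (MG u) (Nat.mod (MG u) M)) (nat_lit 40) z1 u (Nat.mod (MG u) M)) (Nat.ble (nat_lit 178) j)) (Nat.ble (nat_lit 177) j)) (Bool.rec (motive := fun _ => Bool) (mRel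 MG [T_a, T_bi, T_ci] [T_c, T_bi, T_a] M (Nat.sub (MG u) (Nat.mod (MG u) M)) (nat_lit 40) z1 u (Nat.mod (MG u) M)) (Bool.rec (motive := fun _ => Bool) (mRel MG [T_ai, T_z] [T_z, T_ai] M (Nat.sub (MG u) (Nat.mod (MG u) M)) (nat_lit 40) z1 u (Nat.mod (MG u) M)) (mRel MG [T_b, T_ci] [T_a, T_c, T_b, T_ai] M (Nat.sub (MG u) (Nat.mod (MG u) M)) (nat_lit 40) z1 u (Nat.mod (MG u) M)) (Nat.ble (nat_lit 181) j)) (Nat.ble (nat_lit 180) j)) (Nat.ble (nat_lit 179) j)) (Bool.rec (motive := fun _ => Bool) (Bool.rec (motive := fun _ => Bool) (mRel MG [T_c, T_c, T_ai] [T_bi, T_ai, T_b] M (Nat.sub (MG u) (Nat.mod (MG u) M)) (nat_lit 40) z1 u (Nat.mod (MG u) M)) (Bool.rec (motive := fun _ => Bool) (mRel MG [T_bi, T_t, T_c] [T_t, T_c, T_t, T_c, T_b, T_ti] M (Nat.sub (MG u) (Nat.mod (MG u) M)) (nat_lit 40) z1 u (Nat.mod (MG u) M)) (mRel MG [T_t, T_ci] [T_ti,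 T_ci, T_ci, T_t, T_c, T_ti, T_c] M (Nat.sub (MG u) (Nat.mod (MG u) M)) (nat_lit 40) z1 u (Nat.mod (MG u) M)) (Nat.ble (nat_lit 184) j)) (Nat.ble (nat_lit 183) j)) (Bool.rec (motive := fun _ => Bool) (mRel MG [T_ci, T_ti, T_ci, T_ti, T_bi] [T_b, T_ti, T_ci, T_ti] M (Nat.sub (MG u) (Nat.mod (MG u) M)) (nat_lit 40) z1 u (Nat.mod (MG u) M)) (Bool.rec (motive := fun _ => Bool) (mRel MG [T_ci, T_ti] [T_c, T_ti, T_ti, T_c, T_ti, T_ci, T_t] M (Nat.sub (MG u) (Nat.mod (MG u) M)) (nat_lit 40) z1 u (Nat.mod (MG u) M)) (mRel MG [T_ai, T_t, T_bi, T_t, T_t, T_b, T_ti, T_a] [T_ti] M (Nat.sub (MG u) (Nat.mod (MG u) M)) (nat_lit 40) z1 u (Nat.mod (MG u) M)) (Nat.ble (nat_lit 187) j)) (Nat.ble (nat_lit 186) j)) (Nat.ble (nat_lit 185) j)) (Nat.ble (nat_lit 182) j)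
noncomputable def dM_30 (j z1 z2 u : ℕ) : Bool :=
  Bool.rec (motive := fun _ => Bool) (Bool.rec (motive := fun _ => Bool) (Bool.rec (motive := fun _ => Bool) (mRel MG [T_b, T_ti, T_ci, T_ti] [T_ti, T_ci, T_ti, T_bi, T_ci] M (Nat.sub (MG u) (Nat.mod (MG u) M)) (nat_lit 40) z1 u (Nat.mod (MG u) M)) (Bool.rec (motive := fun _ => Bool) (mRel MG [T_ti, T_ti, T_b, T_ti, T_a, T_ti, T_ai] [T_b, T_ti] M (Nat.sub (MG u) (Nat.mod (MG u) M)) (nat_lit 40) z1 u (Nat.mod (MG u) M)) (mRel MG [T_bi, T_bi] [T_b, T_b, T_b] M (Nat.sub (MG u) (Nat.mod (MG u) M)) (nat_lit 40) z1 u (Nat.mod (MG u) M)) (Nat.ble (nat_lit 190) j)) (Nat.ble (nat_lit 189) j)) (Bool.rec (motive := fun _ => Bool) (mRel MG [T_t, T_t] [T_c, T_t, T_ci, T_t, T_t, T_ci, T_ci] M (Nat.sub (MG u) (Nat.mod (MG u) M)) (nat_lit 40) z1 u (Nat.mod (MG u) M)) (Bool.rec (motive := fun _ => Bool)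 (mRel MG [T_ci, T_b, T_a, T_ci] [T_a, T_b] M (Nat.sub (MG u) (Nat.mod (MG u) M)) (nat_lit 40) z1 u (Nat.mod (MG u) M)) (mRel MG [T_t, T_ai, T_t, T_bi, T_t, T_t] [T_ai, T_t, T_bi] M (Nat.sub (MG u) (Nat.mod (MG u) M)) (nat_lit 40) z1 u (Nat.mod (MG u) M)) (Nat.ble (nat_lit 193) j)) (Nat.ble (nat_lit 192) j)) (Nat.ble (nat_lit 191) j)) (Bool.rec (motive := fun _ => Bool) (Bool.rec (motive := fun _ => Bool) (mRel MG [T_a, T_t, T_ai, T_t, T_bi, T_t, T_t, T_b] [T_t] M (Nat.sub (MG u) (Nat.mod (MG u) M)) (nat_lit 40) z1 u (Nat.mod (MG u) M)) (Bool.rec (motive := fun _ => Bool) (mRel MG [T_ai, T_b] [T_c, T_b, T_ai, T_c] M (Nat.sub (MG u) (Nat.mod (MG u) M)) (nat_lit 40) z1 u (Nat.mod (MG u) M)) (mRel MG [T_t, T_bi, T_t] [T_a, T_ti, T_ai, T_t, T_bi, T_ti] M (Nat.sub (MG u) (Nat.mod (MG u) M)) (nat_lit 40) z1 u (Nat.mod (MG u) M)) (Nat.ble (nat_lit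 196) j)) (Nat.ble (nat_lit 195) j)) (Bool.rec (motive := fun _ => Bool) (mRel MG [T_bi, T_ci, T_ai, T_b] [T_ai, T_c] M (Nat.sub (MG u) (Nat.mod (MG u) M)) (nat_lit 40) z1 u (Nat.mod (MG u) M)) (Bool.rec (motive := fun _ => Bool) (mRel MG [T_ci, T_bi, T_ai, T_b, T_a] [T_c] M (Nat.sub (MG u) (Nat.mod (MG u) M)) (nat_lit 40) z1 u (Nat.mod (MG u) M)) (mRel MG [T_ci, T_ci, T_t, T_ci, T_ti, T_c, T_c] [T_ti, T_ti] M (Nat.sub (MG u) (Nat.mod (MG u) M)) (nat_lit 40) z1 u (Nat.mod (MG u) M)) (Nat.ble (nat_lit 199) j)) (Nat.ble (nat_lit 198) j)) (Nat.ble (nat_lit 197) j)) (Nat.ble (nat_lit 194) j)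
noncomputable def dM_31 (j z1 z2 u : ℕ) : Bool :=
  Bool.rec (motive := fun _ => Bool) (dM_29 j z1 z2 u) (dM_30 j z1 z2 u) (Nat.ble (nat_lit 188) j)
noncomputable def dM_32 (j z1 z2 u : ℕ) : Bool :=
  Bool.rec (motive := fun _ => Bool) (dM_28 j z1 z2 u) (dM_31 j z1 z2 u) (Nat.ble (nat_lit 176) j)
noncomputable def dM_33 (j z1 z2 u : ℕ) : Bool :=
  Bool.rec (motive := fun _ => Bool) (dM_25 j z1 z2 u) (dM_32 j z1 z2 u) (Nat.ble (nat_lit 152) j)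
noncomputable def dM_34 (j z1 z2 u : ℕ) : Bool :=
  Bool.rec (motive := fun _ => Bool) (Bool.rec (motive := fun _ => Bool) (Bool.rec (motive := fun _ => Bool) (mRel MG [T_b, T_c, T_ai, T_bi, T_c] [T_ai] M (Nat.sub (MG u) (Nat.mod (MG u) M)) (nat_lit 40) z1 u (Nat.mod (MG u) M)) (Bool.rec (motive := fun _ => Bool) (mRel MG [T_bi, T_ci, T_ai] [T_ai, T_c, T_bi] M (Nat.sub (MG u) (Nat.mod (MG u) M)) (nat_lit 40) z1 u (Nat.mod (MG u) M)) (mRel MG [T_bi, T_ci] [T_ti, T_ci, T_ti, T_b, T_t, T_c, T_t] M (Nat.sub (MG u) (Nat.mod (MG u) M)) (nat_lit 40) z1 u (Nat.mod (MG u) M)) (Nat.ble (nat_lit 202) j)) (Nat.ble (nat_lit 201) j)) (Bool.rec (motive := fun _ => Bool) (mRel MG [T_ai, T_ti, T_ci, T_ti] [T_ti, T_ci, T_ti, T_c, T_a] M (Nat.sub (MG u) (Nat.mod (MG u) M)) (nat_lit 40) z1 u (Nat.mod (MG u) M)) (Bool.rec (motive := fun _ => Bool) (mRel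 MG [T_ci] [T_c, T_ti, T_ti, T_ci, T_ci, T_t, T_c, T_ti] M (Nat.sub (MG u) (Nat.mod (MG u) M)) (nat_lit 40) z1 u (Nat.mod (MG u) M)) (mRel MG [T_ti, T_b, T_t, T_c] [T_c, T_t, T_bi, T_ci, T_ti] M (Nat.sub (MG u) (Nat.mod (MG u) M)) (nat_lit 40) z1 u (Nat.mod (MG u) M)) (Nat.ble (nat_lit 205) j)) (Nat.ble (nat_lit 204) j)) (Nat.ble (nat_lit 203) j)) (Bool.rec (motive := fun _ => Bool) (Bool.rec (motive := fun _ => Bool) (mRel MG [T_c, T_t] [T_ti, T_a, T_t, T_c, T_t, T_c, T_a] M (Nat.sub (MG u) (Nat.mod (MG u) M)) (nat_lit 40) z1 u (Nat.mod (MG u) M)) (Bool.rec (motive := fun _ => Bool) (mRel MG [T_t, T_ai, T_ti, T_ci, T_ti, T_ai, T_ci] [T_ci, T_ti] M (Nat.sub (MG u) (Nat.mod (MG u) M)) (nat_lit 40) z1 u (Nat.mod (MG u) M)) (mRel MG [T_a, T_t, T_c, T_t] [T_ci, T_t, T_c, T_t, T_ai] M (Nat.sub (MG u) (Nat.mod (MG u) M)) (nat_lit 40) z1 u (Nat.mod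 (MG u) M)) (Nat.ble (nat_lit 208) j)) (Nat.ble (nat_lit 207) j)) (Bool.rec (motive := fun _ => Bool) (mRel MG [T_ci, T_a] [T_bi, T_a, T_c, T_b] M (Nat.sub (MG u) (Nat.mod (MG u) M)) (nat_lit 40) z1 u (Nat.mod (MG u) M)) (Bool.rec (motive := fun _ => Bool) (mRel MG [T_ci] [T_ai, T_bi, T_c, T_a, T_b] M (Nat.sub (MG u) (Nat.mod (MG u) M)) (nat_lit 40) z1 u (Nat.mod (MG u) M)) (mRel MG [T_t] [T_bi, T_ci, T_t, T_c, T_t, T_bi, T_ti, T_ci] M (Nat.sub (MG u) (Nat.mod (MG u) M)) (nat_lit 40) z1 u (Nat.mod (MG u) M)) (Nat.ble (nat_lit 211) j)) (Nat.ble (nat_lit 210) j)) (Nat.ble (nat_lit 209) j)) (Nat.ble (nat_lit 206) j)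
noncomputable def dM_35 (j z1 z2 u : ℕ) : Bool :=
  Bool.rec (motive := fun _ => Bool) (Bool.rec (motive := fun _ => Bool) (Bool.rec (motive := fun _ => Bool) (mRel MG [T_ci, T_ti, T_bi] [T_t, T_b, T_ti, T_ci, T_ti, T_c] M (Nat.sub (MG u) (Nat.mod (MG u) M)) (nat_lit 40) z1 u (Nat.mod (MG u) M)) (Bool.rec (motive := fun _ => Bool) (mRel MG [T_b, T_ti, T_a, T_ti, T_ai, T_t, T_bi] [T_t, T_t] M (Nat.sub (MG u) (Nat.mod (MG u) M)) (nat_lit 40) z1 u (Nat.mod (MG u) M)) (mRel MG [T_t, T_b, T_ti, T_a, T_t, T_ai] [T_ti, T_b, T_ti] M (Nat.sub (MG u) (Nat.mod (MG u) M)) (nat_lit 40) z1 u (Nat.mod (MG u) M)) (Nat.ble (nat_lit 214) j)) (Nat.ble (nat_lit 213) j)) (Bool.rec (motive := fun _ => Bool) (mRel MG [T_a, T_bi, T_ci, T_ai, T_b] [T_c] M (Nat.sub (MG u) (Nat.mod (MG u) M)) (nat_lit 40) z1 u (Nat.mod (MG u) M)) (Bool.rec (motive := fun _ =>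 Bool) (mRel MG [T_bi, T_a, T_c, T_b] [T_ci, T_a] M (Nat.sub (MG u) (Nat.mod (MG u) M)) (nat_lit 40) z1 u (Nat.mod (MG u) M)) (mRel MG [T_a, T_t, T_ai, T_t, T_bi, T_t, T_t, T_b, T_ti] [] M (Nat.sub (MG u) (Nat.mod (MG u) M)) (nat_lit 40) z1 u (Nat.mod (MG u) M)) (Nat.ble (nat_lit 217) j)) (Nat.ble (nat_lit 216) j)) (Nat.ble (nat_lit 215) j)) (Bool.rec (motive := fun _ => Bool) (Bool.rec (motive := fun _ => Bool) (mRel MG [T_b, T_a, T_ci, T_ci, T_bi, T_ai] [] M (Nat.sub (MG u) (Nat.mod (MG u) M)) (nat_lit 40) z1 u (Nat.mod (MG u) M)) (Bool.rec (motive := fun _ => Bool) (mRel MG [T_bi, T_t, T_t, T_b, T_ti, T_a, T_t, T_ai] [T_ti] M (Nat.sub (MG u) (Nat.mod (MG u) M)) (nat_lit 40) z1 u (Nat.mod (MG u) M)) (mRel MG [T_b, T_c, T_c, T_ai] [T_ai, T_b] M (Nat.sub (MG u) (Nat.mod (MG u) M)) (nat_lit 40) z1 u (Nat.mod (MG u) M)) (Nat.ble (nat_lit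 220) j)) (Nat.ble (nat_lit 219) j)) (Bool.rec (motive := fun _ => Bool) (mRel MG [T_ti, T_ci] [T_c, T_b, T_ti, T_ci, T_ti, T_b, T_t] M (Nat.sub (MG u) (Nat.mod (MG u) M)) (nat_lit 40) z1 u (Nat.mod (MG u) M)) (Bool.rec (motive := fun _ => Bool) (mRel MG [T_a] [T_b, T_a, T_ci, T_ci, T_bi] M (Nat.sub (MG u) (Nat.mod (MG u) M)) (nat_lit 40) z1 u (Nat.mod (MG u) M)) (mRel MG [T_t, T_c, T_t, T_b, T_ti, T_ci] [T_bi, T_ci, T_t] M (Nat.sub (MG u) (Nat.mod (MG u) M)) (nat_lit 40) z1 u (Nat.mod (MG u) M)) (Nat.ble (nat_lit 223) j)) (Nat.ble (nat_lit 222) j)) (Nat.ble (nat_lit 221) j)) (Nat.ble (nat_lit 218) j)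
noncomputable def dM_36 (j z1 z2 u : ℕ) : Bool :=
  Bool.rec (motive := fun _ => Bool) (dM_34 j z1 z2 u) (dM_35 j z1 z2 u) (Nat.ble (nat_lit 212) j)
noncomputable def dM_37 (j z1 z2 u : ℕ) : Bool :=
  Bool.rec (motive := fun _ => Bool) (Bool.rec (motive := fun _ => Bool) (Bool.rec (motive := fun _ => Bool) (mRel MG [T_b, T_z] [T_z, T_b] M (Nat.sub (MG u) (Nat.mod (MG u) M)) (nat_lit 40) z1 u (Nat.mod (MG u) M)) (Bool.rec (motive := fun _ => Bool) (mRel MG [T_ti, T_c, T_c, T_ti, T_ti, T_ci] [T_ci, T_ti, T_c] M (Nat.sub (MG u) (Nat.mod (MG u) M)) (nat_lit 40) z1 u (Nat.mod (MG u) M)) (mRel MG [T_b, T_a] [T_c, T_a, T_b, T_c] M (Nat.sub (MG u) (Nat.mod (MG u) M)) (nat_lit 40) z1 u (Nat.mod (MG u) M)) (Nat.ble (nat_lit 226) j)) (Nat.ble (nat_lit 225) j)) (Bool.rec (motive := fun _ => Bool) (mRel MG [T_a, T_ti, T_ci, T_ti, T_a, T_t] [T_ci,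 T_ti, T_ci] M (Nat.sub (MG u) (Nat.mod (MG u) M)) (nat_lit 40) z1 u (Nat.mod (MG u) M)) (Bool.rec (motive := fun _ => Bool) (mRel MG [T_ti, T_ci, T_ti, T_ai, T_ci, T_t, T_c, T_t, T_ai] [] M (Nat.sub (MG u) (Nat.mod (MG u) M)) (nat_lit 40) z1 u (Nat.mod (MG u) M)) (mRel MG [T_ai, T_c, T_bi, T_a, T_c, T_b] [] M (Nat.sub (MG u) (Nat.mod (MG u) M)) (nat_lit 40) z1 u (Nat.mod (MG u) M)) (Nat.ble (nat_lit 229) j)) (Nat.ble (nat_lit 228) j)) (Nat.ble (nat_lit 227) j)) (Bool.rec (motive := fun _ => Bool) (Bool.rec (motive := fun _ => Bool) (mRel MG [T_ti, T_ci, T_ci, T_t] [T_t, T_ci, T_ci, T_t, T_ci] M (Nat.sub (MG u) (Nat.mod (MG u) M)) (nat_lit 40) z1 u (Nat.mod (MG u) M)) (Bool.rec (motive := fun _ => Bool) (mRel MG [T_ci, T_zi, T_c] [T_zi] M (Nat.sub (MG u) (Nat.mod (MG u) M)) (nat_lit 40) z1 u (Nat.mod (MG u) M)) (mRel MG [T_c, T_t, T_a,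 T_ti, T_ci, T_ti, T_c] [T_ti, T_ai] M (Nat.sub (MG u) (Nat.mod (MG u) M)) (nat_lit 40) z1 u (Nat.mod (MG u) M)) (Nat.ble (nat_lit 232) j)) (Nat.ble (nat_lit 231) j)) (Bool.rec (motive := fun _ => Bool) (mRel MG [T_ci, T_t, T_c] [T_b, T_t, T_c, T_t, T_b, T_ti] M (Nat.sub (MG u) (Nat.mod (MG u) M)) (nat_lit 40) z1 u (Nat.mod (MG u) M)) (Bool.rec (motive := fun _ => Bool) (mRel MG [T_ti, T_ci, T_ti, T_b, T_t] [T_bi, T_ci, T_ti, T_ci] M (Nat.sub (MG u) (Nat.mod (MG u) M)) (nat_lit 40) z1 u (Nat.mod (MG u) M)) (mRel MG [T_ci, T_ti, T_ci, T_ti, T_ai, T_t, T_c, T_t, T_ai] [] M (Nat.sub (MG u) (Nat.mod (MG u) M)) (nat_lit 40) z1 u (Nat.mod (MG u) M)) (Nat.ble (nat_lit 235) j)) (Nat.ble (nat_lit 234) j)) (Nat.ble (nat_lit 233) j)) (Nat.ble (nat_lit 230) j)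
noncomputable def dM_38 (j z1 z2 u : ℕ) : Bool :=
  Bool.rec (motive := fun _ => Bool) (Bool.rec (motive := fun _ => Bool) (Bool.rec (motive := fun _ => Bool) (mRel MG [T_a, T_t, T_c, T_t, T_c, T_a] [T_t, T_c, T_t] M (Nat.sub (MG u) (Nat.mod (MG u) M)) (nat_lit 40) z1 u (Nat.mod (MG u) M)) (Bool.rec (motive := fun _ => Bool) (mRel MG [T_ci, T_t, T_t, T_ci, T_ci, T_ti, T_ti, T_c] [T_ti] M (Nat.sub (MG u) (Nat.mod (MG u) M)) (nat_lit 40) z1 u (Nat.mod (MG u) M)) (mRel MG [T_c, T_t, T_c, T_t, T_b] [T_bi, T_t, T_c, T_t] M (Nat.sub (MG u) (Nat.mod (MG u) M)) (nat_lit 40) z1 u (Nat.mod (MG u) M)) (Nat.ble (nat_lit 238) j)) (Nat.ble (nat_lit 237) j)) (Bool.rec (motive := fun _ => Bool) (mRel MG [T_ti, T_ci, T_t, T_t, T_c, T_c, T_ti, T_ti] [T_ci] M (Nat.sub (MG u) (Nat.mod (MG u) M)) (nat_lit 40) z1 u (Nat.mod (MG u) M)) (Bool.rec (motive :=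 fun _ => Bool) (mRel MG [T_a] [T_ci, T_ti, T_ci, T_ti, T_ai, T_t, T_c, T_t] M (Nat.sub (MG u) (Nat.mod (MG u) M)) (nat_lit 40) z1 u (Nat.mod (MG u) M)) (mRel MG [T_ti, T_ai] [T_c, T_t, T_a, T_ti, T_ci, T_ti, T_c] M (Nat.sub (MG u) (Nat.mod (MG u) M)) (nat_lit 40) z1 u (Nat.mod (MG u) M)) (Nat.ble (nat_lit 241) j)) (Nat.ble (nat_lit 240) j)) (Nat.ble (nat_lit 239) j)) (Bool.rec (motive := fun _ => Bool) (Bool.rec (motive := fun _ => Bool) (mRel MG [T_t, T_bi, T_t, T_t, T_b, T_ti] [T_a, T_ti, T_ai] M (Nat.sub (MG u) (Nat.mod (MG u) M)) (nat_lit 40) z1 u (Nat.mod (MG u) M)) (Bool.rec (motive := fun _ => Bool) (mRel MG [T_ai, T_c, T_bi] [T_bi, T_ci, T_ai] M (Nat.sub (MG u) (Nat.mod (MG u) M)) (nat_lit 40) z1 u (Nat.mod (MG u) M)) (mRel MG [T_ai, T_t] [T_ti, T_ai, T_t, T_bi, T_ti, T_ti, T_b] M (Nat.sub (MG u) (Nat.mod (MG u) M)) (nat_lit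 40) z1 u (Nat.mod (MG u) M)) (Nat.ble (nat_lit 244) j)) (Nat.ble (nat_lit 243) j)) (Bool.rec (motive := fun _ => Bool) (mRel MG [T_ci, T_bi, T_ai] [T_ai, T_bi, T_c] M (Nat.sub (MG u) (Nat.mod (MG u) M)) (nat_lit 40) z1 u (Nat.mod (MG u) M)) (Bool.rec (motive := fun _ => Bool) (mRel MG [T_ti, T_ai, T_t] [T_ai, T_t, T_bi, T_t, T_t, T_b] M (Nat.sub (MG u) (Nat.mod (MG u) M)) (nat_lit 40) z1 u (Nat.mod (MG u) M)) (mRel MG [T_ai, T_ci] [T_b, T_c, T_ai, T_bi] M (Nat.sub (MG u) (Nat.mod (MG u) M)) (nat_lit 40) z1 u (Nat.mod (MG u) M)) (Nat.ble (nat_lit 247) j)) (Nat.ble (nat_lit 246) j)) (Nat.ble (nat_lit 245) j)) (Nat.ble (nat_lit 242) j)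
noncomputable def dM_39 (j z1 z2 u : ℕ) : Bool :=
  Bool.rec (motive := fun _ => Bool) (dM_37 j z1 z2 u) (dM_38 j z1 z2 u) (Nat.ble (nat_lit 236) j)
noncomputable def dM_40 (j z1 z2 u : ℕ) : Bool :=
  Bool.rec (motive := fun _ => Bool) (dM_36 j z1 z2 u) (dM_39 j z1 z2 u) (Nat.ble (nat_lit 224) j)
noncomputable def dM_41 (j z1 z2 u : ℕ) : Bool :=
  Bool.rec (motive := fun _ => Bool) (Bool.rec (motive := fun _ => Bool) (Bool.rec (motive := fun _ => Bool) (mRel MG [T_ci, T_ti] [T_t, T_ai, T_ci, T_ti, T_ci, T_ti, T_ai] M (Nat.sub (MG u) (Nat.mod (MG u) M)) (nat_lit 40) z1 u (Nat.mod (MG u) M)) (Bool.rec (motive := fun _ => Bool) (mRel MG [T_ti, T_ti, T_c, T_ti, T_ci, T_t, T_t] [T_ci, T_ci] M (Nat.sub (MG u) (Nat.mod (MG u) M)) (nat_lit 40) z1 u (Nat.mod (MG u) M)) (mRel MG [T_b, T_ti, T_ci, T_ti, T_b] [T_ti, T_ci, T_ti, T_ci] M (Nat.sub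 (MG u) (Nat.mod (MG u) M)) (nat_lit 40) z1 u (Nat.mod (MG u) M)) (Nat.ble (nat_lit 250) j)) (Nat.ble (nat_lit 249) j)) (Bool.rec (motive := fun _ => Bool) (mRel MG [T_ti, T_a] [T_bi, T_t, T_t, T_b, T_ti, T_a, T_t] M (Nat.sub (MG u) (Nat.mod (MG u) M)) (nat_lit 40) z1 u (Nat.mod (MG u) M)) (Bool.rec (motive := fun _ => Bool) (mRel MG [T_b, T_ci, T_a, T_bi, T_ci] [T_a] M (Nat.sub (MG u) (Nat.mod (MG u) M)) (nat_lit 40) z1 u (Nat.mod (MG u) M)) (mRel MG [T_a, T_ti, T_ci, T_ti] [T_ti, T_ci, T_ti, T_ai, T_ci] M (Nat.sub (MG u) (Nat.mod (MG u) M)) (nat_lit 40) z1 u (Nat.mod (MG u) M)) (Nat.ble (nat_lit 253) j)) (Nat.ble (nat_lit 252) j)) (Nat.ble (nat_lit 251) j)) (Bool.rec (motive := fun _ => Bool) (Bool.rec (motive := fun _ => Bool) (mRel MG [T_c, T_c, T_t] [T_t, T_c, T_ti, T_c, T_c, T_ti] M (Nat.sub (MG u) (Nat.mod (MG u) M)) (nat_lit 40)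 z1 u (Nat.mod (MG u) M)) (Bool.rec (motive := fun _ => Bool) (mRel MG [T_c, T_ai, T_bi, T_c, T_a, T_b] [] M (Nat.sub (MG u) (Nat.mod (MG u) M)) (nat_lit 40) z1 u (Nat.mod (MG u) M)) (mRel MG [T_b, T_ci, T_a, T_bi, T_ci, T_ai] [] M (Nat.sub (MG u) (Nat.mod (MG u) M)) (nat_lit 40) z1 u (Nat.mod (MG u) M)) (Nat.ble (nat_lit 256) j)) (Nat.ble (nat_lit 255) j)) (Bool.rec (motive := fun _ => Bool) (mRel MG [T_ai] [T_ti, T_ci, T_ti, T_c, T_a, T_t, T_c, T_t] M (Nat.sub (MG u) (Nat.mod (MG u) M)) (nat_lit 40) z1 u (Nat.mod (MG u) M)) (Bool.rec (motive := fun _ => Bool) (mRel MG [T_a, T_t, T_ai, T_t, T_bi, T_t] [T_t, T_bi, T_ti] M (Nat.sub (MG u) (Nat.mod (MG u) M)) (nat_lit 40) z1 u (Nat.mod (MG u) M)) (mRel MG [T_ci, T_t, T_t, T_c, T_c, T_ti] [T_t, T_ci, T_t] M (Nat.sub (MG u) (Nat.mod (MG u) M)) (nat_lit 40) z1 u (Nat.mod (MG u) M)) (Nat.ble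 (nat_lit 259) j)) (Nat.ble (nat_lit 258) j)) (Nat.ble (nat_lit 257) j)) (Nat.ble (nat_lit 254) j)
noncomputable def dM_42 (j z1 z2 u : ℕ) : Bool :=
  Bool.rec (motive := fun _ => Bool) (Bool.rec (motive := fun _ => Bool) (Bool.rec (motive := fun _ => Bool) (mRel MG [T_ci, T_bi, T_t, T_c, T_t, T_bi, T_ti] [T_t, T_c] M (Nat.sub (MG u) (Nat.mod (MG u) M)) (nat_lit 40) z1 u (Nat.mod (MG u) M)) (Bool.rec (motive := fun _ => Bool) (mRel MG [T_ci, T_ti, T_b, T_t] [T_t, T_bi, T_ci, T_ti, T_ci] M (Nat.sub (MG u) (Nat.mod (MG u) M)) (nat_lit 40) z1 u (Nat.mod (MG u) M)) (mRel MG [T_bi, T_t, T_bi, T_t] [T_ti, T_zi, T_b, T_ti, T_b] M (Nat.sub (MG u) (Nat.mod (MG u) M)) (nat_lit 40) z1 u (Nat.mod (MG u) M)) (Nat.ble (nat_lit 262) j)) (Nat.ble (nat_lit 261) j)) (Bool.rec (motive := fun _ => Bool) (mRel MG [T_bi, T_bi, T_bi, T_bi] [T_b] M (Nat.sub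 (MG u) (Nat.mod (MG u) M)) (nat_lit 40) z1 u (Nat.mod (MG u) M)) (Bool.rec (motive := fun _ => Bool) (mRel MG [T_a, T_ti] [T_t, T_bi, T_t, T_t, T_b, T_ti, T_a] M (Nat.sub (MG u) (Nat.mod (MG u) M)) (nat_lit 40) z1 u (Nat.mod (MG u) M)) (mRel MG [T_ti, T_c] [T_t, T_ci, T_ci, T_ti, T_ti, T_c, T_t] M (Nat.sub (MG u) (Nat.mod (MG u) M)) (nat_lit 40) z1 u (Nat.mod (MG u) M)) (Nat.ble (nat_lit 265) j)) (Nat.ble (nat_lit 264) j)) (Nat.ble (nat_lit 263) j)) (Bool.rec (motive := fun _ => Bool) (Bool.rec (motive := fun _ => Bool) (mRel MG [T_ti, T_ti, T_ci] [T_ci, T_ci, T_t, T_ci, T_ti, T_c] M (Nat.sub (MG u) (Nat.mod (MG u) M)) (nat_lit 40) z1 u (Nat.mod (MG u) M)) (Bool.rec (motive := fun _ => Bool) (mRel MG [T_c, T_c] [T_bi, T_ai, T_b, T_a] M (Nat.sub (MG u) (Nat.mod (MG u) M)) (nat_lit 40) z1 u (Nat.mod (MG u) M)) (mRel MG [T_t, T_bi, T_ti]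 [T_ci, T_ti, T_b, T_c, T_t, T_c] M (Nat.sub (MG u) (Nat.mod (MG u) M)) (nat_lit 40) z1 u (Nat.mod (MG u) M)) (Nat.ble (nat_lit 268) j)) (Nat.ble (nat_lit 267) j)) (Bool.rec (motive := fun _ => Bool) (mRel MG [T_bi, T_a, T_c, T_b, T_ai, T_c] [] M (Nat.sub (MG u) (Nat.mod (MG u) M)) (nat_lit 40) z1 u (Nat.mod (MG u) M)) (Bool.rec (motive := fun _ => Bool) (mRel MG [T_zi, T_ci, T_z] [T_ci] M (Nat.sub (MG u) (Nat.mod (MG u) M)) (nat_lit 40) z1 u (Nat.mod (MG u) M)) (mRel MG [T_ti, T_z] [T_z, T_ti] M (Nat.sub (MG u) (Nat.mod (MG u) M)) (nat_lit 40) z1 u (Nat.mod (MG u) M)) (Nat.ble (nat_lit 271) j)) (Nat.ble (nat_lit 270) j)) (Nat.ble (nat_lit 269) j)) (Nat.ble (nat_lit 266) j)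
noncomputable def dM_43 (j z1 z2 u : ℕ) : Bool :=
  Bool.rec (motive := fun _ => Bool) (dM_41 j z1 z2 u) (dM_42 j z1 z2 u) (Nat.ble (nat_lit 260) j)
noncomputable def dM_44 (j z1 z2 u : ℕ) : Bool :=
  Bool.rec (motive := fun _ => Bool) (Bool.rec (motive := fun _ => Bool) (Bool.rec (motive := fun _ => Bool) (mRel MG [T_zi, T_c, T_z] [T_c] M (Nat.sub (MG u) (Nat.mod (MG u) M)) (nat_lit 40) z1 u (Nat.mod (MG u) M)) (Bool.rec (motive := fun _ => Bool) (mRel MG [T_t, T_ci, T_t] [T_ci, T_t, T_t, T_c, T_c, T_ti] M (Nat.sub (MG u) (Nat.mod (MG u) M)) (nat_lit 40) z1 u (Nat.mod (MG u) M)) (mRel MG [T_c, T_t, T_c, T_t] [T_bi, T_t, T_c, T_t, T_bi] M (Nat.sub (MG u) (Nat.mod (MG u) M)) (nat_lit 40) z1 u (Nat.mod (MG u) M)) (Nat.ble (nat_lit 274) j)) (Nat.ble (nat_lit 273) j)) (Bool.rec (motive := fun _ => Bool) (mRel MG [T_b, T_c, T_ai] [T_ai, T_ci,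 T_b] M (Nat.sub (MG u) (Nat.mod (MG u) M)) (nat_lit 40) z1 u (Nat.mod (MG u) M)) (Bool.rec (motive := fun _ => Bool) (mRel MG [T_t, T_t, T_ci, T_ci, T_ti, T_ti] [T_c, T_ti, T_ci] M (Nat.sub (MG u) (Nat.mod (MG u) M)) (nat_lit 40) z1 u (Nat.mod (MG u) M)) (mRel MG [T_b, T_zi] [T_zi, T_b] M (Nat.sub (MG u) (Nat.mod (MG u) M)) (nat_lit 40) z1 u (Nat.mod (MG u) M)) (Nat.ble (nat_lit 277) j)) (Nat.ble (nat_lit 276) j)) (Nat.ble (nat_lit 275) j)) (Bool.rec (motive := fun _ => Bool) (Bool.rec (motive := fun _ => Bool) (mRel MG [T_zi, T_t] [T_t, T_zi] M (Nat.sub (MG u) (Nat.mod (MG u) M)) (nat_lit 40) z1 u (Nat.mod (MG u) M)) (Bool.rec (motive := fun _ => Bool) (mRel MG [T_ci, T_t, T_t, T_c, T_c, T_ti, T_ti, T_c] [T_t] M (Nat.sub (MG u) (Nat.mod (MG u) M)) (nat_lit 40) z1 u (Nat.mod (MG u) M)) (mRel MG [T_b, T_ti, T_a, T_t, T_ai] [T_ti, T_ti,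 T_b, T_ti] M (Nat.sub (MG u) (Nat.mod (MG u) M)) (nat_lit 40) z1 u (Nat.mod (MG u) M)) (Nat.ble (nat_lit 280) j)) (Nat.ble (nat_lit 279) j)) (Bool.rec (motive := fun _ => Bool) (mRel MG [T_t, T_t] [T_ci, T_ci, T_t, T_c, T_ti, T_c, T_c] M (Nat.sub (MG u) (Nat.mod (MG u) M)) (nat_lit 40) z1 u (Nat.mod (MG u) M)) (Bool.rec (motive := fun _ => Bool) (mRel MG [T_ti, T_ti, T_b] [T_b, T_ti, T_a, T_t, T_ai, T_t] M (Nat.sub (MG u) (Nat.mod (MG u) M)) (nat_lit 40) z1 u (Nat.mod (MG u) M)) (mRel MG [T_a, T_ti, T_ai, T_t, T_bi, T_ti, T_ti] [T_t, T_bi] M (Nat.sub (MG u) (Nat.mod (MG u) M)) (nat_lit 40) z1 u (Nat.mod (MG u) M)) (Nat.ble (nat_lit 283) j)) (Nat.ble (nat_lit 282) j)) (Nat.ble (nat_lit 281) j)) (Nat.ble (nat_lit 278) j)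
noncomputable def dM_45 (j z1 z2 u : ℕ) : Bool :=
  Bool.rec (motive := fun _ => Bool) (Bool.rec (motive := fun _ => Bool) (Bool.rec (motive := fun _ => Bool) (mRel MG [T_z, T_t] [T_t, T_z] M (Nat.sub (MG u) (Nat.mod (MG u) M)) (nat_lit 40) z1 u (Nat.mod (MG u) M)) (Bool.rec (motive := fun _ => Bool) (mRel MG [T_ti, T_bi, T_t, T_c, T_t, T_bi, T_ci, T_ti] [T_c] M (Nat.sub (MG u) (Nat.mod (MG u) M)) (nat_lit 40) z1 u (Nat.mod (MG u) M)) (mRel MG [T_t, T_c, T_b, T_ti, T_ci, T_ti] [T_ci, T_ti, T_bi] M (Nat.sub (MG u) (Nat.mod (MG u) M)) (nat_lit 40) z1 u (Nat.mod (MG u) M)) (Nat.ble (nat_lit 286) j)) (Nat.ble (nat_lit 285) j)) (Bool.rec (motive := fun _ => Bool) (mRel MG [T_bi, T_ti, T_ti, T_b] [T_ti, T_a, T_t, T_ai, T_t] M (Nat.sub (MG u) (Nat.mod (MG u) M)) (nat_lit 40) z1 u (Nat.mod (MG u) M)) (Bool.rec (motive := fun _ => Bool) (mRel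 MG [T_bi, T_t, T_t, T_b, T_ti, T_a] [T_ti, T_a, T_ti] M (Nat.sub (MG u) (Nat.mod (MG u) M)) (nat_lit 40) z1 u (Nat.mod (MG u) M)) (mRel MG [T_a, T_ci, T_ci, T_bi] [T_bi, T_a] M (Nat.sub (MG u) (Nat.mod (MG u) M)) (nat_lit 40) z1 u (Nat.mod (MG u) M)) (Nat.ble (nat_lit 289) j)) (Nat.ble (nat_lit 288) j)) (Nat.ble (nat_lit 287) j)) (Bool.rec (motive := fun _ => Bool) (Bool.rec (motive := fun _ => Bool) (mRel MG [T_b, T_t, T_c, T_t, T_c, T_b, T_ti, T_ci] [T_t] M (Nat.sub (MG u) (Nat.mod (MG u) M)) (nat_lit 40) z1 u (Nat.mod (MG u) M)) (Bool.rec (motive := fun _ => Bool) (mRel MG [T_b, T_b, T_b, T_b] [T_bi] M (Nat.sub (MG u) (Nat.mod (MG u) M)) (nat_lit 40) z1 u (Nat.mod (MG u) M)) (mRel MG [T_bi, T_ci, T_ai, T_b, T_ci] [T_ai] M (Nat.sub (MG u) (Nat.mod (MG u) M)) (nat_lit 40) z1 u (Nat.mod (MG u) M)) (Nat.ble (nat_lit 292) j)) (Nat.ble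 (nat_lit 291) j)) (Bool.rec (motive := fun _ => Bool) (mRel MG [T_ti, T_ti, T_ci, T_ci, T_t, T_c] [T_ci, T_ci, T_t] M (Nat.sub (MG u) (Nat.mod (MG u) M)) (nat_lit 40) z1 u (Nat.mod (MG u) M)) (Bool.rec (motive := fun _ => Bool) (mRel MG [T_b, T_ti, T_ci] [T_ti, T_ci, T_ti, T_bi, T_ci, T_t] M (Nat.sub (MG u) (Nat.mod (MG u) M)) (nat_lit 40) z1 u (Nat.mod (MG u) M)) (mRel MG [T_ti, T_b, T_ti, T_b, T_ti, T_b] [T_bi, T_z, T_t] M (Nat.sub (MG u) (Nat.mod (MG u) M)) (nat_lit 40) z1 u (Nat.mod (MG u) M)) (Nat.ble (nat_lit 295) j)) (Nat.ble (nat_lit 294) j)) (Nat.ble (nat_lit 293) j)) (Nat.ble (nat_lit 290) j)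
noncomputable def dM_46 (j z1 z2 u : ℕ) : Bool :=
  Bool.rec (motive := fun _ => Bool) (dM_44 j z1 z2 u) (dM_45 j z1 z2 u) (Nat.ble (nat_lit 284) j)
noncomputable def dM_47 (j z1 z2 u : ℕ) : Bool :=
  Bool.rec (motive := fun _ => Bool) (dM_43 j z1 z2 u) (dM_46 j z1 z2 u) (Nat.ble (nat_lit 272) j)
noncomputable def dM_48 (j z1 z2 u : ℕ) : Bool :=
  Bool.rec (motive := fun _ => Bool) (dM_40 j z1 z2 u) (dM_47 j z1 z2 u) (Nat.ble (nat_lit 248) j)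
noncomputable def dM_49 (j z1 z2 u : ℕ) : Bool :=
  Bool.rec (motive := fun _ => Bool) (dM_33 j z1 z2 u) (dM_48 j z1 z2 u) (Nat.ble (nat_lit 200) j)
noncomputable def dM_50 (j z1 z2 u : ℕ) : Bool :=
  Bool.rec (motive := fun _ => Bool) (dM_18 j z1 z2 u) (dM_49 j z1 z2 u) (Nat.ble (nat_lit 104) j)
noncomputable def dM_51 (j z1 z2 u : ℕ) : Bool :=
  Bool.rec (motive := fun _ => Bool) (dM_1 j z1 z2 u) (dM_50 j z1 z2 u) (Nat.ble (nat_lit 18) j)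
noncomputable def dM_52 (j z1 z2 u : ℕ) : Bool :=
  Bool.rec (motive := fun _ => Bool) (dM_0 j z1 z2 u) (dM_51 j z1 z2 u) (Nat.ble (nat_lit 6) j)
noncomputable def chkM (u : ℕ) : Bool :=
  Bool.rec (motive := fun _ => Bool) (band (Nat.ble (Nat.succ (Nat.mod (MG u) M)) u) (dM_52 (Nat.land (MR u) (nat_lit 511)) (Nat.land (Nat.shiftRight (MR u) (nat_lit 9)) (nat_lit 4095)) (Nat.shiftRight (MR u) (nat_lit 21)) u)) true (Nat.ble A (MG u))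
noncomputable def chkN (u : ℕ) : Bool :=
  band (chk_c (Nat.land (Nat.shiftRight (RS u) (nat_lit 0)) (nat_lit 127)) u) (band (chk_ci (Nat.land (Nat.shiftRight (RS u) (nat_lit 7)) (nat_lit 127)) u) (band (chk_a (Nat.land (Nat.shiftRight (RS u) (nat_lit 14)) (nat_lit 127)) u) (band (chk_ai (Nat.land (Nat.shiftRight (RS u) (nat_lit 21)) (nat_lit 127)) u) (band (chk_b (Nat.land (Nat.shiftRight (RS u) (nat_lit 28)) (nat_lit 127)) u) (band (chk_bi (Nat.land (Nat.shiftRight (RS u) (nat_lit 35)) (nat_lit 127)) u) (band (chk_t (Nat.land (Nat.shiftRight (RS u) (nat_lit 42)) (nat_lit 127)) u) (band (chk_ti (Nat.land (Nat.shiftRight (RS u) (nat_lit 49)) (nat_lit 127)) u) (band (chk_z (Nat.land (Nat.shiftRight (RS u) (nat_lit 56)) (nat_lit 127)) u) (band (chk_zi (Nat.land (Nat.shiftRight (RS u) (nat_lit 63)) (nat_lit 127)) u) (chkM u))))))))))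
noncomputable def chkP (u : ℕ) : Bool := Bool.rec (motive := fun _ => Bool) (chkN u) true (Nat.ble M u)
noncomputable def liveP (u : ℕ) : Bool := Bool.rec (motive := fun _ => Bool) (Nat.ble A (MG u)) false (Nat.ble M u)
end H64.TCHSB
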