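import Cfsg.Agent.Lib.H64.TCHSB.Chk
set_option autoImplicit false
set_option maxRecDepth 100000
set_option linter.all false
namespace H64.TCHSB
open H35.TC
section
variable {G : Type} [Group G] {g : Lt → G} {H : Subgroup G}
/-- hypotheses -/
abbrev Hy (g : Lt → G) (H : Subgroup G) : Prop := (∀ x, g (inv x) = (g x)⁻¹) ∧ (∀ r ∈ rels, (r.map g).prod = 1) ∧ ∀ r ∈ subs, (r.map g).prod ∈ H
theorem hM0 : 0 < M := by decide
theorem hat {r W : List Lt} {x : Lt} (hr : (r.map g).prod = 1) (k : ℕ) (h : r.drop k ++ r.take k = W ++ [x]) (z : G ⧸ H) : fa g x (act (fa g) W z) = z := hole_at hr k h z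
theorem pat (hy : Hy g H) {r W1 W2 : List Lt} (hr : (r.map g).prod = 1) (k : ℕ) (h : r.drop k ++ r.take k = W1 ++ (W2.map inv).reverse) (z : G ⧸ H) : act (fa g) W1 z = act (fa g) W2 z := pair_at hy.1 hr k h z
theorem ivt (hy : Hy g H) (x x' : Lt) (hx : inv x = x') (z : G ⧸ H) : fa g x (fa g x' z) = z := inv_rel hy.1 x x' hx z
theorem rf_0 (hy : Hy g H) : (([.z, .t, .zi, .ti] : List Lt).map g).prod = 1 := hy.2.1 _ (by decide +kernel)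
theorem rb_0 (hy : Hy g H) : (([.t, .z, .ti, .zi] : List Lt).map g).prod = 1 := inv_at hy.1 (rf_0 hy)
theorem rf_1 (hy : Hy g H) : (([.z, .b, .zi, .bi] : List Lt).map g).prod = 1 := hy.2.1 _ (by decide +kernel)
theorem rb_1 (hy : Hy g H) : (([.b, .z, .bi, .zi] : List Lt).map g).prod = 1 := inv_at hy.1 (rf_1 hy)
theorem rf_2 (hy : Hy g H) : (([.z, .a, .zi, .ai] : List Lt).map g).prod = 1 := hy.2.1 _ (by decide +kernel)
theorem rb_2 (hy : Hy g H) : (([.a, .z, .ai, .zi] : List Lt).map g).prod = 1 := inv_at hy.1 (rf_2 hy)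
theorem rf_3 (hy : Hy g H) : (([.z, .c, .zi, .ci] : List Lt).map g).prod = 1 := hy.2.1 _ (by decide +kernel)
theorem rb_3 (hy : Hy g H) : (([.c, .z, .ci, .zi] : List Lt).map g).prod = 1 := inv_at hy.1 (rf_3 hy)
theorem rf_4 (hy : Hy g H) : (([.z, .z, .z, .z] : List Lt).map g).prod = 1 := hy.2.1 _ (by decide +kernel)
theorem rb_4 (hy : Hy g H) : (([.zi, .zi, .zi, .zi] : List Lt).map g).prod = 1 := inv_at hy.1 (rf_4 hy)
theorem rf_5 (hy : Hy g H) : (([.b, .b, .b, .b, .b] : List Lt).map g).prod = 1 := hy.2.1 _ (by decide +kernel)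
theorem rb_5 (hy : Hy g H) : (([.bi, .bi, .bi, .bi, .bi] : List Lt).map g).prod = 1 := inv_at hy.1 (rf_5 hy)
theorem rf_6 (hy : Hy g H) : (([.c, .c, .ai, .bi, .a, .b] : List Lt).map g).prod = 1 := hy.2.1 _ (by decide +kernel)
theorem rb_6 (hy : Hy g H) : (([.bi, .ai, .b, .a, .ci, .ci] : List Lt).map g).prod = 1 := inv_at hy.1 (rf_6 hy)
theorem rf_7 (hy : Hy g H) : (([.c, .a, .b, .c, .ai, .bi] : List Lt).map g).prod = 1 := hy.2.1 _ (by decide +kernel)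
theorem rb_7 (hy : Hy g H) : (([.b, .a, .ci, .bi, .ai, .ci] : List Lt).map g).prod = 1 := inv_at hy.1 (rf_7 hy)
theorem rf_8 (hy : Hy g H) : (([.c, .b, .ai, .c, .bi, .a] : List Lt).map g).prod = 1 := hy.2.1 _ (by decide +kernel)
theorem rb_8 (hy : Hy g H) : (([.ai, .b, .ci, .a, .bi, .ci] : List Lt).map g).prod = 1 := inv_at hy.1 (rf_8 hy)
theorem rf_9 (hy : Hy g H) : (([.ci, .ci, .t, .ci, .ti, .c, .c, .t, .t] : List Lt).map g).prod = 1 := hy.2.1 _ (by decide +kernel)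
theorem rb_9 (hy : Hy g H) : (([.ti, .ti, .ci, .ci, .t, .c, .ti, .c, .c] : List Lt).map g).prod = 1 := inv_at hy.1 (rf_9 hy)
theorem rf_10 (hy : Hy g H) : (([.ti, .ci, .ti, .b, .t, .c, .t, .c, .b] : List Lt).map g).prod = 1 := hy.2.1 _ (by decide +kernel)
theorem rb_10 (hy : Hy g H) : (([.bi, .ci, .ti, .ci, .ti, .bi, .t, .c, .t] : List Lt).map g).prod = 1 := inv_at hy.1 (rf_10 hy)
theorem rf_11 (hy : Hy g H) : (([.ti, .ci, .ti, .a, .t, .c, .t, .c, .a] : List Lt).map g).prod = 1 := hy.2.1 _ (by decide +kernel)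
theorem rb_11 (hy : Hy g H) : (([.ai, .ci, .ti, .ci, .ti, .ai, .t, .c, .t] : List Lt).map g).prod = 1 := inv_at hy.1 (rf_11 hy)
theorem rf_12 (hy : Hy g H) : (([.b, .ti, .b, .ti, .b, .ti, .b, .ti, .zi] : List Lt).map g).prod = 1 := hy.2.1 _ (by decide +kernel)
theorem rb_12 (hy : Hy g H) : (([.z, .t, .bi, .t, .bi, .t, .bi, .t, .bi] : List Lt).map g).prod = 1 := inv_at hy.1 (rf_12 hy)
theorem rf_13 (hy : Hy g H) : (([.t, .c, .t, .b, .ti, .ci, .ti, .c, .b] : List Lt).map g).prod = 1 := hy.2.1 _ (by decide +kernel)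
theorem rb_13 (hy : Hy g H) : (([.bi, .ci, .t, .c, .t, .bi, .ti, .ci, .ti] : List Lt).map g).prod = 1 := inv_at hy.1 (rf_13 hy)
theorem rf_14 (hy : Hy g H) : (([.t, .c, .t, .b, .ti, .ci, .ti, .b, .c] : List Lt).map g).prod = 1 := hy.2.1 _ (by decide +kernel)
theorem rb_14 (hy : Hy g H) : (([.ci, .bi, .t, .c, .t, .bi, .ti, .ci, .ti] : List Lt).map g).prod = 1 := inv_at hy.1 (rf_14 hy)
theorem rf_15 (hy : Hy g H) : (([.t, .c, .t, .a, .ti, .ci, .ti, .c, .a] : List Lt).map g).prod = 1 := hy.2.1 _ (by decide +kernel)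
theorem rb_15 (hy : Hy g H) : (([.ai, .ci, .t, .c, .t, .ai, .ti, .ci, .ti] : List Lt).map g).prod = 1 := inv_at hy.1 (rf_15 hy)
theorem rf_16 (hy : Hy g H) : (([.ai, .t, .bi, .t, .t, .b, .ti, .a, .t] : List Lt).map g).prod = 1 := hy.2.1 _ (by decide +kernel)
theorem rb_16 (hy : Hy g H) : (([.ti, .ai, .t, .bi, .ti, .ti, .b, .ti, .a] : List Lt).map g).prod = 1 := inv_at hy.1 (rf_16 hy)
theorem rf_17 (hy : Hy g H) : (([.ti, .ti, .c, .ti, .ci, .t, .t, .c, .c] : List Lt).map g).prod = 1 := hy.2.1 _ (by decide +kernel)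
theorem rb_17 (hy : Hy g H) : (([.ci, .ci, .ti, .ti, .c, .t, .ci, .t, .t] : List Lt).map g).prod = 1 := inv_at hy.1 (rf_17 hy)
theorem rf_18 (hy : Hy g H) : (([.c, .ci] : List Lt).map g).prod = 1 := hy.2.1 _ (by decide +kernel)
theorem rb_18 (hy : Hy g H) : (([.c, .ci] : List Lt).map g).prod = 1 := inv_at hy.1 (rf_18 hy)
theorem rf_19 (hy : Hy g H) : (([.ci, .c] : List Lt).map g).prod = 1 := hy.2.1 _ (by decide +kernel)
theorem rb_19 (hy : Hy g H) : (([.ci, .c] : List Lt).map g).prod = 1 := inv_at hy.1 (rf_19 hy)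
theorem rf_20 (hy : Hy g H) : (([.a, .ai] : List Lt).map g).prod = 1 := hy.2.1 _ (by decide +kernel)
theorem rb_20 (hy : Hy g H) : (([.a, .ai] : List Lt).map g).prod = 1 := inv_at hy.1 (rf_20 hy)
theorem rf_21 (hy : Hy g H) : (([.ai, .a] : List Lt).map g).prod = 1 := hy.2.1 _ (by decide +kernel)
theorem rb_21 (hy : Hy g H) : (([.ai, .a] : List Lt).map g).prod = 1 := inv_at hy.1 (rf_21 hy)
theorem rf_22 (hy : Hy g H) : (([.b, .bi] : List Lt).map g).prod = 1 := hy.2.1 _ (by decide +kernel)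
theorem rb_22 (hy : Hy g H) : (([.b, .bi] : List Lt).map g).prod = 1 := inv_at hy.1 (rf_22 hy)
theorem rf_23 (hy : Hy g H) : (([.bi, .b] : List Lt).map g).prod = 1 := hy.2.1 _ (by decide +kernel)
theorem rb_23 (hy : Hy g H) : (([.bi, .b] : List Lt).map g).prod = 1 := inv_at hy.1 (rf_23 hy)
theorem rf_24 (hy : Hy g H) : (([.t, .ti] : List Lt).map g).prod = 1 := hy.2.1 _ (by decide +kernel)
theorem rb_24 (hy : Hy g H) : (([.t, .ti] : List Lt).map g).prod = 1 := inv_at hy.1 (rf_24 hy)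
theorem rf_25 (hy : Hy g H) : (([.ti, .t] : List Lt).map g).prod = 1 := hy.2.1 _ (by decide +kernel)
theorem rb_25 (hy : Hy g H) : (([.ti, .t] : List Lt).map g).prod = 1 := inv_at hy.1 (rf_25 hy)
theorem rf_26 (hy : Hy g H) : (([.z, .zi] : List Lt).map g).prod = 1 := hy.2.1 _ (by decide +kernel)
theorem rb_26 (hy : Hy g H) : (([.z, .zi] : List Lt).map g).prod = 1 := inv_at hy.1 (rf_26 hy)
theorem rf_27 (hy : Hy g H) : (([.zi, .z] : List Lt).map g).prod = 1 := hy.2.1 _ (by decide +kernel)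
theorem rb_27 (hy : Hy g H) : (([.zi, .z] : List Lt).map g).prod = 1 := inv_at hy.1 (rf_27 hy)
/-- the points of the nodes -/
noncomputable def cP (g : Lt → G) (H : Subgroup G) : ℕ → G ⧸ H := cc (fa g) lt P ((1 : G) : G ⧸ H)
/-- soundness of an entry -/
abbrev Gd (g : Lt → G) (H : Subgroup G) (x : Lt) (u : ℕ) : Prop := Good (fa g) T MG M (cP g H) x u
/-- soundness of a merge -/
abbrev GdM (g : Lt → G) (H : Subgroup G) (u : ℕ) : Prop := GoodM (fa g) T MG M (cP g H) u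
theorem dp_c_0_s (hy : Hy g H)
    (j u : ℕ) (hu : u < M) (h : dp_c_0 j u = true) : Gd g H Lt.c u := by
  unfold dp_c_0 at h
  rcases brec_true h with h | h
  · exact lF_good (T := T) (x := Lt.c) hM0 [Lt.a, Lt.b, Lt.c, Lt.ai, Lt.bi] (hat (rf_7 hy) 1 rfl) h
  · exact lF_good (T := T) (x := Lt.c) hM0 [Lt.b, Lt.ai, Lt.c, Lt.bi, Lt.a] (hat (rf_8 hy) 1 rfl) h
theorem dp_c_1_s (hy : Hy g H)
    (j u : ℕ) (hu : u < M) (h : dp_c_1 j u = true) : Gd g H Lt.c u := by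
  unfold dp_c_1 at h
  rcases brec_true h with h | h
  · exact lF3_good (T := T) (x := Lt.c) hM0 .z .ci .zi (hat (rb_3 hy) 1 rfl) h
  · exact lF_good (T := T) (x := Lt.c) hM0 [Lt.bi, Lt.a, Lt.c, Lt.b, Lt.ai] (hat (rf_8 hy) 4 rfl) h
theorem dp_c_2_s (hy : Hy g H)
    (j u : ℕ) (hu : u < M) (h : dp_c_2 j u = true) : Gd g H Lt.c u := by
  unfold dp_c_2 at h
  rcases brec_true h with h | h
  · exact lF3_good (T := T) (x := Lt.c) hM0 .zi .ci .z (hat (rf_3 hy) 2 rfl) h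
  · exact lF_good (T := T) (x := Lt.c) hM0 [Lt.ai, Lt.bi, Lt.a, Lt.b, Lt.c] (hat (rf_6 hy) 2 rfl) h
theorem dp_c_3_s (hy : Hy g H)
    (j u : ℕ) (hu : u < M) (h : dp_c_3 j u = true) : Gd g H Lt.c u := by
  unfold dp_c_3 at h
  rcases brec_true h with h | h
  · exact lS_good (T := T) (x := Lt.c) hM0 hu [Lt.a, Lt.b, Lt.c, Lt.ai, Lt.bi] (hat (rf_7 hy) 1 rfl) h
  · exact lS_good (T := T) (x := Lt.c) hM0 hu [Lt.ai, Lt.bi, Lt.a, Lt.b, Lt.c] (hat (rf_6 hy) 2 rfl) h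
theorem dp_c_4_s (hy : Hy g H)
    (j u : ℕ) (hu : u < M) (h : dp_c_4 j u = true) : Gd g H Lt.c u := by
  unfold dp_c_4 at h
  rcases brec_true h with h | h
  · exact lF_good (T := T) (x := Lt.c) hM0 [Lt.c, Lt.ai, Lt.bi, Lt.a, Lt.b] (hat (rf_6 hy) 1 rfl) h
  · exact dp_c_3_s hy j u hu h
theorem dp_c_5_s (hy : Hy g H)
    (j u : ℕ) (hu : u < M) (h : dp_c_5 j u = true) : Gd g H Lt.c u := by
  unfold dp_c_5 at h
  rcases brec_true h with h | h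
  · exact dp_c_2_s hy j u hu h
  · exact dp_c_4_s hy j u hu h
theorem dp_c_6_s (hy : Hy g H)
    (j u : ℕ) (hu : u < M) (h : dp_c_6 j u = true) : Gd g H Lt.c u := by
  unfold dp_c_6 at h
  rcases brec_true h with h | h
  · exact lS_good (T := T) (x := Lt.c) hM0 hu [Lt.b, Lt.ai, Lt.c, Lt.bi, Lt.a] (hat (rf_8 hy) 1 rfl) h
  · exact lF_good (T := T) (x := Lt.c) hM0 [Lt.ai, Lt.bi, Lt.c, Lt.a, Lt.b] (hat (rf_7 hy) 4 rfl) h
theorem dp_c_7_s (hy : Hy g H)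
    (j u : ℕ) (hu : u < M) (h : dp_c_7 j u = true) : Gd g H Lt.c u := by
  unfold dp_c_7 at h
  rcases brec_true h with h | h
  · exact lS_good (T := T) (x := Lt.c) hM0 hu [Lt.ti, Lt.c, Lt.c, Lt.ti, Lt.ti, Lt.ci, Lt.ci, Lt.t] (hat (rb_9 hy) 6 rfl) h
  · exact lS_good (T := T) (x := Lt.c) hM0 hu [Lt.bi, Lt.a, Lt.c, Lt.b, Lt.ai] (hat (rf_8 hy) 4 rfl) h
theorem dp_c_8_s (hy : Hy g H)
    (j u : ℕ) (hu : u < M) (h : dp_c_8 j u = true) : Gd g H Lt.c u := by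
  unfold dp_c_8 at h
  rcases brec_true h with h | h
  · exact lS_good (T := T) (x := Lt.c) hM0 hu [Lt.c, Lt.ai, Lt.bi, Lt.a, Lt.b] (hat (rf_6 hy) 1 rfl) h
  · exact dp_c_7_s hy j u hu h
theorem dp_c_9_s (hy : Hy g H)
    (j u : ℕ) (hu : u < M) (h : dp_c_9 j u = true) : Gd g H Lt.c u := by
  unfold dp_c_9 at h
  rcases brec_true h with h | h
  · exact dp_c_6_s hy j u hu h
  · exact dp_c_8_s hy j u hu h
theorem dp_c_10_s (hy : Hy g H)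
    (j u : ℕ) (hu : u < M) (h : dp_c_10 j u = true) : Gd g H Lt.c u := by
  unfold dp_c_10 at h
  rcases brec_true h with h | h
  · exact lS_good (T := T) (x := Lt.c) hM0 hu [Lt.t, Lt.b, Lt.ti, Lt.ci, Lt.ti, Lt.c, Lt.b, Lt.t] (hat (rf_13 hy) 2 rfl) h
  · exact lF_good (T := T) (x := Lt.c) hM0 [Lt.t, Lt.bi, Lt.ci, Lt.ti, Lt.ci, Lt.ti, Lt.bi, Lt.t] (hat (rb_10 hy) 8 rfl) h
theorem dp_c_11_s (hy : Hy g H)
    (j u : ℕ) (hu : u < M) (h : dp_c_11 j u = true) : Gd g H Lt.c u := by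
  unfold dp_c_11 at h
  rcases brec_true h with h | h
  · exact lS_good (T := T) (x := Lt.c) hM0 hu [Lt.zi, Lt.ci, Lt.z] (hat (rf_3 hy) 2 rfl) h
  · exact dp_c_10_s hy j u hu h
theorem dp_c_12_s (hy : Hy g H)
    (j u : ℕ) (hu : u < M) (h : dp_c_12 j u = true) : Gd g H Lt.c u := by
  unfold dp_c_12 at h
  rcases brec_true h with h | h
  · exact lS_good (T := T) (x := Lt.c) hM0 hu [Lt.t, Lt.ai, Lt.ci, Lt.ti, Lt.ci, Lt.ti, Lt.ai, Lt.t] (hat (rb_11 hy) 8 rfl) h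
  · exact lS_good (T := T) (x := Lt.c) hM0 hu [Lt.t, Lt.bi, Lt.ci, Lt.ti, Lt.ci, Lt.ti, Lt.bi, Lt.t] (hat (rb_10 hy) 8 rfl) h
theorem dp_c_13_s (hy : Hy g H)
    (j u : ℕ) (hu : u < M) (h : dp_c_13 j u = true) : Gd g H Lt.c u := by
  unfold dp_c_13 at h
  rcases brec_true h with h | h
  · exact lF_good (T := T) (x := Lt.c) hM0 [Lt.t, Lt.ai, Lt.ci, Lt.ti, Lt.ci, Lt.ti, Lt.ai, Lt.t] (hat (rb_11 hy) 8 rfl) h
  · exact lS_good (T := T) (x := Lt.c) hM0 hu [Lt.c, Lt.t, Lt.t, Lt.ci, Lt.ci, Lt.t, Lt.ci, Lt.ti] (hat (rf_9 hy) 6 rfl) h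
theorem dp_c_14_s (hy : Hy g H)
    (j u : ℕ) (hu : u < M) (h : dp_c_14 j u = true) : Gd g H Lt.c u := by
  unfold dp_c_14 at h
  rcases brec_true h with h | h
  · exact dp_c_12_s hy j u hu h
  · exact dp_c_13_s hy j u hu h
theorem dp_c_15_s (hy : Hy g H)
    (j u : ℕ) (hu : u < M) (h : dp_c_15 j u = true) : Gd g H Lt.c u := by
  unfold dp_c_15 at h
  rcases brec_true h with h | h
  · exact dp_c_11_s hy j u hu h
  · exact dp_c_14_s hy j u hu h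
theorem dp_c_16_s (hy : Hy g H)
    (j u : ℕ) (hu : u < M) (h : dp_c_16 j u = true) : Gd g H Lt.c u := by
  unfold dp_c_16 at h
  rcases brec_true h with h | h
  · exact dp_c_9_s hy j u hu h
  · exact dp_c_15_s hy j u hu h
theorem dp_c_17_s (hy : Hy g H)
    (j u : ℕ) (hu : u < M) (h : dp_c_17 j u = true) : Gd g H Lt.c u := by
  unfold dp_c_17 at h
  rcases brec_true h with h | h
  · exact lS_good (T := T) (x := Lt.c) hM0 hu [Lt.b, Lt.t, Lt.c, Lt.t, Lt.b, Lt.ti, Lt.ci, Lt.ti] (hat (rf_13 hy) 8 rfl) h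
  · exact lS_good (T := T) (x := Lt.c) hM0 hu [Lt.ti, Lt.ci, Lt.t, Lt.t, Lt.c, Lt.c, Lt.ti, Lt.ti] (hat (rf_17 hy) 3 rfl) h
theorem dp_c_18_s (hy : Hy g H)
    (j u : ℕ) (hu : u < M) (h : dp_c_18 j u = true) : Gd g H Lt.c u := by
  unfold dp_c_18 at h
  rcases brec_true h with h | h
  · exact lS_good (T := T) (x := Lt.c) hM0 hu [Lt.ti, Lt.ti, Lt.ci, Lt.ci, Lt.t, Lt.c, Lt.ti, Lt.c] (hat (rb_9 hy) 0 rfl) h
  · exact lS_good (T := T) (x := Lt.c) hM0 hu [Lt.c, Lt.ti, Lt.ti, Lt.ci, Lt.ci, Lt.t, Lt.c, Lt.ti] (hat (rb_9 hy) 8 rfl) h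
theorem dp_c_19_s (hy : Hy g H)
    (j u : ℕ) (hu : u < M) (h : dp_c_19 j u = true) : Gd g H Lt.c u := by
  unfold dp_c_19 at h
  rcases brec_true h with h | h
  · exact lS_good (T := T) (x := Lt.c) hM0 hu [Lt.t, Lt.bi, Lt.ti, Lt.ci, Lt.ti, Lt.ci, Lt.bi, Lt.t] (hat (rb_14 hy) 4 rfl) h
  · exact dp_c_18_s hy j u hu h
theorem dp_c_20_s (hy : Hy g H)
    (j u : ℕ) (hu : u < M) (h : dp_c_20 j u = true) : Gd g H Lt.c u := by
  unfold dp_c_20 at h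
  rcases brec_true h with h | h
  · exact dp_c_17_s hy j u hu h
  · exact dp_c_19_s hy j u hu h
theorem dp_c_21_s (hy : Hy g H)
    (j u : ℕ) (hu : u < M) (h : dp_c_21 j u = true) : Gd g H Lt.c u := by
  unfold dp_c_21 at h
  rcases brec_true h with h | h
  · exact lF_good (T := T) (x := Lt.c) hM0 [Lt.t, Lt.b, Lt.ti, Lt.ci, Lt.ti, Lt.b, Lt.c, Lt.t] (hat (rf_14 hy) 2 rfl) h
  · exact lS_good (T := T) (x := Lt.c) hM0 hu [Lt.z, Lt.ci, Lt.zi] (hat (rb_3 hy) 1 rfl) h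
theorem dp_c_22_s (hy : Hy g H)
    (j u : ℕ) (hu : u < M) (h : dp_c_22 j u = true) : Gd g H Lt.c u := by
  unfold dp_c_22 at h
  rcases brec_true h with h | h
  · exact lF_good (T := T) (x := Lt.c) hM0 [Lt.ti, Lt.ci, Lt.t, Lt.t, Lt.c, Lt.c, Lt.ti, Lt.ti] (hat (rf_17 hy) 3 rfl) h
  · exact dp_c_21_s hy j u hu h
theorem dp_c_23_s (hy : Hy g H)
    (j u : ℕ) (hu : u < M) (h : dp_c_23 j u = true) : Gd g H Lt.c u := by
  unfold dp_c_23 at h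
  rcases brec_true h with h | h
  · exact lS_good (T := T) (x := Lt.c) hM0 hu [Lt.t, Lt.a, Lt.ti, Lt.ci, Lt.ti, Lt.c, Lt.a, Lt.t] (hat (rf_15 hy) 2 rfl) h
  · exact lF_good (T := T) (x := Lt.c) hM0 [Lt.t, Lt.ci, Lt.t, Lt.t, Lt.ci, Lt.ci, Lt.ti, Lt.ti] (hat (rb_17 hy) 5 rfl) h
theorem dp_c_24_s (hy : Hy g H)
    (j u : ℕ) (hu : u < M) (h : dp_c_24 j u = true) : Gd g H Lt.c u := by
  unfold dp_c_24 at h
  rcases brec_true h with h | h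
  · exact lF_good (T := T) (x := Lt.c) hM0 [Lt.t, Lt.bi, Lt.ti, Lt.ci, Lt.ti, Lt.bi, Lt.ci, Lt.t] (hat (rb_13 hy) 4 rfl) h
  · exact lF_good (T := T) (x := Lt.c) hM0 [Lt.t, Lt.c, Lt.a, Lt.ti, Lt.ci, Lt.ti, Lt.a, Lt.t] (hat (rf_11 hy) 6 rfl) h
theorem dp_c_25_s (hy : Hy g H)
    (j u : ℕ) (hu : u < M) (h : dp_c_25 j u = true) : Gd g H Lt.c u := by
  unfold dp_c_25 at h
  rcases brec_true h with h | h
  · exact dp_c_23_s hy j u hu h
  · exact dp_c_24_s hy j u hu h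
theorem dp_c_26_s (hy : Hy g H)
    (j u : ℕ) (hu : u < M) (h : dp_c_26 j u = true) : Gd g H Lt.c u := by
  unfold dp_c_26 at h
  rcases brec_true h with h | h
  · exact dp_c_22_s hy j u hu h
  · exact dp_c_25_s hy j u hu h
theorem dp_c_27_s (hy : Hy g H)
    (j u : ℕ) (hu : u < M) (h : dp_c_27 j u = true) : Gd g H Lt.c u := by
  unfold dp_c_27 at h
  rcases brec_true h with h | h
  · exact dp_c_20_s hy j u hu h
  · exact dp_c_26_s hy j u hu h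
theorem dp_c_28_s (hy : Hy g H)
    (j u : ℕ) (hu : u < M) (h : dp_c_28 j u = true) : Gd g H Lt.c u := by
  unfold dp_c_28 at h
  rcases brec_true h with h | h
  · exact lF_good (T := T) (x := Lt.c) hM0 [Lt.t, Lt.ai, Lt.ti, Lt.ci, Lt.ti, Lt.ai, Lt.ci, Lt.t] (hat (rb_15 hy) 4 rfl) h
  · exact lF_good (T := T) (x := Lt.c) hM0 [Lt.t, Lt.c, Lt.b, Lt.ti, Lt.ci, Lt.ti, Lt.b, Lt.t] (hat (rf_10 hy) 6 rfl) h
theorem dp_c_29_s (hy : Hy g H)
    (j u : ℕ) (hu : u < M) (h : dp_c_29 j u = true) : Gd g H Lt.c u := by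
  unfold dp_c_29 at h
  rcases brec_true h with h | h
  · exact lS_good (T := T) (x := Lt.c) hM0 hu [Lt.t, Lt.c, Lt.b, Lt.ti, Lt.ci, Lt.ti, Lt.b, Lt.t] (hat (rf_10 hy) 6 rfl) h
  · exact lF_good (T := T) (x := Lt.c) hM0 [Lt.c, Lt.ti, Lt.ti, Lt.ci, Lt.ci, Lt.t, Lt.c, Lt.ti] (hat (rb_9 hy) 8 rfl) h
theorem dp_c_30_s (hy : Hy g H)
    (j u : ℕ) (hu : u < M) (h : dp_c_30 j u = true) : Gd g H Lt.c u := by
  unfold dp_c_30 at h
  rcases brec_true h with h | h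
  · exact dp_c_28_s hy j u hu h
  · exact dp_c_29_s hy j u hu h
theorem dp_c_31_s (hy : Hy g H)
    (j u : ℕ) (hu : u < M) (h : dp_c_31 j u = true) : Gd g H Lt.c u := by
  unfold dp_c_31 at h
  rcases brec_true h with h | h
  · exact lS_good (T := T) (x := Lt.c) hM0 hu [Lt.t, Lt.ai, Lt.ti, Lt.ci, Lt.ti, Lt.ai, Lt.ci, Lt.t] (hat (rb_15 hy) 4 rfl) h
  · exact lS_good (T := T) (x := Lt.c) hM0 hu [Lt.t, Lt.bi, Lt.ti, Lt.ci, Lt.ti, Lt.bi, Lt.ci, Lt.t] (hat (rb_13 hy) 4 rfl) h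
theorem dp_c_32_s (hy : Hy g H)
    (j u : ℕ) (hu : u < M) (h : dp_c_32 j u = true) : Gd g H Lt.c u := by
  unfold dp_c_32 at h
  rcases brec_true h with h | h
  · exact lS_good (T := T) (x := Lt.c) hM0 hu [Lt.c, Lt.ti, Lt.ti, Lt.c, Lt.ti, Lt.ci, Lt.t, Lt.t] (hat (rf_17 hy) 8 rfl) h
  · exact lS_good (T := T) (x := Lt.c) hM0 hu [Lt.t, Lt.c, Lt.t, Lt.b, Lt.ti, Lt.ci, Lt.ti, Lt.b] (hat (rf_14 hy) 0 rfl) h
theorem dp_c_33_s (hy : Hy g H)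
    (j u : ℕ) (hu : u < M) (h : dp_c_33 j u = true) : Gd g H Lt.c u := by
  unfold dp_c_33 at h
  rcases brec_true h with h | h
  · exact lS_good (T := T) (x := Lt.c) hM0 hu [Lt.t, Lt.t, Lt.ci, Lt.ci, Lt.t, Lt.ci, Lt.ti, Lt.c] (hat (rf_9 hy) 7 rfl) h
  · exact dp_c_32_s hy j u hu h
theorem dp_c_34_s (hy : Hy g H)
    (j u : ℕ) (hu : u < M) (h : dp_c_34 j u = true) : Gd g H Lt.c u := by
  unfold dp_c_34 at h
  rcases brec_true h with h | h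
  · exact dp_c_31_s hy j u hu h
  · exact dp_c_33_s hy j u hu h
theorem dp_c_35_s (hy : Hy g H)
    (j u : ℕ) (hu : u < M) (h : dp_c_35 j u = true) : Gd g H Lt.c u := by
  unfold dp_c_35 at h
  rcases brec_true h with h | h
  · exact dp_c_30_s hy j u hu h
  · exact dp_c_34_s hy j u hu h
theorem dp_c_36_s (hy : Hy g H)
    (j u : ℕ) (hu : u < M) (h : dp_c_36 j u = true) : Gd g H Lt.c u := by
  unfold dp_c_36 at h
  rcases brec_true h with h | h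
  · exact lF_good (T := T) (x := Lt.c) hM0 [Lt.ti, Lt.ti, Lt.c, Lt.ti, Lt.ci, Lt.t, Lt.t, Lt.c] (hat (rf_17 hy) 0 rfl) h
  · exact lF_good (T := T) (x := Lt.c) hM0 [Lt.ti, Lt.ti, Lt.ci, Lt.ci, Lt.t, Lt.c, Lt.ti, Lt.c] (hat (rb_9 hy) 0 rfl) h
theorem dp_c_37_s (hy : Hy g H)
    (j u : ℕ) (hu : u < M) (h : dp_c_37 j u = true) : Gd g H Lt.c u := by
  unfold dp_c_37 at h
  rcases brec_true h with h | h
  · exact lF_good (T := T) (x := Lt.c) hM0 [Lt.ti, Lt.c, Lt.c, Lt.ti, Lt.ti, Lt.ci, Lt.ci, Lt.t] (hat (rb_9 hy) 6 rfl) h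
  · exact dp_c_36_s hy j u hu h
theorem dp_c_38_s (hy : Hy g H)
    (j u : ℕ) (hu : u < M) (h : dp_c_38 j u = true) : Gd g H Lt.c u := by
  unfold dp_c_38 at h
  rcases brec_true h with h | h
  · exact lH_good (T := T) (x := Lt.c) hM0 [] [] (by rw [show cP g H 0 = _ from cc_zero]; exact sub_rel hy.1 (hy.2.2 _ (by decide))) h
  · exact lF_good (T := T) (x := Lt.c) hM0 [Lt.a, Lt.ti, Lt.ci, Lt.ti, Lt.a, Lt.t, Lt.c, Lt.t] (hat (rf_11 hy) 8 rfl) h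
theorem dp_c_39_s (hy : Hy g H)
    (j u : ℕ) (hu : u < M) (h : dp_c_39 j u = true) : Gd g H Lt.c u := by
  unfold dp_c_39 at h
  rcases brec_true h with h | h
  · exact lF_good (T := T) (x := Lt.c) hM0 [Lt.a, Lt.t, Lt.c, Lt.t, Lt.a, Lt.ti, Lt.ci, Lt.ti] (hat (rf_15 hy) 8 rfl) h
  · exact lF_good (T := T) (x := Lt.c) hM0 [Lt.b, Lt.ti, Lt.ci, Lt.ti, Lt.b, Lt.t, Lt.c, Lt.t] (hat (rf_10 hy) 8 rfl) h
theorem dp_c_40_s (hy : Hy g H)
    (j u : ℕ) (hu : u < M) (h : dp_c_40 j u = true) : Gd g H Lt.c u := by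
  unfold dp_c_40 at h
  rcases brec_true h with h | h
  · exact lS_good (T := T) (x := Lt.c) hM0 hu [Lt.b, Lt.ti, Lt.ci, Lt.ti, Lt.b, Lt.t, Lt.c, Lt.t] (hat (rf_10 hy) 8 rfl) h
  · exact dp_c_39_s hy j u hu h
theorem dp_c_41_s (hy : Hy g H)
    (j u : ℕ) (hu : u < M) (h : dp_c_41 j u = true) : Gd g H Lt.c u := by
  unfold dp_c_41 at h
  rcases brec_true h with h | h
  · exact dp_c_38_s hy j u hu h
  · exact dp_c_40_s hy j u hu h
theorem dp_c_42_s (hy : Hy g H)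
    (j u : ℕ) (hu : u < M) (h : dp_c_42 j u = true) : Gd g H Lt.c u := by
  unfold dp_c_42 at h
  rcases brec_true h with h | h
  · exact dp_c_37_s hy j u hu h
  · exact dp_c_41_s hy j u hu h
theorem dp_c_43_s (hy : Hy g H)
    (j u : ℕ) (hu : u < M) (h : dp_c_43 j u = true) : Gd g H Lt.c u := by
  unfold dp_c_43 at h
  rcases brec_true h with h | h
  · exact lF_good (T := T) (x := Lt.c) hM0 [Lt.b, Lt.t, Lt.c, Lt.t, Lt.b, Lt.ti, Lt.ci, Lt.ti] (hat (rf_13 hy) 8 rfl) h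
  · exact lF_good (T := T) (x := Lt.c) hM0 [Lt.t, Lt.t, Lt.ci, Lt.ci, Lt.t, Lt.ci, Lt.ti, Lt.c] (hat (rf_9 hy) 7 rfl) h
theorem dp_c_44_s (hy : Hy g H)
    (j u : ℕ) (hu : u < M) (h : dp_c_44 j u = true) : Gd g H Lt.c u := by
  unfold dp_c_44 at h
  rcases brec_true h with h | h
  · exact lS_good (T := T) (x := Lt.c) hM0 hu [Lt.a, Lt.ti, Lt.ci, Lt.ti, Lt.a, Lt.t, Lt.c, Lt.t] (hat (rf_11 hy) 8 rfl) h
  · exact lS_good (T := T) (x := Lt.c) hM0 hu [Lt.a, Lt.t, Lt.c, Lt.t, Lt.a, Lt.ti, Lt.ci, Lt.ti] (hat (rf_15 hy) 8 rfl) h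
theorem dp_c_45_s (hy : Hy g H)
    (j u : ℕ) (hu : u < M) (h : dp_c_45 j u = true) : Gd g H Lt.c u := by
  unfold dp_c_45 at h
  rcases brec_true h with h | h
  · exact lF_good (T := T) (x := Lt.c) hM0 [Lt.t, Lt.c, Lt.t, Lt.b, Lt.ti, Lt.ci, Lt.ti, Lt.b] (hat (rf_14 hy) 0 rfl) h
  · exact dp_c_44_s hy j u hu h
theorem dp_c_46_s (hy : Hy g H)
    (j u : ℕ) (hu : u < M) (h : dp_c_46 j u = true) : Gd g H Lt.c u := by
  unfold dp_c_46 at h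
  rcases brec_true h with h | h
  · exact dp_c_43_s hy j u hu h
  · exact dp_c_45_s hy j u hu h
theorem dp_c_47_s (hy : Hy g H)
    (j u : ℕ) (hu : u < M) (h : dp_c_47 j u = true) : Gd g H Lt.c u := by
  unfold dp_c_47 at h
  rcases brec_true h with h | h
  · exact lF_good (T := T) (x := Lt.c) hM0 [Lt.t, Lt.b, Lt.ti, Lt.ci, Lt.ti, Lt.c, Lt.b, Lt.t] (hat (rf_13 hy) 2 rfl) h
  · exact lF_good (T := T) (x := Lt.c) hM0 [Lt.c, Lt.t, Lt.t, Lt.ci, Lt.ci, Lt.t, Lt.ci, Lt.ti] (hat (rf_9 hy) 6 rfl) h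
theorem dp_c_48_s (hy : Hy g H)
    (j u : ℕ) (hu : u < M) (h : dp_c_48 j u = true) : Gd g H Lt.c u := by
  unfold dp_c_48 at h
  rcases brec_true h with h | h
  · exact lS_good (T := T) (x := Lt.c) hM0 hu [Lt.t, Lt.c, Lt.a, Lt.ti, Lt.ci, Lt.ti, Lt.a, Lt.t] (hat (rf_11 hy) 6 rfl) h
  · exact dp_c_47_s hy j u hu h
theorem dp_c_49_s (hy : Hy g H)
    (j u : ℕ) (hu : u < M) (h : dp_c_49 j u = true) : Gd g H Lt.c u := by
  unfold dp_c_49 at h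
  rcases brec_true h with h | h
  · exact lS_good (T := T) (x := Lt.c) hM0 hu [Lt.ti, Lt.ti, Lt.c, Lt.ti, Lt.ci, Lt.t, Lt.t, Lt.c] (hat (rf_17 hy) 0 rfl) h
  · exact lS_good (T := T) (x := Lt.c) hM0 hu [Lt.t, Lt.ci, Lt.t, Lt.t, Lt.ci, Lt.ci, Lt.ti, Lt.ti] (hat (rb_17 hy) 5 rfl) h
theorem dp_c_50_s (hy : Hy g H)
    (j u : ℕ) (hu : u < M) (h : dp_c_50 j u = true) : Gd g H Lt.c u := by
  unfold dp_c_50 at h
  rcases brec_true h with h | h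
  · exact lS_good (T := T) (x := Lt.c) hM0 hu [Lt.t, Lt.b, Lt.ti, Lt.ci, Lt.ti, Lt.b, Lt.c, Lt.t] (hat (rf_14 hy) 2 rfl) h
  · exact dp_c_49_s hy j u hu h
theorem dp_c_51_s (hy : Hy g H)
    (j u : ℕ) (hu : u < M) (h : dp_c_51 j u = true) : Gd g H Lt.c u := by
  unfold dp_c_51 at h
  rcases brec_true h with h | h
  · exact dp_c_48_s hy j u hu h
  · exact dp_c_50_s hy j u hu h
theorem dp_c_52_s (hy : Hy g H)
    (j u : ℕ) (hu : u < M) (h : dp_c_52 j u = true) : Gd g H Lt.c u := by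
  unfold dp_c_52 at h
  rcases brec_true h with h | h
  · exact dp_c_46_s hy j u hu h
  · exact dp_c_51_s hy j u hu h
theorem dp_c_53_s (hy : Hy g H)
    (j u : ℕ) (hu : u < M) (h : dp_c_53 j u = true) : Gd g H Lt.c u := by
  unfold dp_c_53 at h
  rcases brec_true h with h | h
  · exact dp_c_42_s hy j u hu h
  · exact dp_c_52_s hy j u hu h
theorem dp_c_54_s (hy : Hy g H)
    (j u : ℕ) (hu : u < M) (h : dp_c_54 j u = true) : Gd g H Lt.c u := by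
  unfold dp_c_54 at h
  rcases brec_true h with h | h
  · exact dp_c_35_s hy j u hu h
  · exact dp_c_53_s hy j u hu h
theorem dp_c_55_s (hy : Hy g H)
    (j u : ℕ) (hu : u < M) (h : dp_c_55 j u = true) : Gd g H Lt.c u := by
  unfold dp_c_55 at h
  rcases brec_true h with h | h
  · exact dp_c_27_s hy j u hu h
  · exact dp_c_54_s hy j u hu h
theorem dp_c_56_s (hy : Hy g H)
    (j u : ℕ) (hu : u < M) (h : dp_c_56 j u = true) : Gd g H Lt.c u := by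
  unfold dp_c_56 at h
  rcases brec_true h with h | h
  · exact dp_c_16_s hy j u hu h
  · exact dp_c_55_s hy j u hu h
theorem dp_c_57_s (hy : Hy g H)
    (j u : ℕ) (hu : u < M) (h : dp_c_57 j u = true) : Gd g H Lt.c u := by
  unfold dp_c_57 at h
  rcases brec_true h with h | h
  · rcases brec_true h with h | h
    · exact dp_c_1_s hy j u hu h
    · exact dp_c_5_s hy j u hu h
  · exact dp_c_56_s hy j u hu h
theorem snd_c (hy : Hy g H)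
    (j u : ℕ) (hu : u < M) (h : disp_c j u = true) : Gd g H Lt.c u := by
  unfold disp_c at h
  rcases brec_true h with h | h
  · rcases brec_true h with h | h
    · exact lF1_good (T := T) (x := Lt.c) hM0 .ci (hat (rf_18 hy) 1 rfl) h
    · exact lPar_good (T := T) (x := Lt.c) (x' := Lt.ci) (by decide) rfl (ivt hy _ _ rfl) h
  · rcases brec_true h with h | h
    · rcases brec_true h with h | h
      · exact lDef_good (T := T) (x := Lt.c) (by decide) rfl h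
      · rcases brec_true h with h | h
        · exact lS_good (T := T) (x := Lt.c) hM0 hu [Lt.ci] (hat (rf_18 hy) 1 rfl) h
        · exact dp_c_0_s hy j u hu h
    · exact dp_c_57_s hy j u hu h
theorem snc_c (hy : Hy g H)
    (j u : ℕ) (hu : u < M) (h : chk_c j u = true) : (T Lt.c u < A ∧ Gd g H Lt.c u) ∨ (A ≤ T Lt.c u ∧ MG u < A) := by
  unfold chk_c at h
  cases hb : Nat.ble A (T_c u) with
  | true => rw [hb] at h; exact Or.inr ⟨le_of_ble hb, le_of_ble h⟩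
  | false => rw [hb] at h; exact Or.inl ⟨lt_of_ble_false hb, snd_c hy j u hu h⟩
theorem dp_ci_0_s (hy : Hy g H)
    (j u : ℕ) (hu : u < M) (h : dp_ci_0 j u = true) : Gd g H Lt.ci u := by
  unfold dp_ci_0 at h
  rcases brec_true h with h | h
  · exact lF_good (T := T) (x := Lt.ci) hM0 [Lt.b, Lt.a, Lt.ci, Lt.bi, Lt.ai] (hat (rb_7 hy) 0 rfl) h
  · exact lF3_good (T := T) (x := Lt.ci) hM0 .zi .c .z (hat (rb_3 hy) 3 rfl) h
theorem dp_ci_1_s (hy : Hy g H)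
    (j u : ℕ) (hu : u < M) (h : dp_ci_1 j u = true) : Gd g H Lt.ci u := by
  unfold dp_ci_1 at h
  rcases brec_true h with h | h
  · exact lF_good (T := T) (x := Lt.ci) hM0 [Lt.ai, Lt.b, Lt.ci, Lt.a, Lt.bi] (hat (rb_8 hy) 0 rfl) h
  · exact lF_good (T := T) (x := Lt.ci) hM0 [Lt.a, Lt.bi, Lt.ci, Lt.ai, Lt.b] (hat (rb_8 hy) 3 rfl) h
theorem dp_ci_2_s (hy : Hy g H)
    (j u : ℕ) (hu : u < M) (h : dp_ci_2 j u = true) : Gd g H Lt.ci u := by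
  unfold dp_ci_2 at h
  rcases brec_true h with h | h
  · exact lF_good (T := T) (x := Lt.ci) hM0 [Lt.bi, Lt.ai, Lt.b, Lt.a, Lt.ci] (hat (rb_6 hy) 0 rfl) h
  · exact lF_good (T := T) (x := Lt.ci) hM0 [Lt.ci, Lt.bi, Lt.ai, Lt.b, Lt.a] (hat (rb_6 hy) 5 rfl) h
theorem dp_ci_3_s (hy : Hy g H)
    (j u : ℕ) (hu : u < M) (h : dp_ci_3 j u = true) : Gd g H Lt.ci u := by
  unfold dp_ci_3 at h
  rcases brec_true h with h | h
  · exact lF3_good (T := T) (x := Lt.ci) hM0 .z .c .zi (hat (rf_3 hy) 0 rfl) h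
  · exact dp_ci_2_s hy j u hu h
theorem dp_ci_4_s (hy : Hy g H)
    (j u : ℕ) (hu : u < M) (h : dp_ci_4 j u = true) : Gd g H Lt.ci u := by
  unfold dp_ci_4 at h
  rcases brec_true h with h | h
  · exact lS_good (T := T) (x := Lt.ci) hM0 hu [Lt.b, Lt.a, Lt.ci, Lt.bi, Lt.ai] (hat (rb_7 hy) 0 rfl) h
  · exact lS_good (T := T) (x := Lt.ci) hM0 hu [Lt.ai, Lt.b, Lt.ci, Lt.a, Lt.bi] (hat (rb_8 hy) 0 rfl) h
theorem dp_ci_5_s (hy : Hy g H)
    (j u : ℕ) (hu : u < M) (h : dp_ci_5 j u = true) : Gd g H Lt.ci u := by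
  unfold dp_ci_5 at h
  rcases brec_true h with h | h
  · exact lS_good (T := T) (x := Lt.ci) hM0 hu [Lt.a, Lt.bi, Lt.ci, Lt.ai, Lt.b] (hat (rb_8 hy) 3 rfl) h
  · exact lF_good (T := T) (x := Lt.ci) hM0 [Lt.bi, Lt.ai, Lt.ci, Lt.b, Lt.a] (hat (rb_7 hy) 3 rfl) h
theorem dp_ci_6_s (hy : Hy g H)
    (j u : ℕ) (hu : u < M) (h : dp_ci_6 j u = true) : Gd g H Lt.ci u := by
  unfold dp_ci_6 at h
  rcases brec_true h with h | h
  · exact dp_ci_4_s hy j u hu h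
  · exact dp_ci_5_s hy j u hu h
theorem dp_ci_7_s (hy : Hy g H)
    (j u : ℕ) (hu : u < M) (h : dp_ci_7 j u = true) : Gd g H Lt.ci u := by
  unfold dp_ci_7 at h
  rcases brec_true h with h | h
  · exact dp_ci_3_s hy j u hu h
  · exact dp_ci_6_s hy j u hu h
theorem dp_ci_8_s (hy : Hy g H)
    (j u : ℕ) (hu : u < M) (h : dp_ci_8 j u = true) : Gd g H Lt.ci u := by
  unfold dp_ci_8 at h
  rcases brec_true h with h | h
  · exact lS_good (T := T) (x := Lt.ci) hM0 hu [Lt.bi, Lt.ai, Lt.b, Lt.a, Lt.ci] (hat (rb_6 hy) 0 rfl) h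
  · exact lS_good (T := T) (x := Lt.ci) hM0 hu [Lt.bi, Lt.ai, Lt.ci, Lt.b, Lt.a] (hat (rb_7 hy) 3 rfl) h
theorem dp_ci_9_s (hy : Hy g H)
    (j u : ℕ) (hu : u < M) (h : dp_ci_9 j u = true) : Gd g H Lt.ci u := by
  unfold dp_ci_9 at h
  rcases brec_true h with h | h
  · exact lS_good (T := T) (x := Lt.ci) hM0 hu [Lt.ti, Lt.b, Lt.t, Lt.c, Lt.t, Lt.c, Lt.b, Lt.ti] (hat (rf_10 hy) 2 rfl) h
  · exact lS_good (T := T) (x := Lt.ci) hM0 hu [Lt.ci, Lt.bi, Lt.ai, Lt.b, Lt.a] (hat (rb_6 hy) 5 rfl) h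
theorem dp_ci_10_s (hy : Hy g H)
    (j u : ℕ) (hu : u < M) (h : dp_ci_10 j u = true) : Gd g H Lt.ci u := by
  unfold dp_ci_10 at h
  rcases brec_true h with h | h
  · exact lF_good (T := T) (x := Lt.ci) hM0 [Lt.ti, Lt.bi, Lt.ci, Lt.t, Lt.c, Lt.t, Lt.bi, Lt.ti] (hat (rb_13 hy) 8 rfl) h
  · exact dp_ci_9_s hy j u hu h
theorem dp_ci_11_s (hy : Hy g H)
    (j u : ℕ) (hu : u < M) (h : dp_ci_11 j u = true) : Gd g H Lt.ci u := by
  unfold dp_ci_11 at h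
  rcases brec_true h with h | h
  · exact dp_ci_8_s hy j u hu h
  · exact dp_ci_10_s hy j u hu h
theorem dp_ci_12_s (hy : Hy g H)
    (j u : ℕ) (hu : u < M) (h : dp_ci_12 j u = true) : Gd g H Lt.ci u := by
  unfold dp_ci_12 at h
  rcases brec_true h with h | h
  · exact lS_good (T := T) (x := Lt.ci) hM0 hu [Lt.ti, Lt.a, Lt.t, Lt.c, Lt.t, Lt.c, Lt.a, Lt.ti] (hat (rf_11 hy) 2 rfl) h
  · exact lS_good (T := T) (x := Lt.ci) hM0 hu [Lt.ti, Lt.bi, Lt.ci, Lt.t, Lt.c, Lt.t, Lt.bi, Lt.ti] (hat (rb_13 hy) 8 rfl) h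
theorem dp_ci_13_s (hy : Hy g H)
    (j u : ℕ) (hu : u < M) (h : dp_ci_13 j u = true) : Gd g H Lt.ci u := by
  unfold dp_ci_13 at h
  rcases brec_true h with h | h
  · exact lF_good (T := T) (x := Lt.ci) hM0 [Lt.ti, Lt.b, Lt.t, Lt.c, Lt.t, Lt.c, Lt.b, Lt.ti] (hat (rf_10 hy) 2 rfl) h
  · exact dp_ci_12_s hy j u hu h
theorem dp_ci_14_s (hy : Hy g H)
    (j u : ℕ) (hu : u < M) (h : dp_ci_14 j u = true) : Gd g H Lt.ci u := by
  unfold dp_ci_14 at h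
  rcases brec_true h with h | h
  · exact lS_good (T := T) (x := Lt.ci) hM0 hu [Lt.ti, Lt.c, Lt.c, Lt.t, Lt.t, Lt.ci, Lt.ci, Lt.t] (hat (rf_9 hy) 4 rfl) h
  · exact lF_good (T := T) (x := Lt.ci) hM0 [Lt.ti, Lt.bi, Lt.t, Lt.c, Lt.t, Lt.bi, Lt.ci, Lt.ti] (hat (rb_10 hy) 4 rfl) h
theorem dp_ci_15_s (hy : Hy g H)
    (j u : ℕ) (hu : u < M) (h : dp_ci_15 j u = true) : Gd g H Lt.ci u := by
  unfold dp_ci_15 at h
  rcases brec_true h with h | h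
  · exact lS_good (T := T) (x := Lt.ci) hM0 hu [Lt.ti, Lt.ai, Lt.t, Lt.c, Lt.t, Lt.ai, Lt.ci, Lt.ti] (hat (rb_11 hy) 4 rfl) h
  · exact dp_ci_14_s hy j u hu h
theorem dp_ci_16_s (hy : Hy g H)
    (j u : ℕ) (hu : u < M) (h : dp_ci_16 j u = true) : Gd g H Lt.ci u := by
  unfold dp_ci_16 at h
  rcases brec_true h with h | h
  · exact dp_ci_13_s hy j u hu h
  · exact dp_ci_15_s hy j u hu h
theorem dp_ci_17_s (hy : Hy g H)
    (j u : ℕ) (hu : u < M) (h : dp_ci_17 j u = true) : Gd g H Lt.ci u := by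
  unfold dp_ci_17 at h
  rcases brec_true h with h | h
  · exact dp_ci_11_s hy j u hu h
  · exact dp_ci_16_s hy j u hu h
theorem dp_ci_18_s (hy : Hy g H)
    (j u : ℕ) (hu : u < M) (h : dp_ci_18 j u = true) : Gd g H Lt.ci u := by
  unfold dp_ci_18 at h
  rcases brec_true h with h | h
  · exact lS_good (T := T) (x := Lt.ci) hM0 hu [Lt.t, Lt.t, Lt.c, Lt.c, Lt.ti, Lt.ti, Lt.c, Lt.ti] (hat (rf_17 hy) 5 rfl) h
  · exact lF_good (T := T) (x := Lt.ci) hM0 [Lt.ti, Lt.a, Lt.t, Lt.c, Lt.t, Lt.c, Lt.a, Lt.ti] (hat (rf_11 hy) 2 rfl) h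
theorem dp_ci_19_s (hy : Hy g H)
    (j u : ℕ) (hu : u < M) (h : dp_ci_19 j u = true) : Gd g H Lt.ci u := by
  unfold dp_ci_19 at h
  rcases brec_true h with h | h
  · exact lF_good (T := T) (x := Lt.ci) hM0 [Lt.t, Lt.c, Lt.t, Lt.bi, Lt.ti, Lt.ci, Lt.ti, Lt.bi] (hat (rb_13 hy) 2 rfl) h
  · exact lS_good (T := T) (x := Lt.ci) hM0 hu [Lt.ci, Lt.t, Lt.ci, Lt.ti, Lt.c, Lt.c, Lt.t, Lt.t] (hat (rf_9 hy) 1 rfl) h
theorem dp_ci_20_s (hy : Hy g H)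
    (j u : ℕ) (hu : u < M) (h : dp_ci_20 j u = true) : Gd g H Lt.ci u := by
  unfold dp_ci_20 at h
  rcases brec_true h with h | h
  · exact lS_good (T := T) (x := Lt.ci) hM0 hu [Lt.ti, Lt.bi, Lt.t, Lt.c, Lt.t, Lt.bi, Lt.ci, Lt.ti] (hat (rb_10 hy) 4 rfl) h
  · exact dp_ci_19_s hy j u hu h
theorem dp_ci_21_s (hy : Hy g H)
    (j u : ℕ) (hu : u < M) (h : dp_ci_21 j u = true) : Gd g H Lt.ci u := by
  unfold dp_ci_21 at h
  rcases brec_true h with h | h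
  · exact dp_ci_18_s hy j u hu h
  · exact dp_ci_20_s hy j u hu h
theorem dp_ci_22_s (hy : Hy g H)
    (j u : ℕ) (hu : u < M) (h : dp_ci_22 j u = true) : Gd g H Lt.ci u := by
  unfold dp_ci_22 at h
  rcases brec_true h with h | h
  · exact lF_good (T := T) (x := Lt.ci) hM0 [Lt.t, Lt.ci, Lt.ti, Lt.c, Lt.c, Lt.t, Lt.t, Lt.ci] (hat (rf_9 hy) 2 rfl) h
  · exact lS_good (T := T) (x := Lt.ci) hM0 hu [Lt.ti, Lt.ci, Lt.bi, Lt.t, Lt.c, Lt.t, Lt.bi, Lt.ti] (hat (rb_14 hy) 8 rfl) h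
theorem dp_ci_23_s (hy : Hy g H)
    (j u : ℕ) (hu : u < M) (h : dp_ci_23 j u = true) : Gd g H Lt.ci u := by
  unfold dp_ci_23 at h
  rcases brec_true h with h | h
  · exact lS_good (T := T) (x := Lt.ci) hM0 hu [Lt.t, Lt.t, Lt.ci, Lt.ci, Lt.ti, Lt.ti, Lt.c, Lt.t] (hat (rb_17 hy) 7 rfl) h
  · exact dp_ci_22_s hy j u hu h
theorem dp_ci_24_s (hy : Hy g H)
    (j u : ℕ) (hu : u < M) (h : dp_ci_24 j u = true) : Gd g H Lt.ci u := by
  unfold dp_ci_24 at h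
  rcases brec_true h with h | h
  · exact lF_good (T := T) (x := Lt.ci) hM0 [Lt.ti, Lt.ai, Lt.ci, Lt.t, Lt.c, Lt.t, Lt.ai, Lt.ti] (hat (rb_15 hy) 8 rfl) h
  · exact lS_good (T := T) (x := Lt.ci) hM0 hu [Lt.ci, Lt.ti, Lt.ti, Lt.c, Lt.t, Lt.ci, Lt.t, Lt.t] (hat (rb_17 hy) 1 rfl) h
theorem dp_ci_25_s (hy : Hy g H)
    (j u : ℕ) (hu : u < M) (h : dp_ci_25 j u = true) : Gd g H Lt.ci u := by
  unfold dp_ci_25 at h
  rcases brec_true h with h | h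
  · exact lS_good (T := T) (x := Lt.ci) hM0 hu [Lt.z, Lt.c, Lt.zi] (hat (rf_3 hy) 0 rfl) h
  · exact dp_ci_24_s hy j u hu h
theorem dp_ci_26_s (hy : Hy g H)
    (j u : ℕ) (hu : u < M) (h : dp_ci_26 j u = true) : Gd g H Lt.ci u := by
  unfold dp_ci_26 at h
  rcases brec_true h with h | h
  · exact dp_ci_23_s hy j u hu h
  · exact dp_ci_25_s hy j u hu h
theorem dp_ci_27_s (hy : Hy g H)
    (j u : ℕ) (hu : u < M) (h : dp_ci_27 j u = true) : Gd g H Lt.ci u := by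
  unfold dp_ci_27 at h
  rcases brec_true h with h | h
  · exact dp_ci_21_s hy j u hu h
  · exact dp_ci_26_s hy j u hu h
theorem dp_ci_28_s (hy : Hy g H)
    (j u : ℕ) (hu : u < M) (h : dp_ci_28 j u = true) : Gd g H Lt.ci u := by
  unfold dp_ci_28 at h
  rcases brec_true h with h | h
  · exact lF_good (T := T) (x := Lt.ci) hM0 [Lt.t, Lt.t, Lt.c, Lt.c, Lt.ti, Lt.ti, Lt.c, Lt.ti] (hat (rf_17 hy) 5 rfl) h
  · exact lF_good (T := T) (x := Lt.ci) hM0 [Lt.ti, Lt.c, Lt.b, Lt.t, Lt.c, Lt.t, Lt.b, Lt.ti] (hat (rf_13 hy) 6 rfl) h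
theorem dp_ci_29_s (hy : Hy g H)
    (j u : ℕ) (hu : u < M) (h : dp_ci_29 j u = true) : Gd g H Lt.ci u := by
  unfold dp_ci_29 at h
  rcases brec_true h with h | h
  · exact lF_good (T := T) (x := Lt.ci) hM0 [Lt.t, Lt.c, Lt.ti, Lt.c, Lt.c, Lt.ti, Lt.ti, Lt.ci] (hat (rb_9 hy) 4 rfl) h
  · exact lS_good (T := T) (x := Lt.ci) hM0 hu [Lt.ti, Lt.ai, Lt.ci, Lt.t, Lt.c, Lt.t, Lt.ai, Lt.ti] (hat (rb_15 hy) 8 rfl) h
theorem dp_ci_30_s (hy : Hy g H)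
    (j u : ℕ) (hu : u < M) (h : dp_ci_30 j u = true) : Gd g H Lt.ci u := by
  unfold dp_ci_30 at h
  rcases brec_true h with h | h
  · exact dp_ci_28_s hy j u hu h
  · exact dp_ci_29_s hy j u hu h
theorem dp_ci_31_s (hy : Hy g H)
    (j u : ℕ) (hu : u < M) (h : dp_ci_31 j u = true) : Gd g H Lt.ci u := by
  unfold dp_ci_31 at h
  rcases brec_true h with h | h
  · exact lS_good (T := T) (x := Lt.ci) hM0 hu [Lt.t, Lt.c, Lt.t, Lt.ai, Lt.ti, Lt.ci, Lt.ti, Lt.ai] (hat (rb_15 hy) 2 rfl) h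
  · exact lF_good (T := T) (x := Lt.ci) hM0 [Lt.ti, Lt.ai, Lt.t, Lt.c, Lt.t, Lt.ai, Lt.ci, Lt.ti] (hat (rb_11 hy) 4 rfl) h
theorem dp_ci_32_s (hy : Hy g H)
    (j u : ℕ) (hu : u < M) (h : dp_ci_32 j u = true) : Gd g H Lt.ci u := by
  unfold dp_ci_32 at h
  rcases brec_true h with h | h
  · exact lS_good (T := T) (x := Lt.ci) hM0 hu [Lt.t, Lt.ci, Lt.ti, Lt.c, Lt.c, Lt.t, Lt.t, Lt.ci] (hat (rf_9 hy) 2 rfl) h
  · exact lF_good (T := T) (x := Lt.ci) hM0 [Lt.t, Lt.t, Lt.ci, Lt.ci, Lt.ti, Lt.ti, Lt.c, Lt.t] (hat (rb_17 hy) 7 rfl) h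
theorem dp_ci_33_s (hy : Hy g H)
    (j u : ℕ) (hu : u < M) (h : dp_ci_33 j u = true) : Gd g H Lt.ci u := by
  unfold dp_ci_33 at h
  rcases brec_true h with h | h
  · exact lS_good (T := T) (x := Lt.ci) hM0 hu [Lt.ti, Lt.c, Lt.a, Lt.t, Lt.c, Lt.t, Lt.a, Lt.ti] (hat (rf_15 hy) 6 rfl) h
  · exact dp_ci_32_s hy j u hu h
theorem dp_ci_34_s (hy : Hy g H)
    (j u : ℕ) (hu : u < M) (h : dp_ci_34 j u = true) : Gd g H Lt.ci u := by
  unfold dp_ci_34 at h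
  rcases brec_true h with h | h
  · exact dp_ci_31_s hy j u hu h
  · exact dp_ci_33_s hy j u hu h
theorem dp_ci_35_s (hy : Hy g H)
    (j u : ℕ) (hu : u < M) (h : dp_ci_35 j u = true) : Gd g H Lt.ci u := by
  unfold dp_ci_35 at h
  rcases brec_true h with h | h
  · exact dp_ci_30_s hy j u hu h
  · exact dp_ci_34_s hy j u hu h
theorem dp_ci_36_s (hy : Hy g H)
    (j u : ℕ) (hu : u < M) (h : dp_ci_36 j u = true) : Gd g H Lt.ci u := by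
  unfold dp_ci_36 at h
  rcases brec_true h with h | h
  · exact lS_good (T := T) (x := Lt.ci) hM0 hu [Lt.ti, Lt.b, Lt.c, Lt.t, Lt.c, Lt.t, Lt.b, Lt.ti] (hat (rf_14 hy) 6 rfl) h
  · exact lF_good (T := T) (x := Lt.ci) hM0 [Lt.ti, Lt.c, Lt.c, Lt.t, Lt.t, Lt.ci, Lt.ci, Lt.t] (hat (rf_9 hy) 4 rfl) h
theorem dp_ci_37_s (hy : Hy g H)
    (j u : ℕ) (hu : u < M) (h : dp_ci_37 j u = true) : Gd g H Lt.ci u := by
  unfold dp_ci_37 at h
  rcases brec_true h with h | h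
  · exact lF_good (T := T) (x := Lt.ci) hM0 [Lt.ci, Lt.t, Lt.ci, Lt.ti, Lt.c, Lt.c, Lt.t, Lt.t] (hat (rf_9 hy) 1 rfl) h
  · exact lF_good (T := T) (x := Lt.ci) hM0 [Lt.ti, Lt.ci, Lt.ti, Lt.ai, Lt.t, Lt.c, Lt.t, Lt.ai] (hat (rb_11 hy) 2 rfl) h
theorem dp_ci_38_s (hy : Hy g H)
    (j u : ℕ) (hu : u < M) (h : dp_ci_38 j u = true) : Gd g H Lt.ci u := by
  unfold dp_ci_38 at h
  rcases brec_true h with h | h
  · exact lS_good (T := T) (x := Lt.ci) hM0 hu [Lt.ti, Lt.ti, Lt.c, Lt.t, Lt.ci, Lt.t, Lt.t, Lt.ci] (hat (rb_17 hy) 2 rfl) h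
  · exact lF_good (T := T) (x := Lt.ci) hM0 [Lt.bi, Lt.t, Lt.c, Lt.t, Lt.bi, Lt.ti, Lt.ci, Lt.ti] (hat (rb_14 hy) 1 rfl) h
theorem dp_ci_39_s (hy : Hy g H)
    (j u : ℕ) (hu : u < M) (h : dp_ci_39 j u = true) : Gd g H Lt.ci u := by
  unfold dp_ci_39 at h
  rcases brec_true h with h | h
  · exact lS_good (T := T) (x := Lt.ci) hM0 hu [Lt.ti, Lt.ci, Lt.ti, Lt.bi, Lt.t, Lt.c, Lt.t, Lt.bi] (hat (rb_10 hy) 2 rfl) h
  · exact dp_ci_38_s hy j u hu h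
theorem dp_ci_40_s (hy : Hy g H)
    (j u : ℕ) (hu : u < M) (h : dp_ci_40 j u = true) : Gd g H Lt.ci u := by
  unfold dp_ci_40 at h
  rcases brec_true h with h | h
  · exact dp_ci_37_s hy j u hu h
  · exact dp_ci_39_s hy j u hu h
theorem dp_ci_41_s (hy : Hy g H)
    (j u : ℕ) (hu : u < M) (h : dp_ci_41 j u = true) : Gd g H Lt.ci u := by
  unfold dp_ci_41 at h
  rcases brec_true h with h | h
  · exact dp_ci_36_s hy j u hu h
  · exact dp_ci_40_s hy j u hu h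
theorem dp_ci_42_s (hy : Hy g H)
    (j u : ℕ) (hu : u < M) (h : dp_ci_42 j u = true) : Gd g H Lt.ci u := by
  unfold dp_ci_42 at h
  rcases brec_true h with h | h
  · exact lS_good (T := T) (x := Lt.ci) hM0 hu [Lt.ti, Lt.c, Lt.b, Lt.t, Lt.c, Lt.t, Lt.b, Lt.ti] (hat (rf_13 hy) 6 rfl) h
  · exact lS_good (T := T) (x := Lt.ci) hM0 hu [Lt.t, Lt.c, Lt.t, Lt.bi, Lt.ti, Lt.ci, Lt.ti, Lt.bi] (hat (rb_13 hy) 2 rfl) h
theorem dp_ci_43_s (hy : Hy g H)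
    (j u : ℕ) (hu : u < M) (h : dp_ci_43 j u = true) : Gd g H Lt.ci u := by
  unfold dp_ci_43 at h
  rcases brec_true h with h | h
  · exact lS_good (T := T) (x := Lt.ci) hM0 hu [Lt.bi, Lt.t, Lt.c, Lt.t, Lt.bi, Lt.ti, Lt.ci, Lt.ti] (hat (rb_14 hy) 1 rfl) h
  · exact lF_good (T := T) (x := Lt.ci) hM0 [Lt.ti, Lt.ci, Lt.bi, Lt.t, Lt.c, Lt.t, Lt.bi, Lt.ti] (hat (rb_14 hy) 8 rfl) h
theorem dp_ci_44_s (hy : Hy g H)
    (j u : ℕ) (hu : u < M) (h : dp_ci_44 j u = true) : Gd g H Lt.ci u := by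
  unfold dp_ci_44 at h
  rcases brec_true h with h | h
  · exact lF_good (T := T) (x := Lt.ci) hM0 [Lt.t, Lt.c, Lt.t, Lt.ai, Lt.ti, Lt.ci, Lt.ti, Lt.ai] (hat (rb_15 hy) 2 rfl) h
  · exact dp_ci_43_s hy j u hu h
theorem dp_ci_45_s (hy : Hy g H)
    (j u : ℕ) (hu : u < M) (h : dp_ci_45 j u = true) : Gd g H Lt.ci u := by
  unfold dp_ci_45 at h
  rcases brec_true h with h | h
  · exact dp_ci_42_s hy j u hu h
  · exact dp_ci_44_s hy j u hu h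
theorem dp_ci_46_s (hy : Hy g H)
    (j u : ℕ) (hu : u < M) (h : dp_ci_46 j u = true) : Gd g H Lt.ci u := by
  unfold dp_ci_46 at h
  rcases brec_true h with h | h
  · exact lS_good (T := T) (x := Lt.ci) hM0 hu [Lt.zi, Lt.c, Lt.z] (hat (rb_3 hy) 3 rfl) h
  · exact lF_good (T := T) (x := Lt.ci) hM0 [Lt.ti, Lt.ti, Lt.c, Lt.t, Lt.ci, Lt.t, Lt.t, Lt.ci] (hat (rb_17 hy) 2 rfl) h
theorem dp_ci_47_s (hy : Hy g H)
    (j u : ℕ) (hu : u < M) (h : dp_ci_47 j u = true) : Gd g H Lt.ci u := by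
  unfold dp_ci_47 at h
  rcases brec_true h with h | h
  · exact lF_good (T := T) (x := Lt.ci) hM0 [Lt.ti, Lt.ci, Lt.ti, Lt.bi, Lt.t, Lt.c, Lt.t, Lt.bi] (hat (rb_10 hy) 2 rfl) h
  · exact lS_good (T := T) (x := Lt.ci) hM0 hu [Lt.t, Lt.c, Lt.ti, Lt.c, Lt.c, Lt.ti, Lt.ti, Lt.ci] (hat (rb_9 hy) 4 rfl) h
theorem dp_ci_48_s (hy : Hy g H)
    (j u : ℕ) (hu : u < M) (h : dp_ci_48 j u = true) : Gd g H Lt.ci u := by
  unfold dp_ci_48 at h
  rcases brec_true h with h | h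
  · exact lS_good (T := T) (x := Lt.ci) hM0 hu [Lt.ci, Lt.t, Lt.c, Lt.ti, Lt.c, Lt.c, Lt.ti, Lt.ti] (hat (rb_9 hy) 3 rfl) h
  · exact dp_ci_47_s hy j u hu h
theorem dp_ci_49_s (hy : Hy g H)
    (j u : ℕ) (hu : u < M) (h : dp_ci_49 j u = true) : Gd g H Lt.ci u := by
  unfold dp_ci_49 at h
  rcases brec_true h with h | h
  · exact dp_ci_46_s hy j u hu h
  · exact dp_ci_48_s hy j u hu h
theorem dp_ci_50_s (hy : Hy g H)
    (j u : ℕ) (hu : u < M) (h : dp_ci_50 j u = true) : Gd g H Lt.ci u := by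
  unfold dp_ci_50 at h
  rcases brec_true h with h | h
  · exact dp_ci_45_s hy j u hu h
  · exact dp_ci_49_s hy j u hu h
theorem dp_ci_51_s (hy : Hy g H)
    (j u : ℕ) (hu : u < M) (h : dp_ci_51 j u = true) : Gd g H Lt.ci u := by
  unfold dp_ci_51 at h
  rcases brec_true h with h | h
  · exact dp_ci_41_s hy j u hu h
  · exact dp_ci_50_s hy j u hu h
theorem dp_ci_52_s (hy : Hy g H)
    (j u : ℕ) (hu : u < M) (h : dp_ci_52 j u = true) : Gd g H Lt.ci u := by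
  unfold dp_ci_52 at h
  rcases brec_true h with h | h
  · exact dp_ci_35_s hy j u hu h
  · exact dp_ci_51_s hy j u hu h
theorem dp_ci_53_s (hy : Hy g H)
    (j u : ℕ) (hu : u < M) (h : dp_ci_53 j u = true) : Gd g H Lt.ci u := by
  unfold dp_ci_53 at h
  rcases brec_true h with h | h
  · exact dp_ci_27_s hy j u hu h
  · exact dp_ci_52_s hy j u hu h
theorem dp_ci_54_s (hy : Hy g H)
    (j u : ℕ) (hu : u < M) (h : dp_ci_54 j u = true) : Gd g H Lt.ci u := by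
  unfold dp_ci_54 at h
  rcases brec_true h with h | h
  · exact dp_ci_17_s hy j u hu h
  · exact dp_ci_53_s hy j u hu h
theorem dp_ci_55_s (hy : Hy g H)
    (j u : ℕ) (hu : u < M) (h : dp_ci_55 j u = true) : Gd g H Lt.ci u := by
  unfold dp_ci_55 at h
  rcases brec_true h with h | h
  · exact dp_ci_7_s hy j u hu h
  · exact dp_ci_54_s hy j u hu h
theorem dp_ci_56_s (hy : Hy g H)
    (j u : ℕ) (hu : u < M) (h : dp_ci_56 j u = true) : Gd g H Lt.ci u := by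
  unfold dp_ci_56 at h
  rcases brec_true h with h | h
  · rcases brec_true h with h | h
    · exact lS_good (T := T) (x := Lt.ci) hM0 hu [Lt.c] (hat (rf_18 hy) 0 rfl) h
    · rcases brec_true h with h | h
      · exact dp_ci_0_s hy j u hu h
      · exact dp_ci_1_s hy j u hu h
  · exact dp_ci_55_s hy j u hu h
theorem snd_ci (hy : Hy g H)
    (j u : ℕ) (hu : u < M) (h : disp_ci j u = true) : Gd g H Lt.ci u := by
  unfold disp_ci at h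
  rcases brec_true h with h | h
  · rcases brec_true h with h | h
    · exact lF1_good (T := T) (x := Lt.ci) hM0 .c (hat (rf_18 hy) 0 rfl) h
    · rcases brec_true h with h | h
      · exact lDef_good (T := T) (x := Lt.ci) (by decide) rfl h
      · exact lPar_good (T := T) (x := Lt.ci) (x' := Lt.c) (by decide) rfl (ivt hy _ _ rfl) h
  · exact dp_ci_56_s hy j u hu h
theorem snc_ci (hy : Hy g H)
    (j u : ℕ) (hu : u < M) (h : chk_ci j u = true) : (T Lt.ci u < A ∧ Gd g H Lt.ci u) ∨ (A ≤ T Lt.ci u ∧ MG u < A) := by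
  unfold chk_ci at h
  cases hb : Nat.ble A (T_ci u) with
  | true => rw [hb] at h; exact Or.inr ⟨le_of_ble hb, le_of_ble h⟩
  | false => rw [hb] at h; exact Or.inl ⟨lt_of_ble_false hb, snd_ci hy j u hu h⟩
theorem dp_a_0_s (hy : Hy g H)
    (j u : ℕ) (hu : u < M) (h : dp_a_0 j u = true) : Gd g H Lt.a u := by
  unfold dp_a_0 at h
  rcases brec_true h with h | h
  · exact lS_good (T := T) (x := Lt.a) hM0 hu [Lt.ai] (hat (rf_20 hy) 1 rfl) h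
  · exact lF3_good (T := T) (x := Lt.a) hM0 .zi .ai .z (hat (rf_2 hy) 2 rfl) h
theorem dp_a_1_s (hy : Hy g H)
    (j u : ℕ) (hu : u < M) (h : dp_a_1 j u = true) : Gd g H Lt.a u := by
  unfold dp_a_1 at h
  rcases brec_true h with h | h
  · exact lF_good (T := T) (x := Lt.a) hM0 [Lt.b, Lt.c, Lt.c, Lt.ai, Lt.bi] (hat (rf_6 hy) 5 rfl) h
  · exact lF_good (T := T) (x := Lt.a) hM0 [Lt.b, Lt.c, Lt.ai, Lt.bi, Lt.c] (hat (rf_7 hy) 2 rfl) h
theorem dp_a_2_s (hy : Hy g H)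
    (j u : ℕ) (hu : u < M) (h : dp_a_2 j u = true) : Gd g H Lt.a u := by
  unfold dp_a_2 at h
  rcases brec_true h with h | h
  · exact lF_good (T := T) (x := Lt.a) hM0 [Lt.ci, Lt.bi, Lt.ai, Lt.ci, Lt.b] (hat (rb_7 hy) 2 rfl) h
  · exact lF3_good (T := T) (x := Lt.a) hM0 .z .ai .zi (hat (rb_2 hy) 1 rfl) h
theorem dp_a_3_s (hy : Hy g H)
    (j u : ℕ) (hu : u < M) (h : dp_a_3 j u = true) : Gd g H Lt.a u := by
  unfold dp_a_3 at h
  rcases brec_true h with h | h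
  · exact lF_good (T := T) (x := Lt.a) hM0 [Lt.ci, Lt.ci, Lt.bi, Lt.ai, Lt.b] (hat (rb_6 hy) 4 rfl) h
  · exact dp_a_2_s hy j u hu h
theorem dp_a_4_s (hy : Hy g H)
    (j u : ℕ) (hu : u < M) (h : dp_a_4 j u = true) : Gd g H Lt.a u := by
  unfold dp_a_4 at h
  rcases brec_true h with h | h
  · exact lF_good (T := T) (x := Lt.a) hM0 [Lt.bi, Lt.ci, Lt.ai, Lt.b, Lt.ci] (hat (rb_8 hy) 4 rfl) h
  · exact lS_good (T := T) (x := Lt.a) hM0 hu [Lt.b, Lt.c, Lt.c, Lt.ai, Lt.bi] (hat (rf_6 hy) 5 rfl) h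
theorem dp_a_5_s (hy : Hy g H)
    (j u : ℕ) (hu : u < M) (h : dp_a_5 j u = true) : Gd g H Lt.a u := by
  unfold dp_a_5 at h
  rcases brec_true h with h | h
  · exact lF_good (T := T) (x := Lt.a) hM0 [Lt.c, Lt.b, Lt.ai, Lt.c, Lt.bi] (hat (rf_8 hy) 0 rfl) h
  · exact lS_good (T := T) (x := Lt.a) hM0 hu [Lt.ci, Lt.bi, Lt.ai, Lt.ci, Lt.b] (hat (rb_7 hy) 2 rfl) h
theorem dp_a_6_s (hy : Hy g H)
    (j u : ℕ) (hu : u < M) (h : dp_a_6 j u = true) : Gd g H Lt.a u := by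
  unfold dp_a_6 at h
  rcases brec_true h with h | h
  · exact dp_a_4_s hy j u hu h
  · exact dp_a_5_s hy j u hu h
theorem dp_a_7_s (hy : Hy g H)
    (j u : ℕ) (hu : u < M) (h : dp_a_7 j u = true) : Gd g H Lt.a u := by
  unfold dp_a_7 at h
  rcases brec_true h with h | h
  · exact lS_good (T := T) (x := Lt.a) hM0 hu [Lt.ci, Lt.ci, Lt.bi, Lt.ai, Lt.b] (hat (rb_6 hy) 4 rfl) h
  · exact lS_good (T := T) (x := Lt.a) hM0 hu [Lt.bi, Lt.ci, Lt.ai, Lt.b, Lt.ci] (hat (rb_8 hy) 4 rfl) h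
theorem dp_a_8_s (hy : Hy g H)
    (j u : ℕ) (hu : u < M) (h : dp_a_8 j u = true) : Gd g H Lt.a u := by
  unfold dp_a_8 at h
  rcases brec_true h with h | h
  · exact lS_good (T := T) (x := Lt.a) hM0 hu [Lt.c, Lt.b, Lt.ai, Lt.c, Lt.bi] (hat (rf_8 hy) 0 rfl) h
  · exact lS_good (T := T) (x := Lt.a) hM0 hu [Lt.ti, Lt.ai, Lt.t, Lt.bi, Lt.ti, Lt.ti, Lt.b, Lt.ti] (hat (rb_16 hy) 0 rfl) h
theorem dp_a_9_s (hy : Hy g H)
    (j u : ℕ) (hu : u < M) (h : dp_a_9 j u = true) : Gd g H Lt.a u := by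
  unfold dp_a_9 at h
  rcases brec_true h with h | h
  · exact dp_a_7_s hy j u hu h
  · exact dp_a_8_s hy j u hu h
theorem dp_a_10_s (hy : Hy g H)
    (j u : ℕ) (hu : u < M) (h : dp_a_10 j u = true) : Gd g H Lt.a u := by
  unfold dp_a_10 at h
  rcases brec_true h with h | h
  · exact lS_good (T := T) (x := Lt.a) hM0 hu [Lt.t, Lt.ai, Lt.t, Lt.bi, Lt.t, Lt.t, Lt.b, Lt.ti] (hat (rf_16 hy) 8 rfl) h
  · exact lF_good (T := T) (x := Lt.a) hM0 [Lt.ti, Lt.ci, Lt.ti, Lt.c, Lt.a, Lt.t, Lt.c, Lt.t] (hat (rf_15 hy) 4 rfl) h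
theorem dp_a_11_s (hy : Hy g H)
    (j u : ℕ) (hu : u < M) (h : dp_a_11 j u = true) : Gd g H Lt.a u := by
  unfold dp_a_11 at h
  rcases brec_true h with h | h
  · exact lF_good (T := T) (x := Lt.a) hM0 [Lt.t, Lt.c, Lt.t, Lt.c, Lt.a, Lt.ti, Lt.ci, Lt.ti] (hat (rf_11 hy) 4 rfl) h
  · exact lF_good (T := T) (x := Lt.a) hM0 [Lt.ti, Lt.ai, Lt.t, Lt.bi, Lt.ti, Lt.ti, Lt.b, Lt.ti] (hat (rb_16 hy) 0 rfl) h
theorem dp_a_12_s (hy : Hy g H)
    (j u : ℕ) (hu : u < M) (h : dp_a_12 j u = true) : Gd g H Lt.a u := by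
  unfold dp_a_12 at h
  rcases brec_true h with h | h
  · exact dp_a_10_s hy j u hu h
  · exact dp_a_11_s hy j u hu h
theorem dp_a_13_s (hy : Hy g H)
    (j u : ℕ) (hu : u < M) (h : dp_a_13 j u = true) : Gd g H Lt.a u := by
  unfold dp_a_13 at h
  rcases brec_true h with h | h
  · exact lF_good (T := T) (x := Lt.a) hM0 [Lt.t, Lt.ai, Lt.t, Lt.bi, Lt.t, Lt.t, Lt.b, Lt.ti] (hat (rf_16 hy) 8 rfl) h
  · exact lS_good (T := T) (x := Lt.a) hM0 hu [Lt.ti, Lt.ci, Lt.ti, Lt.a, Lt.t, Lt.c, Lt.t, Lt.c] (hat (rf_11 hy) 0 rfl) h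
theorem dp_a_14_s (hy : Hy g H)
    (j u : ℕ) (hu : u < M) (h : dp_a_14 j u = true) : Gd g H Lt.a u := by
  unfold dp_a_14 at h
  rcases brec_true h with h | h
  · exact lS_good (T := T) (x := Lt.a) hM0 hu [Lt.b, Lt.c, Lt.ai, Lt.bi, Lt.c] (hat (rf_7 hy) 2 rfl) h
  · exact dp_a_13_s hy j u hu h
theorem dp_a_15_s (hy : Hy g H)
    (j u : ℕ) (hu : u < M) (h : dp_a_15 j u = true) : Gd g H Lt.a u := by
  unfold dp_a_15 at h
  rcases brec_true h with h | h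
  · exact lF_good (T := T) (x := Lt.a) hM0 [Lt.ti, Lt.ci, Lt.ti, Lt.a, Lt.t, Lt.c, Lt.t, Lt.c] (hat (rf_11 hy) 0 rfl) h
  · exact lS_good (T := T) (x := Lt.a) hM0 hu [Lt.t, Lt.c, Lt.t, Lt.c, Lt.a, Lt.ti, Lt.ci, Lt.ti] (hat (rf_11 hy) 4 rfl) h
theorem dp_a_16_s (hy : Hy g H)
    (j u : ℕ) (hu : u < M) (h : dp_a_16 j u = true) : Gd g H Lt.a u := by
  unfold dp_a_16 at h
  rcases brec_true h with h | h
  · exact lH_good (T := T) (x := Lt.a) hM0 [] [] (by rw [show cP g H 0 = _ from cc_zero]; exact sub_rel hy.1 (hy.2.2 _ (by decide))) h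
  · exact lS_good (T := T) (x := Lt.a) hM0 hu [Lt.t, Lt.c, Lt.t, Lt.a, Lt.ti, Lt.ci, Lt.ti, Lt.c] (hat (rf_15 hy) 0 rfl) h
theorem dp_a_17_s (hy : Hy g H)
    (j u : ℕ) (hu : u < M) (h : dp_a_17 j u = true) : Gd g H Lt.a u := by
  unfold dp_a_17 at h
  rcases brec_true h with h | h
  · exact lS_good (T := T) (x := Lt.a) hM0 hu [Lt.z, Lt.ai, Lt.zi] (hat (rb_2 hy) 1 rfl) h
  · exact lS_good (T := T) (x := Lt.a) hM0 hu [Lt.zi, Lt.ai, Lt.z] (hat (rf_2 hy) 2 rfl) h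
theorem dp_a_18_s (hy : Hy g H)
    (j u : ℕ) (hu : u < M) (h : dp_a_18 j u = true) : Gd g H Lt.a u := by
  unfold dp_a_18 at h
  rcases brec_true h with h | h
  · exact lS_good (T := T) (x := Lt.a) hM0 hu [Lt.ti, Lt.ci, Lt.ti, Lt.c, Lt.a, Lt.t, Lt.c, Lt.t] (hat (rf_15 hy) 4 rfl) h
  · exact dp_a_17_s hy j u hu h
theorem dp_a_19_s (hy : Hy g H)
    (j u : ℕ) (hu : u < M) (h : dp_a_19 j u = true) : Gd g H Lt.a u := by
  unfold dp_a_19 at h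
  rcases brec_true h with h | h
  · exact dp_a_16_s hy j u hu h
  · exact dp_a_18_s hy j u hu h
theorem dp_a_20_s (hy : Hy g H)
    (j u : ℕ) (hu : u < M) (h : dp_a_20 j u = true) : Gd g H Lt.a u := by
  unfold dp_a_20 at h
  rcases brec_true h with h | h
  · exact dp_a_15_s hy j u hu h
  · exact dp_a_19_s hy j u hu h
theorem dp_a_21_s (hy : Hy g H)
    (j u : ℕ) (hu : u < M) (h : dp_a_21 j u = true) : Gd g H Lt.a u := by
  unfold dp_a_21 at h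
  rcases brec_true h with h | h
  · exact dp_a_14_s hy j u hu h
  · exact dp_a_20_s hy j u hu h
theorem dp_a_22_s (hy : Hy g H)
    (j u : ℕ) (hu : u < M) (h : dp_a_22 j u = true) : Gd g H Lt.a u := by
  unfold dp_a_22 at h
  rcases brec_true h with h | h
  · exact dp_a_12_s hy j u hu h
  · exact dp_a_21_s hy j u hu h
theorem dp_a_23_s (hy : Hy g H)
    (j u : ℕ) (hu : u < M) (h : dp_a_23 j u = true) : Gd g H Lt.a u := by
  unfold dp_a_23 at h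
  rcases brec_true h with h | h
  · exact dp_a_9_s hy j u hu h
  · exact dp_a_22_s hy j u hu h
theorem dp_a_24_s (hy : Hy g H)
    (j u : ℕ) (hu : u < M) (h : dp_a_24 j u = true) : Gd g H Lt.a u := by
  unfold dp_a_24 at h
  rcases brec_true h with h | h
  · exact dp_a_6_s hy j u hu h
  · exact dp_a_23_s hy j u hu h
theorem dp_a_25_s (hy : Hy g H)
    (j u : ℕ) (hu : u < M) (h : dp_a_25 j u = true) : Gd g H Lt.a u := by
  unfold dp_a_25 at h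
  rcases brec_true h with h | h
  · rcases brec_true h with h | h
    · exact dp_a_1_s hy j u hu h
    · exact dp_a_3_s hy j u hu h
  · exact dp_a_24_s hy j u hu h
theorem snd_a (hy : Hy g H)
    (j u : ℕ) (hu : u < M) (h : disp_a j u = true) : Gd g H Lt.a u := by
  unfold disp_a at h
  rcases brec_true h with h | h
  · rcases brec_true h with h | h
    · exact lF1_good (T := T) (x := Lt.a) hM0 .ai (hat (rf_20 hy) 1 rfl) h
    · exact lDef_good (T := T) (x := Lt.a) (by decide) rfl h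
  · rcases brec_true h with h | h
    · rcases brec_true h with h | h
      · exact lPar_good (T := T) (x := Lt.a) (x' := Lt.ai) (by decide) rfl (ivt hy _ _ rfl) h
      · exact dp_a_0_s hy j u hu h
    · exact dp_a_25_s hy j u hu h
theorem snc_a (hy : Hy g H)
    (j u : ℕ) (hu : u < M) (h : chk_a j u = true) : (T Lt.a u < A ∧ Gd g H Lt.a u) ∨ (A ≤ T Lt.a u ∧ MG u < A) := by
  unfold chk_a at h
  cases hb : Nat.ble A (T_a u) with
  | true => rw [hb] at h; exact Or.inr ⟨le_of_ble hb, le_of_ble h⟩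
  | false => rw [hb] at h; exact Or.inl ⟨lt_of_ble_false hb, snd_a hy j u hu h⟩
theorem dp_ai_0_s (hy : Hy g H)
    (j u : ℕ) (hu : u < M) (h : dp_ai_0 j u = true) : Gd g H Lt.ai u := by
  unfold dp_ai_0 at h
  rcases brec_true h with h | h
  · exact lS_good (T := T) (x := Lt.ai) hM0 hu [Lt.a] (hat (rf_20 hy) 0 rfl) h
  · exact lF3_good (T := T) (x := Lt.ai) hM0 .zi .a .z (hat (rb_2 hy) 3 rfl) h
theorem dp_ai_1_s (hy : Hy g H)
    (j u : ℕ) (hu : u < M) (h : dp_ai_1 j u = true) : Gd g H Lt.ai u := by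
  unfold dp_ai_1 at h
  rcases brec_true h with h | h
  · exact lF_good (T := T) (x := Lt.ai) hM0 [Lt.b, Lt.a, Lt.ci, Lt.ci, Lt.bi] (hat (rb_6 hy) 2 rfl) h
  · exact lF_good (T := T) (x := Lt.ai) hM0 [Lt.bi, Lt.a, Lt.b, Lt.c, Lt.c] (hat (rf_6 hy) 3 rfl) h
theorem dp_ai_2_s (hy : Hy g H)
    (j u : ℕ) (hu : u < M) (h : dp_ai_2 j u = true) : Gd g H Lt.ai u := by
  unfold dp_ai_2 at h
  rcases brec_true h with h | h
  · exact lS_good (T := T) (x := Lt.ai) hM0 hu [Lt.b, Lt.a, Lt.ci, Lt.ci, Lt.bi] (hat (rb_6 hy) 2 rfl) h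
  · exact lF_good (T := T) (x := Lt.ai) hM0 [Lt.b, Lt.ci, Lt.a, Lt.bi, Lt.ci] (hat (rb_8 hy) 1 rfl) h
theorem dp_ai_3_s (hy : Hy g H)
    (j u : ℕ) (hu : u < M) (h : dp_ai_3 j u = true) : Gd g H Lt.ai u := by
  unfold dp_ai_3 at h
  rcases brec_true h with h | h
  · exact lF_good (T := T) (x := Lt.ai) hM0 [Lt.c, Lt.bi, Lt.a, Lt.c, Lt.b] (hat (rf_8 hy) 3 rfl) h
  · exact dp_ai_2_s hy j u hu h
theorem dp_ai_4_s (hy : Hy g H)
    (j u : ℕ) (hu : u < M) (h : dp_ai_4 j u = true) : Gd g H Lt.ai u := by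
  unfold dp_ai_4 at h
  rcases brec_true h with h | h
  · exact lF_good (T := T) (x := Lt.ai) hM0 [Lt.ci, Lt.b, Lt.a, Lt.ci, Lt.bi] (hat (rb_7 hy) 5 rfl) h
  · exact lF_good (T := T) (x := Lt.ai) hM0 [Lt.bi, Lt.c, Lt.a, Lt.b, Lt.c] (hat (rf_7 hy) 5 rfl) h
theorem dp_ai_5_s (hy : Hy g H)
    (j u : ℕ) (hu : u < M) (h : dp_ai_5 j u = true) : Gd g H Lt.ai u := by
  unfold dp_ai_5 at h
  rcases brec_true h with h | h
  · exact lF3_good (T := T) (x := Lt.ai) hM0 .z .a .zi (hat (rf_2 hy) 0 rfl) h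
  · exact lS_good (T := T) (x := Lt.ai) hM0 hu [Lt.c, Lt.bi, Lt.a, Lt.c, Lt.b] (hat (rf_8 hy) 3 rfl) h
theorem dp_ai_6_s (hy : Hy g H)
    (j u : ℕ) (hu : u < M) (h : dp_ai_6 j u = true) : Gd g H Lt.ai u := by
  unfold dp_ai_6 at h
  rcases brec_true h with h | h
  · exact dp_ai_4_s hy j u hu h
  · exact dp_ai_5_s hy j u hu h
theorem dp_ai_7_s (hy : Hy g H)
    (j u : ℕ) (hu : u < M) (h : dp_ai_7 j u = true) : Gd g H Lt.ai u := by
  unfold dp_ai_7 at h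
  rcases brec_true h with h | h
  · exact lS_good (T := T) (x := Lt.ai) hM0 hu [Lt.bi, Lt.c, Lt.a, Lt.b, Lt.c] (hat (rf_7 hy) 5 rfl) h
  · exact lS_good (T := T) (x := Lt.ai) hM0 hu [Lt.bi, Lt.a, Lt.b, Lt.c, Lt.c] (hat (rf_6 hy) 3 rfl) h
theorem dp_ai_8_s (hy : Hy g H)
    (j u : ℕ) (hu : u < M) (h : dp_ai_8 j u = true) : Gd g H Lt.ai u := by
  unfold dp_ai_8 at h
  rcases brec_true h with h | h
  · exact lS_good (T := T) (x := Lt.ai) hM0 hu [Lt.b, Lt.ci, Lt.a, Lt.bi, Lt.ci] (hat (rb_8 hy) 1 rfl) h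
  · exact lS_good (T := T) (x := Lt.ai) hM0 hu [Lt.ci, Lt.b, Lt.a, Lt.ci, Lt.bi] (hat (rb_7 hy) 5 rfl) h
theorem dp_ai_9_s (hy : Hy g H)
    (j u : ℕ) (hu : u < M) (h : dp_ai_9 j u = true) : Gd g H Lt.ai u := by
  unfold dp_ai_9 at h
  rcases brec_true h with h | h
  · exact dp_ai_7_s hy j u hu h
  · exact dp_ai_8_s hy j u hu h
theorem dp_ai_10_s (hy : Hy g H)
    (j u : ℕ) (hu : u < M) (h : dp_ai_10 j u = true) : Gd g H Lt.ai u := by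
  unfold dp_ai_10 at h
  rcases brec_true h with h | h
  · exact lS_good (T := T) (x := Lt.ai) hM0 hu [Lt.t, Lt.bi, Lt.ti, Lt.ti, Lt.b, Lt.ti, Lt.a, Lt.ti] (hat (rb_16 hy) 2 rfl) h
  · exact lF_good (T := T) (x := Lt.ai) hM0 [Lt.t, Lt.c, Lt.t, Lt.ai, Lt.ci, Lt.ti, Lt.ci, Lt.ti] (hat (rb_11 hy) 6 rfl) h
theorem dp_ai_11_s (hy : Hy g H)
    (j u : ℕ) (hu : u < M) (h : dp_ai_11 j u = true) : Gd g H Lt.ai u := by
  unfold dp_ai_11 at h
  rcases brec_true h with h | h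
  · exact lS_good (T := T) (x := Lt.ai) hM0 hu [Lt.t, Lt.bi, Lt.t, Lt.t, Lt.b, Lt.ti, Lt.a, Lt.t] (hat (rf_16 hy) 1 rfl) h
  · exact dp_ai_10_s hy j u hu h
theorem dp_ai_12_s (hy : Hy g H)
    (j u : ℕ) (hu : u < M) (h : dp_ai_12 j u = true) : Gd g H Lt.ai u := by
  unfold dp_ai_12 at h
  rcases brec_true h with h | h
  · exact lS_good (T := T) (x := Lt.ai) hM0 hu [Lt.ti, Lt.ci, Lt.ti, Lt.ai, Lt.ci, Lt.t, Lt.c, Lt.t] (hat (rb_15 hy) 6 rfl) h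
  · exact lF_good (T := T) (x := Lt.ai) hM0 [Lt.t, Lt.bi, Lt.t, Lt.t, Lt.b, Lt.ti, Lt.a, Lt.t] (hat (rf_16 hy) 1 rfl) h
theorem dp_ai_13_s (hy : Hy g H)
    (j u : ℕ) (hu : u < M) (h : dp_ai_13 j u = true) : Gd g H Lt.ai u := by
  unfold dp_ai_13 at h
  rcases brec_true h with h | h
  · exact lF_good (T := T) (x := Lt.ai) hM0 [Lt.t, Lt.bi, Lt.ti, Lt.ti, Lt.b, Lt.ti, Lt.a, Lt.ti] (hat (rb_16 hy) 2 rfl) h
  · exact dp_ai_12_s hy j u hu h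
theorem dp_ai_14_s (hy : Hy g H)
    (j u : ℕ) (hu : u < M) (h : dp_ai_14 j u = true) : Gd g H Lt.ai u := by
  unfold dp_ai_14 at h
  rcases brec_true h with h | h
  · exact lS_good (T := T) (x := Lt.ai) hM0 hu [Lt.ci, Lt.t, Lt.c, Lt.t, Lt.ai, Lt.ti, Lt.ci, Lt.ti] (hat (rb_15 hy) 1 rfl) h
  · exact lF_good (T := T) (x := Lt.ai) hM0 [Lt.ci, Lt.t, Lt.c, Lt.t, Lt.ai, Lt.ti, Lt.ci, Lt.ti] (hat (rb_15 hy) 1 rfl) h
theorem dp_ai_15_s (hy : Hy g H)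
    (j u : ℕ) (hu : u < M) (h : dp_ai_15 j u = true) : Gd g H Lt.ai u := by
  unfold dp_ai_15 at h
  rcases brec_true h with h | h
  · exact lS_good (T := T) (x := Lt.ai) hM0 hu [Lt.ci, Lt.ti, Lt.ci, Lt.ti, Lt.ai, Lt.t, Lt.c, Lt.t] (hat (rb_11 hy) 1 rfl) h
  · exact lF_good (T := T) (x := Lt.ai) hM0 [Lt.ci, Lt.ti, Lt.ci, Lt.ti, Lt.ai, Lt.t, Lt.c, Lt.t] (hat (rb_11 hy) 1 rfl) h
theorem dp_ai_16_s (hy : Hy g H)
    (j u : ℕ) (hu : u < M) (h : dp_ai_16 j u = true) : Gd g H Lt.ai u := by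
  unfold dp_ai_16 at h
  rcases brec_true h with h | h
  · exact lS_good (T := T) (x := Lt.ai) hM0 hu [Lt.z, Lt.a, Lt.zi] (hat (rf_2 hy) 0 rfl) h
  · exact dp_ai_15_s hy j u hu h
theorem dp_ai_17_s (hy : Hy g H)
    (j u : ℕ) (hu : u < M) (h : dp_ai_17 j u = true) : Gd g H Lt.ai u := by
  unfold dp_ai_17 at h
  rcases brec_true h with h | h
  · exact lS_good (T := T) (x := Lt.ai) hM0 hu [Lt.t, Lt.c, Lt.t, Lt.ai, Lt.ci, Lt.ti, Lt.ci, Lt.ti] (hat (rb_11 hy) 6 rfl) h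
  · exact dp_ai_16_s hy j u hu h
theorem dp_ai_18_s (hy : Hy g H)
    (j u : ℕ) (hu : u < M) (h : dp_ai_18 j u = true) : Gd g H Lt.ai u := by
  unfold dp_ai_18 at h
  rcases brec_true h with h | h
  · exact dp_ai_14_s hy j u hu h
  · exact dp_ai_17_s hy j u hu h
theorem dp_ai_19_s (hy : Hy g H)
    (j u : ℕ) (hu : u < M) (h : dp_ai_19 j u = true) : Gd g H Lt.ai u := by
  unfold dp_ai_19 at h
  rcases brec_true h with h | h
  · exact dp_ai_13_s hy j u hu h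
  · exact dp_ai_18_s hy j u hu h
theorem dp_ai_20_s (hy : Hy g H)
    (j u : ℕ) (hu : u < M) (h : dp_ai_20 j u = true) : Gd g H Lt.ai u := by
  unfold dp_ai_20 at h
  rcases brec_true h with h | h
  · exact dp_ai_11_s hy j u hu h
  · exact dp_ai_19_s hy j u hu h
theorem dp_ai_21_s (hy : Hy g H)
    (j u : ℕ) (hu : u < M) (h : dp_ai_21 j u = true) : Gd g H Lt.ai u := by
  unfold dp_ai_21 at h
  rcases brec_true h with h | h
  · exact dp_ai_9_s hy j u hu h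
  · exact dp_ai_20_s hy j u hu h
theorem dp_ai_22_s (hy : Hy g H)
    (j u : ℕ) (hu : u < M) (h : dp_ai_22 j u = true) : Gd g H Lt.ai u := by
  unfold dp_ai_22 at h
  rcases brec_true h with h | h
  · exact dp_ai_6_s hy j u hu h
  · exact dp_ai_21_s hy j u hu h
theorem dp_ai_23_s (hy : Hy g H)
    (j u : ℕ) (hu : u < M) (h : dp_ai_23 j u = true) : Gd g H Lt.ai u := by
  unfold dp_ai_23 at h
  rcases brec_true h with h | h
  · rcases brec_true h with h | h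
    · exact dp_ai_1_s hy j u hu h
    · exact dp_ai_3_s hy j u hu h
  · exact dp_ai_22_s hy j u hu h
theorem snd_ai (hy : Hy g H)
    (j u : ℕ) (hu : u < M) (h : disp_ai j u = true) : Gd g H Lt.ai u := by
  unfold disp_ai at h
  rcases brec_true h with h | h
  · rcases brec_true h with h | h
    · exact lF1_good (T := T) (x := Lt.ai) hM0 .a (hat (rf_20 hy) 0 rfl) h
    · exact lPar_good (T := T) (x := Lt.ai) (x' := Lt.a) (by decide) rfl (ivt hy _ _ rfl) h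
  · rcases brec_true h with h | h
    · rcases brec_true h with h | h
      · exact lDef_good (T := T) (x := Lt.ai) (by decide) rfl h
      · exact dp_ai_0_s hy j u hu h
    · exact dp_ai_23_s hy j u hu h
theorem snc_ai (hy : Hy g H)
    (j u : ℕ) (hu : u < M) (h : chk_ai j u = true) : (T Lt.ai u < A ∧ Gd g H Lt.ai u) ∨ (A ≤ T Lt.ai u ∧ MG u < A) := by
  unfold chk_ai at h
  cases hb : Nat.ble A (T_ai u) with
  | true => rw [hb] at h; exact Or.inr ⟨le_of_ble hb, le_of_ble h⟩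
  | false => rw [hb] at h; exact Or.inl ⟨lt_of_ble_false hb, snd_ai hy j u hu h⟩
theorem dp_b_0_s (hy : Hy g H)
    (j u : ℕ) (hu : u < M) (h : dp_b_0 j u = true) : Gd g H Lt.b u := by
  unfold dp_b_0 at h
  rcases brec_true h with h | h
  · exact lF3_good (T := T) (x := Lt.b) hM0 .zi .bi .z (hat (rf_1 hy) 2 rfl) h
  · exact lF_good (T := T) (x := Lt.b) hM0 [Lt.a, Lt.ci, Lt.ci, Lt.bi, Lt.ai] (hat (rb_6 hy) 3 rfl) h
theorem dp_b_1_s (hy : Hy g H)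
    (j u : ℕ) (hu : u < M) (h : dp_b_1 j u = true) : Gd g H Lt.b u := by
  unfold dp_b_1 at h
  rcases brec_true h with h | h
  · exact lF_good (T := T) (x := Lt.b) hM0 [Lt.ai, Lt.c, Lt.bi, Lt.a, Lt.c] (hat (rf_8 hy) 2 rfl) h
  · exact lF_good (T := T) (x := Lt.b) hM0 [Lt.c, Lt.ai, Lt.bi, Lt.c, Lt.a] (hat (rf_7 hy) 3 rfl) h
theorem dp_b_2_s (hy : Hy g H)
    (j u : ℕ) (hu : u < M) (h : dp_b_2 j u = true) : Gd g H Lt.b u := by
  unfold dp_b_2 at h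
  rcases brec_true h with h | h
  · exact lF3_good (T := T) (x := Lt.b) hM0 .z .bi .zi (hat (rb_1 hy) 1 rfl) h
  · exact dp_b_1_s hy j u hu h
theorem dp_b_3_s (hy : Hy g H)
    (j u : ℕ) (hu : u < M) (h : dp_b_3 j u = true) : Gd g H Lt.b u := by
  unfold dp_b_3 at h
  rcases brec_true h with h | h
  · exact lF_good (T := T) (x := Lt.b) hM0 [Lt.a, Lt.ci, Lt.bi, Lt.ai, Lt.ci] (hat (rb_7 hy) 1 rfl) h
  · exact lF_good (T := T) (x := Lt.b) hM0 [Lt.c, Lt.c, Lt.ai, Lt.bi, Lt.a] (hat (rf_6 hy) 0 rfl) h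
theorem dp_b_4_s (hy : Hy g H)
    (j u : ℕ) (hu : u < M) (h : dp_b_4 j u = true) : Gd g H Lt.b u := by
  unfold dp_b_4 at h
  rcases brec_true h with h | h
  · exact lS_good (T := T) (x := Lt.b) hM0 hu [Lt.ai, Lt.c, Lt.bi, Lt.a, Lt.c] (hat (rf_8 hy) 2 rfl) h
  · exact lS_good (T := T) (x := Lt.b) hM0 hu [Lt.b, Lt.b, Lt.b, Lt.b] (hat (rf_5 hy) 0 rfl) h
theorem dp_b_5_s (hy : Hy g H)
    (j u : ℕ) (hu : u < M) (h : dp_b_5 j u = true) : Gd g H Lt.b u := by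
  unfold dp_b_5 at h
  rcases brec_true h with h | h
  · exact lS_good (T := T) (x := Lt.b) hM0 hu [Lt.a, Lt.ci, Lt.ci, Lt.bi, Lt.ai] (hat (rb_6 hy) 3 rfl) h
  · exact dp_b_4_s hy j u hu h
theorem dp_b_6_s (hy : Hy g H)
    (j u : ℕ) (hu : u < M) (h : dp_b_6 j u = true) : Gd g H Lt.b u := by
  unfold dp_b_6 at h
  rcases brec_true h with h | h
  · exact dp_b_3_s hy j u hu h
  · exact dp_b_5_s hy j u hu h
theorem dp_b_7_s (hy : Hy g H)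
    (j u : ℕ) (hu : u < M) (h : dp_b_7 j u = true) : Gd g H Lt.b u := by
  unfold dp_b_7 at h
  rcases brec_true h with h | h
  · exact lS_good (T := T) (x := Lt.b) hM0 hu [Lt.a, Lt.ci, Lt.bi, Lt.ai, Lt.ci] (hat (rb_7 hy) 1 rfl) h
  · exact lF_good (T := T) (x := Lt.b) hM0 [Lt.ci, Lt.a, Lt.bi, Lt.ci, Lt.ai] (hat (rb_8 hy) 2 rfl) h
theorem dp_b_8_s (hy : Hy g H)
    (j u : ℕ) (hu : u < M) (h : dp_b_8 j u = true) : Gd g H Lt.b u := by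
  unfold dp_b_8 at h
  rcases brec_true h with h | h
  · exact lS_good (T := T) (x := Lt.b) hM0 hu [Lt.c, Lt.c, Lt.ai, Lt.bi, Lt.a] (hat (rf_6 hy) 0 rfl) h
  · exact lF_good (T := T) (x := Lt.b) hM0 [Lt.t, Lt.c, Lt.t, Lt.b, Lt.ti, Lt.ci, Lt.ti, Lt.c] (hat (rf_13 hy) 0 rfl) h
theorem dp_b_9_s (hy : Hy g H)
    (j u : ℕ) (hu : u < M) (h : dp_b_9 j u = true) : Gd g H Lt.b u := by
  unfold dp_b_9 at h
  rcases brec_true h with h | h
  · exact lS_good (T := T) (x := Lt.b) hM0 hu [Lt.t, Lt.c, Lt.t, Lt.b, Lt.ti, Lt.ci, Lt.ti, Lt.c] (hat (rf_13 hy) 0 rfl) h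
  · exact lF_good (T := T) (x := Lt.b) hM0 [Lt.ti, Lt.b, Lt.ti, Lt.b, Lt.ti, Lt.zi, Lt.b, Lt.ti] (hat (rf_12 hy) 3 rfl) h
theorem dp_b_10_s (hy : Hy g H)
    (j u : ℕ) (hu : u < M) (h : dp_b_10 j u = true) : Gd g H Lt.b u := by
  unfold dp_b_10 at h
  rcases brec_true h with h | h
  · exact dp_b_8_s hy j u hu h
  · exact dp_b_9_s hy j u hu h
theorem dp_b_11_s (hy : Hy g H)
    (j u : ℕ) (hu : u < M) (h : dp_b_11 j u = true) : Gd g H Lt.b u := by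
  unfold dp_b_11 at h
  rcases brec_true h with h | h
  · exact dp_b_7_s hy j u hu h
  · exact dp_b_10_s hy j u hu h
theorem dp_b_12_s (hy : Hy g H)
    (j u : ℕ) (hu : u < M) (h : dp_b_12 j u = true) : Gd g H Lt.b u := by
  unfold dp_b_12 at h
  rcases brec_true h with h | h
  · exact lS_good (T := T) (x := Lt.b) hM0 hu [Lt.c, Lt.ai, Lt.bi, Lt.c, Lt.a] (hat (rf_7 hy) 3 rfl) h
  · exact lS_good (T := T) (x := Lt.b) hM0 hu [Lt.ci, Lt.a, Lt.bi, Lt.ci, Lt.ai] (hat (rb_8 hy) 2 rfl) h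
theorem dp_b_13_s (hy : Hy g H)
    (j u : ℕ) (hu : u < M) (h : dp_b_13 j u = true) : Gd g H Lt.b u := by
  unfold dp_b_13 at h
  rcases brec_true h with h | h
  · exact lS_good (T := T) (x := Lt.b) hM0 hu [Lt.ti, Lt.b, Lt.ti, Lt.b, Lt.ti, Lt.zi, Lt.b, Lt.ti] (hat (rf_12 hy) 3 rfl) h
  · exact lF_good (T := T) (x := Lt.b) hM0 [Lt.ti, Lt.ci, Lt.ti, Lt.c, Lt.b, Lt.t, Lt.c, Lt.t] (hat (rf_13 hy) 4 rfl) h
theorem dp_b_14_s (hy : Hy g H)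
    (j u : ℕ) (hu : u < M) (h : dp_b_14 j u = true) : Gd g H Lt.b u := by
  unfold dp_b_14 at h
  rcases brec_true h with h | h
  · exact lS_good (T := T) (x := Lt.b) hM0 hu [Lt.ti, Lt.b, Lt.ti, Lt.zi, Lt.b, Lt.ti, Lt.b, Lt.ti] (hat (rf_12 hy) 5 rfl) h
  · exact dp_b_13_s hy j u hu h
theorem dp_b_15_s (hy : Hy g H)
    (j u : ℕ) (hu : u < M) (h : dp_b_15 j u = true) : Gd g H Lt.b u := by
  unfold dp_b_15 at h
  rcases brec_true h with h | h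
  · exact dp_b_12_s hy j u hu h
  · exact dp_b_14_s hy j u hu h
theorem dp_b_16_s (hy : Hy g H)
    (j u : ℕ) (hu : u < M) (h : dp_b_16 j u = true) : Gd g H Lt.b u := by
  unfold dp_b_16 at h
  rcases brec_true h with h | h
  · exact lF_good (T := T) (x := Lt.b) hM0 [Lt.ti, Lt.b, Lt.ti, Lt.zi, Lt.b, Lt.ti, Lt.b, Lt.ti] (hat (rf_12 hy) 5 rfl) h
  · exact lF_good (T := T) (x := Lt.b) hM0 [Lt.ti, Lt.a, Lt.t, Lt.ai, Lt.t, Lt.bi, Lt.t, Lt.t] (hat (rf_16 hy) 6 rfl) h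
theorem dp_b_17_s (hy : Hy g H)
    (j u : ℕ) (hu : u < M) (h : dp_b_17 j u = true) : Gd g H Lt.b u := by
  unfold dp_b_17 at h
  rcases brec_true h with h | h
  · exact lS_good (T := T) (x := Lt.b) hM0 hu [Lt.z, Lt.bi, Lt.zi] (hat (rb_1 hy) 1 rfl) h
  · exact lS_good (T := T) (x := Lt.b) hM0 hu [Lt.t, Lt.c, Lt.t, Lt.c, Lt.b, Lt.ti, Lt.ci, Lt.ti] (hat (rf_10 hy) 4 rfl) h
theorem dp_b_18_s (hy : Hy g H)
    (j u : ℕ) (hu : u < M) (h : dp_b_18 j u = true) : Gd g H Lt.b u := by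
  unfold dp_b_18 at h
  rcases brec_true h with h | h
  · exact lS_good (T := T) (x := Lt.b) hM0 hu [Lt.ti, Lt.ci, Lt.ti, Lt.c, Lt.b, Lt.t, Lt.c, Lt.t] (hat (rf_13 hy) 4 rfl) h
  · exact dp_b_17_s hy j u hu h
theorem dp_b_19_s (hy : Hy g H)
    (j u : ℕ) (hu : u < M) (h : dp_b_19 j u = true) : Gd g H Lt.b u := by
  unfold dp_b_19 at h
  rcases brec_true h with h | h
  · exact dp_b_16_s hy j u hu h
  · exact dp_b_18_s hy j u hu h
theorem dp_b_20_s (hy : Hy g H)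
    (j u : ℕ) (hu : u < M) (h : dp_b_20 j u = true) : Gd g H Lt.b u := by
  unfold dp_b_20 at h
  rcases brec_true h with h | h
  · exact lS_good (T := T) (x := Lt.b) hM0 hu [Lt.ti, Lt.a, Lt.t, Lt.ai, Lt.t, Lt.bi, Lt.t, Lt.t] (hat (rf_16 hy) 6 rfl) h
  · exact lH_good (T := T) (x := Lt.b) hM0 [] [] (by rw [show cP g H 0 = _ from cc_zero]; exact sub_rel hy.1 (hy.2.2 _ (by decide))) h
theorem dp_b_21_s (hy : Hy g H)
    (j u : ℕ) (hu : u < M) (h : dp_b_21 j u = true) : Gd g H Lt.b u := by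
  unfold dp_b_21 at h
  rcases brec_true h with h | h
  · exact lF_good (T := T) (x := Lt.b) hM0 [Lt.t, Lt.c, Lt.t, Lt.c, Lt.b, Lt.ti, Lt.ci, Lt.ti] (hat (rf_10 hy) 4 rfl) h
  · exact dp_b_20_s hy j u hu h
theorem dp_b_22_s (hy : Hy g H)
    (j u : ℕ) (hu : u < M) (h : dp_b_22 j u = true) : Gd g H Lt.b u := by
  unfold dp_b_22 at h
  rcases brec_true h with h | h
  · exact lS_good (T := T) (x := Lt.b) hM0 hu [Lt.ti, Lt.ci, Lt.ti, Lt.b, Lt.t, Lt.c, Lt.t, Lt.c] (hat (rf_10 hy) 0 rfl) h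
  · exact lF_good (T := T) (x := Lt.b) hM0 [Lt.ti, Lt.ci, Lt.ti, Lt.b, Lt.t, Lt.c, Lt.t, Lt.c] (hat (rf_10 hy) 0 rfl) h
theorem dp_b_23_s (hy : Hy g H)
    (j u : ℕ) (hu : u < M) (h : dp_b_23 j u = true) : Gd g H Lt.b u := by
  unfold dp_b_23 at h
  rcases brec_true h with h | h
  · exact lS_good (T := T) (x := Lt.b) hM0 hu [Lt.ti, Lt.a, Lt.ti, Lt.ai, Lt.t, Lt.bi, Lt.ti, Lt.ti] (hat (rb_16 hy) 7 rfl) h
  · exact dp_b_22_s hy j u hu h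
theorem dp_b_24_s (hy : Hy g H)
    (j u : ℕ) (hu : u < M) (h : dp_b_24 j u = true) : Gd g H Lt.b u := by
  unfold dp_b_24 at h
  rcases brec_true h with h | h
  · exact lS_good (T := T) (x := Lt.b) hM0 hu [Lt.ti, Lt.ci, Lt.ti, Lt.b, Lt.c, Lt.t, Lt.c, Lt.t] (hat (rf_14 hy) 4 rfl) h
  · exact lF_good (T := T) (x := Lt.b) hM0 [Lt.ti, Lt.ci, Lt.ti, Lt.b, Lt.c, Lt.t, Lt.c, Lt.t] (hat (rf_14 hy) 4 rfl) h
theorem dp_b_25_s (hy : Hy g H)
    (j u : ℕ) (hu : u < M) (h : dp_b_25 j u = true) : Gd g H Lt.b u := by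
  unfold dp_b_25 at h
  rcases brec_true h with h | h
  · exact lS_good (T := T) (x := Lt.b) hM0 hu [Lt.zi, Lt.bi, Lt.z] (hat (rf_1 hy) 2 rfl) h
  · exact dp_b_24_s hy j u hu h
theorem dp_b_26_s (hy : Hy g H)
    (j u : ℕ) (hu : u < M) (h : dp_b_26 j u = true) : Gd g H Lt.b u := by
  unfold dp_b_26 at h
  rcases brec_true h with h | h
  · exact dp_b_23_s hy j u hu h
  · exact dp_b_25_s hy j u hu h
theorem dp_b_27_s (hy : Hy g H)
    (j u : ℕ) (hu : u < M) (h : dp_b_27 j u = true) : Gd g H Lt.b u := by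
  unfold dp_b_27 at h
  rcases brec_true h with h | h
  · exact dp_b_21_s hy j u hu h
  · exact dp_b_26_s hy j u hu h
theorem dp_b_28_s (hy : Hy g H)
    (j u : ℕ) (hu : u < M) (h : dp_b_28 j u = true) : Gd g H Lt.b u := by
  unfold dp_b_28 at h
  rcases brec_true h with h | h
  · exact dp_b_19_s hy j u hu h
  · exact dp_b_27_s hy j u hu h
theorem dp_b_29_s (hy : Hy g H)
    (j u : ℕ) (hu : u < M) (h : dp_b_29 j u = true) : Gd g H Lt.b u := by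
  unfold dp_b_29 at h
  rcases brec_true h with h | h
  · exact dp_b_15_s hy j u hu h
  · exact dp_b_28_s hy j u hu h
theorem dp_b_30_s (hy : Hy g H)
    (j u : ℕ) (hu : u < M) (h : dp_b_30 j u = true) : Gd g H Lt.b u := by
  unfold dp_b_30 at h
  rcases brec_true h with h | h
  · exact dp_b_11_s hy j u hu h
  · exact dp_b_29_s hy j u hu h
theorem dp_b_31_s (hy : Hy g H)
    (j u : ℕ) (hu : u < M) (h : dp_b_31 j u = true) : Gd g H Lt.b u := by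
  unfold dp_b_31 at h
  rcases brec_true h with h | h
  · exact dp_b_6_s hy j u hu h
  · exact dp_b_30_s hy j u hu h
theorem dp_b_32_s (hy : Hy g H)
    (j u : ℕ) (hu : u < M) (h : dp_b_32 j u = true) : Gd g H Lt.b u := by
  unfold dp_b_32 at h
  rcases brec_true h with h | h
  · rcases brec_true h with h | h
    · exact dp_b_0_s hy j u hu h
    · exact dp_b_2_s hy j u hu h
  · exact dp_b_31_s hy j u hu h
theorem snd_b (hy : Hy g H)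
    (j u : ℕ) (hu : u < M) (h : disp_b j u = true) : Gd g H Lt.b u := by
  unfold disp_b at h
  rcases brec_true h with h | h
  · rcases brec_true h with h | h
    · exact lF1_good (T := T) (x := Lt.b) hM0 .bi (hat (rf_22 hy) 1 rfl) h
    · exact lPar_good (T := T) (x := Lt.b) (x' := Lt.bi) (by decide) rfl (ivt hy _ _ rfl) h
  · rcases brec_true h with h | h
    · rcases brec_true h with h | h
      · exact lDef_good (T := T) (x := Lt.b) (by decide) rfl h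
      · rcases brec_true h with h | h
        · exact lS_good (T := T) (x := Lt.b) hM0 hu [Lt.bi] (hat (rf_22 hy) 1 rfl) h
        · exact lF_good (T := T) (x := Lt.b) hM0 [Lt.b, Lt.b, Lt.b, Lt.b] (hat (rf_5 hy) 0 rfl) h
    · exact dp_b_32_s hy j u hu h
theorem snc_b (hy : Hy g H)
    (j u : ℕ) (hu : u < M) (h : chk_b j u = true) : (T Lt.b u < A ∧ Gd g H Lt.b u) ∨ (A ≤ T Lt.b u ∧ MG u < A) := by
  unfold chk_b at h
  cases hb : Nat.ble A (T_b u) with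
  | true => rw [hb] at h; exact Or.inr ⟨le_of_ble hb, le_of_ble h⟩
  | false => rw [hb] at h; exact Or.inl ⟨lt_of_ble_false hb, snd_b hy j u hu h⟩
theorem dp_bi_0_s (hy : Hy g H)
    (j u : ℕ) (hu : u < M) (h : dp_bi_0 j u = true) : Gd g H Lt.bi u := by
  unfold dp_bi_0 at h
  rcases brec_true h with h | h
  · exact lF_good (T := T) (x := Lt.bi) hM0 [Lt.bi, Lt.bi, Lt.bi, Lt.bi] (hat (rb_5 hy) 0 rfl) h
  · exact lF_good (T := T) (x := Lt.bi) hM0 [Lt.ci, Lt.ai, Lt.b, Lt.ci, Lt.a] (hat (rb_8 hy) 5 rfl) h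
theorem dp_bi_1_s (hy : Hy g H)
    (j u : ℕ) (hu : u < M) (h : dp_bi_1 j u = true) : Gd g H Lt.bi u := by
  unfold dp_bi_1 at h
  rcases brec_true h with h | h
  · exact lF_good (T := T) (x := Lt.bi) hM0 [Lt.ai, Lt.b, Lt.a, Lt.ci, Lt.ci] (hat (rb_6 hy) 1 rfl) h
  · exact lF_good (T := T) (x := Lt.bi) hM0 [Lt.a, Lt.b, Lt.c, Lt.c, Lt.ai] (hat (rf_6 hy) 4 rfl) h
theorem dp_bi_2_s (hy : Hy g H)
    (j u : ℕ) (hu : u < M) (h : dp_bi_2 j u = true) : Gd g H Lt.bi u := by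
  unfold dp_bi_2 at h
  rcases brec_true h with h | h
  · exact lF3_good (T := T) (x := Lt.bi) hM0 .z .b .zi (hat (rf_1 hy) 0 rfl) h
  · exact dp_bi_1_s hy j u hu h
theorem dp_bi_3_s (hy : Hy g H)
    (j u : ℕ) (hu : u < M) (h : dp_bi_3 j u = true) : Gd g H Lt.bi u := by
  unfold dp_bi_3 at h
  rcases brec_true h with h | h
  · exact lS_good (T := T) (x := Lt.bi) hM0 hu [Lt.a, Lt.b, Lt.c, Lt.c, Lt.ai] (hat (rf_6 hy) 4 rfl) h
  · exact lS_good (T := T) (x := Lt.bi) hM0 hu [Lt.bi, Lt.bi, Lt.bi, Lt.bi] (hat (rb_5 hy) 0 rfl) h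
theorem dp_bi_4_s (hy : Hy g H)
    (j u : ℕ) (hu : u < M) (h : dp_bi_4 j u = true) : Gd g H Lt.bi u := by
  unfold dp_bi_4 at h
  rcases brec_true h with h | h
  · exact lF_good (T := T) (x := Lt.bi) hM0 [Lt.c, Lt.a, Lt.b, Lt.c, Lt.ai] (hat (rf_7 hy) 0 rfl) h
  · exact dp_bi_3_s hy j u hu h
theorem dp_bi_5_s (hy : Hy g H)
    (j u : ℕ) (hu : u < M) (h : dp_bi_5 j u = true) : Gd g H Lt.bi u := by
  unfold dp_bi_5 at h
  rcases brec_true h with h | h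
  · exact lS_good (T := T) (x := Lt.bi) hM0 hu [Lt.ci, Lt.ai, Lt.b, Lt.ci, Lt.a] (hat (rb_8 hy) 5 rfl) h
  · exact lS_good (T := T) (x := Lt.bi) hM0 hu [Lt.ai, Lt.b, Lt.a, Lt.ci, Lt.ci] (hat (rb_6 hy) 1 rfl) h
theorem dp_bi_6_s (hy : Hy g H)
    (j u : ℕ) (hu : u < M) (h : dp_bi_6 j u = true) : Gd g H Lt.bi u := by
  unfold dp_bi_6 at h
  rcases brec_true h with h | h
  · exact lF_good (T := T) (x := Lt.bi) hM0 [Lt.a, Lt.c, Lt.b, Lt.ai, Lt.c] (hat (rf_8 hy) 5 rfl) h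
  · exact dp_bi_5_s hy j u hu h
theorem dp_bi_7_s (hy : Hy g H)
    (j u : ℕ) (hu : u < M) (h : dp_bi_7 j u = true) : Gd g H Lt.bi u := by
  unfold dp_bi_7 at h
  rcases brec_true h with h | h
  · exact dp_bi_4_s hy j u hu h
  · exact dp_bi_6_s hy j u hu h
theorem dp_bi_8_s (hy : Hy g H)
    (j u : ℕ) (hu : u < M) (h : dp_bi_8 j u = true) : Gd g H Lt.bi u := by
  unfold dp_bi_8 at h
  rcases brec_true h with h | h
  · exact lF_good (T := T) (x := Lt.bi) hM0 [Lt.ai, Lt.ci, Lt.b, Lt.a, Lt.ci] (hat (rb_7 hy) 4 rfl) h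
  · exact lS_good (T := T) (x := Lt.bi) hM0 hu [Lt.c, Lt.a, Lt.b, Lt.c, Lt.ai] (hat (rf_7 hy) 0 rfl) h
theorem dp_bi_9_s (hy : Hy g H)
    (j u : ℕ) (hu : u < M) (h : dp_bi_9 j u = true) : Gd g H Lt.bi u := by
  unfold dp_bi_9 at h
  rcases brec_true h with h | h
  · exact lS_good (T := T) (x := Lt.bi) hM0 hu [Lt.ai, Lt.ci, Lt.b, Lt.a, Lt.ci] (hat (rb_7 hy) 4 rfl) h
  · exact lS_good (T := T) (x := Lt.bi) hM0 hu [Lt.t, Lt.c, Lt.t, Lt.bi, Lt.ci, Lt.ti, Lt.ci, Lt.ti] (hat (rb_10 hy) 6 rfl) h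
theorem dp_bi_10_s (hy : Hy g H)
    (j u : ℕ) (hu : u < M) (h : dp_bi_10 j u = true) : Gd g H Lt.bi u := by
  unfold dp_bi_10 at h
  rcases brec_true h with h | h
  · exact lS_good (T := T) (x := Lt.bi) hM0 hu [Lt.a, Lt.c, Lt.b, Lt.ai, Lt.c] (hat (rf_8 hy) 5 rfl) h
  · exact dp_bi_9_s hy j u hu h
theorem dp_bi_11_s (hy : Hy g H)
    (j u : ℕ) (hu : u < M) (h : dp_bi_11 j u = true) : Gd g H Lt.bi u := by
  unfold dp_bi_11 at h
  rcases brec_true h with h | h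
  · exact dp_bi_8_s hy j u hu h
  · exact dp_bi_10_s hy j u hu h
theorem dp_bi_12_s (hy : Hy g H)
    (j u : ℕ) (hu : u < M) (h : dp_bi_12 j u = true) : Gd g H Lt.bi u := by
  unfold dp_bi_12 at h
  rcases brec_true h with h | h
  · exact lS_good (T := T) (x := Lt.bi) hM0 hu [Lt.ti, Lt.ti, Lt.b, Lt.ti, Lt.a, Lt.ti, Lt.ai, Lt.t] (hat (rb_16 hy) 4 rfl) h
  · exact lS_good (T := T) (x := Lt.bi) hM0 hu [Lt.t, Lt.bi, Lt.t, Lt.bi, Lt.z, Lt.t, Lt.bi, Lt.t] (hat (rb_12 hy) 5 rfl) h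
theorem dp_bi_13_s (hy : Hy g H)
    (j u : ℕ) (hu : u < M) (h : dp_bi_13 j u = true) : Gd g H Lt.bi u := by
  unfold dp_bi_13 at h
  rcases brec_true h with h | h
  · exact lF_good (T := T) (x := Lt.bi) hM0 [Lt.t, Lt.t, Lt.b, Lt.ti, Lt.a, Lt.t, Lt.ai, Lt.t] (hat (rf_16 hy) 3 rfl) h
  · exact lF_good (T := T) (x := Lt.bi) hM0 [Lt.ti, Lt.ti, Lt.b, Lt.ti, Lt.a, Lt.ti, Lt.ai, Lt.t] (hat (rb_16 hy) 4 rfl) h
theorem dp_bi_14_s (hy : Hy g H)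
    (j u : ℕ) (hu : u < M) (h : dp_bi_14 j u = true) : Gd g H Lt.bi u := by
  unfold dp_bi_14 at h
  rcases brec_true h with h | h
  · exact lS_good (T := T) (x := Lt.bi) hM0 hu [Lt.ti, Lt.ci, Lt.ti, Lt.ci, Lt.bi, Lt.t, Lt.c, Lt.t] (hat (rb_14 hy) 6 rfl) h
  · exact dp_bi_13_s hy j u hu h
theorem dp_bi_15_s (hy : Hy g H)
    (j u : ℕ) (hu : u < M) (h : dp_bi_15 j u = true) : Gd g H Lt.bi u := by
  unfold dp_bi_15 at h
  rcases brec_true h with h | h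
  · exact dp_bi_12_s hy j u hu h
  · exact dp_bi_14_s hy j u hu h
theorem dp_bi_16_s (hy : Hy g H)
    (j u : ℕ) (hu : u < M) (h : dp_bi_16 j u = true) : Gd g H Lt.bi u := by
  unfold dp_bi_16 at h
  rcases brec_true h with h | h
  · exact lS_good (T := T) (x := Lt.bi) hM0 hu [Lt.t, Lt.t, Lt.b, Lt.ti, Lt.a, Lt.t, Lt.ai, Lt.t] (hat (rf_16 hy) 3 rfl) h
  · exact lF_good (T := T) (x := Lt.bi) hM0 [Lt.ti, Lt.ci, Lt.ti, Lt.bi, Lt.ci, Lt.t, Lt.c, Lt.t] (hat (rb_13 hy) 6 rfl) h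
theorem dp_bi_17_s (hy : Hy g H)
    (j u : ℕ) (hu : u < M) (h : dp_bi_17 j u = true) : Gd g H Lt.bi u := by
  unfold dp_bi_17 at h
  rcases brec_true h with h | h
  · exact lS_good (T := T) (x := Lt.bi) hM0 hu [Lt.ti, Lt.ci, Lt.ti, Lt.bi, Lt.ci, Lt.t, Lt.c, Lt.t] (hat (rb_13 hy) 6 rfl) h
  · exact lS_good (T := T) (x := Lt.bi) hM0 hu [Lt.ci, Lt.ti, Lt.ci, Lt.ti, Lt.bi, Lt.t, Lt.c, Lt.t] (hat (rb_10 hy) 1 rfl) h
theorem dp_bi_18_s (hy : Hy g H)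
    (j u : ℕ) (hu : u < M) (h : dp_bi_18 j u = true) : Gd g H Lt.bi u := by
  unfold dp_bi_18 at h
  rcases brec_true h with h | h
  · exact dp_bi_16_s hy j u hu h
  · exact dp_bi_17_s hy j u hu h
theorem dp_bi_19_s (hy : Hy g H)
    (j u : ℕ) (hu : u < M) (h : dp_bi_19 j u = true) : Gd g H Lt.bi u := by
  unfold dp_bi_19 at h
  rcases brec_true h with h | h
  · exact lF_good (T := T) (x := Lt.bi) hM0 [Lt.ci, Lt.ti, Lt.ci, Lt.ti, Lt.bi, Lt.t, Lt.c, Lt.t] (hat (rb_10 hy) 1 rfl) h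
  · exact lF_good (T := T) (x := Lt.bi) hM0 [Lt.t, Lt.bi, Lt.t, Lt.bi, Lt.z, Lt.t, Lt.bi, Lt.t] (hat (rb_12 hy) 5 rfl) h
theorem dp_bi_20_s (hy : Hy g H)
    (j u : ℕ) (hu : u < M) (h : dp_bi_20 j u = true) : Gd g H Lt.bi u := by
  unfold dp_bi_20 at h
  rcases brec_true h with h | h
  · exact lS_good (T := T) (x := Lt.bi) hM0 hu [Lt.t, Lt.bi, Lt.t, Lt.bi, Lt.t, Lt.bi, Lt.z, Lt.t] (hat (rb_12 hy) 3 rfl) h
  · exact dp_bi_19_s hy j u hu h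
theorem dp_bi_21_s (hy : Hy g H)
    (j u : ℕ) (hu : u < M) (h : dp_bi_21 j u = true) : Gd g H Lt.bi u := by
  unfold dp_bi_21 at h
  rcases brec_true h with h | h
  · exact lS_good (T := T) (x := Lt.bi) hM0 hu [Lt.ci, Lt.t, Lt.c, Lt.t, Lt.bi, Lt.ti, Lt.ci, Lt.ti] (hat (rb_13 hy) 1 rfl) h
  · exact dp_bi_20_s hy j u hu h
theorem dp_bi_22_s (hy : Hy g H)
    (j u : ℕ) (hu : u < M) (h : dp_bi_22 j u = true) : Gd g H Lt.bi u := by
  unfold dp_bi_22 at h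
  rcases brec_true h with h | h
  · exact lS_good (T := T) (x := Lt.bi) hM0 hu [Lt.z, Lt.b, Lt.zi] (hat (rf_1 hy) 0 rfl) h
  · exact lF_good (T := T) (x := Lt.bi) hM0 [Lt.t, Lt.c, Lt.t, Lt.bi, Lt.ci, Lt.ti, Lt.ci, Lt.ti] (hat (rb_10 hy) 6 rfl) h
theorem dp_bi_23_s (hy : Hy g H)
    (j u : ℕ) (hu : u < M) (h : dp_bi_23 j u = true) : Gd g H Lt.bi u := by
  unfold dp_bi_23 at h
  rcases brec_true h with h | h
  · exact lS_good (T := T) (x := Lt.bi) hM0 hu [Lt.zi, Lt.b, Lt.z] (hat (rb_1 hy) 3 rfl) h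
  · exact dp_bi_22_s hy j u hu h
theorem dp_bi_24_s (hy : Hy g H)
    (j u : ℕ) (hu : u < M) (h : dp_bi_24 j u = true) : Gd g H Lt.bi u := by
  unfold dp_bi_24 at h
  rcases brec_true h with h | h
  · exact lS_good (T := T) (x := Lt.bi) hM0 hu [Lt.t, Lt.bi, Lt.z, Lt.t, Lt.bi, Lt.t, Lt.bi, Lt.t] (hat (rb_12 hy) 7 rfl) h
  · exact lF_good (T := T) (x := Lt.bi) hM0 [Lt.z, Lt.t, Lt.bi, Lt.t, Lt.bi, Lt.t, Lt.bi, Lt.t] (hat (rb_12 hy) 0 rfl) h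
theorem dp_bi_25_s (hy : Hy g H)
    (j u : ℕ) (hu : u < M) (h : dp_bi_25 j u = true) : Gd g H Lt.bi u := by
  unfold dp_bi_25 at h
  rcases brec_true h with h | h
  · exact lF_good (T := T) (x := Lt.bi) hM0 [Lt.t, Lt.bi, Lt.t, Lt.bi, Lt.t, Lt.bi, Lt.z, Lt.t] (hat (rb_12 hy) 3 rfl) h
  · exact dp_bi_24_s hy j u hu h
theorem dp_bi_26_s (hy : Hy g H)
    (j u : ℕ) (hu : u < M) (h : dp_bi_26 j u = true) : Gd g H Lt.bi u := by
  unfold dp_bi_26 at h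
  rcases brec_true h with h | h
  · exact dp_bi_23_s hy j u hu h
  · exact dp_bi_25_s hy j u hu h
theorem dp_bi_27_s (hy : Hy g H)
    (j u : ℕ) (hu : u < M) (h : dp_bi_27 j u = true) : Gd g H Lt.bi u := by
  unfold dp_bi_27 at h
  rcases brec_true h with h | h
  · exact dp_bi_21_s hy j u hu h
  · exact dp_bi_26_s hy j u hu h
theorem dp_bi_28_s (hy : Hy g H)
    (j u : ℕ) (hu : u < M) (h : dp_bi_28 j u = true) : Gd g H Lt.bi u := by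
  unfold dp_bi_28 at h
  rcases brec_true h with h | h
  · exact dp_bi_18_s hy j u hu h
  · exact dp_bi_27_s hy j u hu h
theorem dp_bi_29_s (hy : Hy g H)
    (j u : ℕ) (hu : u < M) (h : dp_bi_29 j u = true) : Gd g H Lt.bi u := by
  unfold dp_bi_29 at h
  rcases brec_true h with h | h
  · exact dp_bi_15_s hy j u hu h
  · exact dp_bi_28_s hy j u hu h
theorem dp_bi_30_s (hy : Hy g H)
    (j u : ℕ) (hu : u < M) (h : dp_bi_30 j u = true) : Gd g H Lt.bi u := by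
  unfold dp_bi_30 at h
  rcases brec_true h with h | h
  · exact dp_bi_11_s hy j u hu h
  · exact dp_bi_29_s hy j u hu h
theorem dp_bi_31_s (hy : Hy g H)
    (j u : ℕ) (hu : u < M) (h : dp_bi_31 j u = true) : Gd g H Lt.bi u := by
  unfold dp_bi_31 at h
  rcases brec_true h with h | h
  · exact dp_bi_7_s hy j u hu h
  · exact dp_bi_30_s hy j u hu h
theorem dp_bi_32_s (hy : Hy g H)
    (j u : ℕ) (hu : u < M) (h : dp_bi_32 j u = true) : Gd g H Lt.bi u := by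
  unfold dp_bi_32 at h
  rcases brec_true h with h | h
  · rcases brec_true h with h | h
    · exact dp_bi_0_s hy j u hu h
    · exact dp_bi_2_s hy j u hu h
  · exact dp_bi_31_s hy j u hu h
theorem snd_bi (hy : Hy g H)
    (j u : ℕ) (hu : u < M) (h : disp_bi j u = true) : Gd g H Lt.bi u := by
  unfold disp_bi at h
  rcases brec_true h with h | h
  · rcases brec_true h with h | h
    · exact lF1_good (T := T) (x := Lt.bi) hM0 .b (hat (rf_22 hy) 0 rfl) h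
    · exact lDef_good (T := T) (x := Lt.bi) (by decide) rfl h
  · rcases brec_true h with h | h
    · rcases brec_true h with h | h
      · exact lPar_good (T := T) (x := Lt.bi) (x' := Lt.b) (by decide) rfl (ivt hy _ _ rfl) h
      · rcases brec_true h with h | h
        · exact lS_good (T := T) (x := Lt.bi) hM0 hu [Lt.b] (hat (rf_22 hy) 0 rfl) h
        · exact lF3_good (T := T) (x := Lt.bi) hM0 .zi .b .z (hat (rb_1 hy) 3 rfl) h
    · exact dp_bi_32_s hy j u hu h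
theorem snc_bi (hy : Hy g H)
    (j u : ℕ) (hu : u < M) (h : chk_bi j u = true) : (T Lt.bi u < A ∧ Gd g H Lt.bi u) ∨ (A ≤ T Lt.bi u ∧ MG u < A) := by
  unfold chk_bi at h
  cases hb : Nat.ble A (T_bi u) with
  | true => rw [hb] at h; exact Or.inr ⟨le_of_ble hb, le_of_ble h⟩
  | false => rw [hb] at h; exact Or.inl ⟨lt_of_ble_false hb, snd_bi hy j u hu h⟩
theorem dp_t_0_s (hy : Hy g H)
    (j u : ℕ) (hu : u < M) (h : dp_t_0 j u = true) : Gd g H Lt.t u := by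
  unfold dp_t_0 at h
  rcases brec_true h with h | h
  · exact lF3_good (T := T) (x := Lt.t) hM0 .z .ti .zi (hat (rb_0 hy) 1 rfl) h
  · exact lS_good (T := T) (x := Lt.t) hM0 hu [Lt.c, Lt.ti, Lt.c, Lt.c, Lt.ti, Lt.ti, Lt.ci, Lt.ci] (hat (rb_9 hy) 5 rfl) h
theorem dp_t_1_s (hy : Hy g H)
    (j u : ℕ) (hu : u < M) (h : dp_t_1 j u = true) : Gd g H Lt.t u := by
  unfold dp_t_1 at h
  rcases brec_true h with h | h
  · exact lF3_good (T := T) (x := Lt.t) hM0 .zi .ti .z (hat (rf_0 hy) 2 rfl) h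
  · exact dp_t_0_s hy j u hu h
theorem dp_t_2_s (hy : Hy g H)
    (j u : ℕ) (hu : u < M) (h : dp_t_2 j u = true) : Gd g H Lt.t u := by
  unfold dp_t_2 at h
  rcases brec_true h with h | h
  · exact lS_good (T := T) (x := Lt.t) hM0 hu [Lt.c, Lt.c, Lt.ti, Lt.ti, Lt.c, Lt.ti, Lt.ci, Lt.t] (hat (rf_17 hy) 7 rfl) h
  · exact lS_good (T := T) (x := Lt.t) hM0 hu [Lt.ci, Lt.ti, Lt.c, Lt.c, Lt.t, Lt.t, Lt.ci, Lt.ci] (hat (rf_9 hy) 3 rfl) h
theorem dp_t_3_s (hy : Hy g H)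
    (j u : ℕ) (hu : u < M) (h : dp_t_3 j u = true) : Gd g H Lt.t u := by
  unfold dp_t_3 at h
  rcases brec_true h with h | h
  · exact lS_good (T := T) (x := Lt.t) hM0 hu [Lt.ai, Lt.t, Lt.bi, Lt.t, Lt.t, Lt.b, Lt.ti, Lt.a] (hat (rf_16 hy) 0 rfl) h
  · exact lS_good (T := T) (x := Lt.t) hM0 hu [Lt.ci, Lt.ci, Lt.ti, Lt.ti, Lt.c, Lt.t, Lt.ci, Lt.t] (hat (rb_17 hy) 0 rfl) h
theorem dp_t_4_s (hy : Hy g H)
    (j u : ℕ) (hu : u < M) (h : dp_t_4 j u = true) : Gd g H Lt.t u := by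
  unfold dp_t_4 at h
  rcases brec_true h with h | h
  · exact lF_good (T := T) (x := Lt.t) hM0 [Lt.ai, Lt.t, Lt.bi, Lt.t, Lt.t, Lt.b, Lt.ti, Lt.a] (hat (rf_16 hy) 0 rfl) h
  · exact dp_t_3_s hy j u hu h
theorem dp_t_5_s (hy : Hy g H)
    (j u : ℕ) (hu : u < M) (h : dp_t_5 j u = true) : Gd g H Lt.t u := by
  unfold dp_t_5 at h
  rcases brec_true h with h | h
  · exact dp_t_2_s hy j u hu h
  · exact dp_t_4_s hy j u hu h
theorem dp_t_6_s (hy : Hy g H)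
    (j u : ℕ) (hu : u < M) (h : dp_t_6 j u = true) : Gd g H Lt.t u := by
  unfold dp_t_6 at h
  rcases brec_true h with h | h
  · exact lF_good (T := T) (x := Lt.t) hM0 [Lt.ci, Lt.ci, Lt.t, Lt.ci, Lt.ti, Lt.c, Lt.c, Lt.t] (hat (rf_9 hy) 0 rfl) h
  · exact lS_good (T := T) (x := Lt.t) hM0 hu [Lt.c, Lt.t, Lt.c, Lt.a, Lt.ti, Lt.ci, Lt.ti, Lt.a] (hat (rf_11 hy) 5 rfl) h
theorem dp_t_7_s (hy : Hy g H)
    (j u : ℕ) (hu : u < M) (h : dp_t_7 j u = true) : Gd g H Lt.t u := by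
  unfold dp_t_7 at h
  rcases brec_true h with h | h
  · exact lS_good (T := T) (x := Lt.t) hM0 hu [Lt.bi, Lt.ti, Lt.ti, Lt.b, Lt.ti, Lt.a, Lt.ti, Lt.ai] (hat (rb_16 hy) 3 rfl) h
  · exact dp_t_6_s hy j u hu h
theorem dp_t_8_s (hy : Hy g H)
    (j u : ℕ) (hu : u < M) (h : dp_t_8 j u = true) : Gd g H Lt.t u := by
  unfold dp_t_8 at h
  rcases brec_true h with h | h
  · exact lS_good (T := T) (x := Lt.t) hM0 hu [Lt.t, Lt.ci, Lt.ci, Lt.t, Lt.ci, Lt.ti, Lt.c, Lt.c] (hat (rf_9 hy) 8 rfl) h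
  · exact lS_good (T := T) (x := Lt.t) hM0 hu [Lt.ci, Lt.ci, Lt.t, Lt.ci, Lt.ti, Lt.c, Lt.c, Lt.t] (hat (rf_9 hy) 0 rfl) h
theorem dp_t_9_s (hy : Hy g H)
    (j u : ℕ) (hu : u < M) (h : dp_t_9 j u = true) : Gd g H Lt.t u := by
  unfold dp_t_9 at h
  rcases brec_true h with h | h
  · exact lF_good (T := T) (x := Lt.t) hM0 [Lt.c, Lt.t, Lt.bi, Lt.ci, Lt.ti, Lt.ci, Lt.ti, Lt.bi] (hat (rb_10 hy) 7 rfl) h
  · exact dp_t_8_s hy j u hu h
theorem dp_t_10_s (hy : Hy g H)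
    (j u : ℕ) (hu : u < M) (h : dp_t_10 j u = true) : Gd g H Lt.t u := by
  unfold dp_t_10 at h
  rcases brec_true h with h | h
  · exact dp_t_7_s hy j u hu h
  · exact dp_t_9_s hy j u hu h
theorem dp_t_11_s (hy : Hy g H)
    (j u : ℕ) (hu : u < M) (h : dp_t_11 j u = true) : Gd g H Lt.t u := by
  unfold dp_t_11 at h
  rcases brec_true h with h | h
  · exact dp_t_5_s hy j u hu h
  · exact dp_t_10_s hy j u hu h
theorem dp_t_12_s (hy : Hy g H)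
    (j u : ℕ) (hu : u < M) (h : dp_t_12 j u = true) : Gd g H Lt.t u := by
  unfold dp_t_12 at h
  rcases brec_true h with h | h
  · exact dp_t_1_s hy j u hu h
  · exact dp_t_11_s hy j u hu h
theorem dp_t_13_s (hy : Hy g H)
    (j u : ℕ) (hu : u < M) (h : dp_t_13 j u = true) : Gd g H Lt.t u := by
  unfold dp_t_13 at h
  rcases brec_true h with h | h
  · exact lS_good (T := T) (x := Lt.t) hM0 hu [Lt.c, Lt.t, Lt.c, Lt.b, Lt.ti, Lt.ci, Lt.ti, Lt.b] (hat (rf_10 hy) 5 rfl) h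
  · exact lS_good (T := T) (x := Lt.t) hM0 hu [Lt.c, Lt.t, Lt.ai, Lt.ci, Lt.ti, Lt.ci, Lt.ti, Lt.ai] (hat (rb_11 hy) 7 rfl) h
theorem dp_t_14_s (hy : Hy g H)
    (j u : ℕ) (hu : u < M) (h : dp_t_14 j u = true) : Gd g H Lt.t u := by
  unfold dp_t_14 at h
  rcases brec_true h with h | h
  · exact lS_good (T := T) (x := Lt.t) hM0 hu [Lt.a, Lt.ti, Lt.ci, Lt.ti, Lt.c, Lt.a, Lt.t, Lt.c] (hat (rf_15 hy) 3 rfl) h
  · exact lF_good (T := T) (x := Lt.t) hM0 [Lt.bi, Lt.t, Lt.t, Lt.b, Lt.ti, Lt.a, Lt.t, Lt.ai] (hat (rf_16 hy) 2 rfl) h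
theorem dp_t_15_s (hy : Hy g H)
    (j u : ℕ) (hu : u < M) (h : dp_t_15 j u = true) : Gd g H Lt.t u := by
  unfold dp_t_15 at h
  rcases brec_true h with h | h
  · exact dp_t_13_s hy j u hu h
  · exact dp_t_14_s hy j u hu h
theorem dp_t_16_s (hy : Hy g H)
    (j u : ℕ) (hu : u < M) (h : dp_t_16 j u = true) : Gd g H Lt.t u := by
  unfold dp_t_16 at h
  rcases brec_true h with h | h
  · exact lF_good (T := T) (x := Lt.t) hM0 [Lt.b, Lt.ti, Lt.a, Lt.t, Lt.ai, Lt.t, Lt.bi, Lt.t] (hat (rf_16 hy) 5 rfl) h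
  · exact lS_good (T := T) (x := Lt.t) hM0 hu [Lt.bi, Lt.t, Lt.bi, Lt.z, Lt.t, Lt.bi, Lt.t, Lt.bi] (hat (rb_12 hy) 6 rfl) h
theorem dp_t_17_s (hy : Hy g H)
    (j u : ℕ) (hu : u < M) (h : dp_t_17 j u = true) : Gd g H Lt.t u := by
  unfold dp_t_17 at h
  rcases brec_true h with h | h
  · exact lS_good (T := T) (x := Lt.t) hM0 hu [Lt.bi, Lt.t, Lt.t, Lt.b, Lt.ti, Lt.a, Lt.t, Lt.ai] (hat (rf_16 hy) 2 rfl) h
  · exact lS_good (T := T) (x := Lt.t) hM0 hu [Lt.bi, Lt.ci, Lt.ti, Lt.ci, Lt.ti, Lt.bi, Lt.t, Lt.c] (hat (rb_10 hy) 0 rfl) h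
theorem dp_t_18_s (hy : Hy g H)
    (j u : ℕ) (hu : u < M) (h : dp_t_18 j u = true) : Gd g H Lt.t u := by
  unfold dp_t_18 at h
  rcases brec_true h with h | h
  · exact dp_t_16_s hy j u hu h
  · exact dp_t_17_s hy j u hu h
theorem dp_t_19_s (hy : Hy g H)
    (j u : ℕ) (hu : u < M) (h : dp_t_19 j u = true) : Gd g H Lt.t u := by
  unfold dp_t_19 at h
  rcases brec_true h with h | h
  · exact dp_t_15_s hy j u hu h
  · exact dp_t_18_s hy j u hu h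
theorem dp_t_20_s (hy : Hy g H)
    (j u : ℕ) (hu : u < M) (h : dp_t_20 j u = true) : Gd g H Lt.t u := by
  unfold dp_t_20 at h
  rcases brec_true h with h | h
  · exact lF_good (T := T) (x := Lt.t) hM0 [Lt.ai, Lt.ti, Lt.ci, Lt.ti, Lt.ai, Lt.ci, Lt.t, Lt.c] (hat (rb_15 hy) 5 rfl) h
  · exact lF_good (T := T) (x := Lt.t) hM0 [Lt.bi, Lt.t, Lt.bi, Lt.t, Lt.bi, Lt.t, Lt.bi, Lt.z] (hat (rb_12 hy) 2 rfl) h
theorem dp_t_21_s (hy : Hy g H)
    (j u : ℕ) (hu : u < M) (h : dp_t_21 j u = true) : Gd g H Lt.t u := by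
  unfold dp_t_21 at h
  rcases brec_true h with h | h
  · exact lS_good (T := T) (x := Lt.t) hM0 hu [Lt.t, Lt.c, Lt.c, Lt.ti, Lt.ti, Lt.c, Lt.ti, Lt.ci] (hat (rf_17 hy) 6 rfl) h
  · exact lF_good (T := T) (x := Lt.t) hM0 [Lt.c, Lt.c, Lt.ti, Lt.ti, Lt.c, Lt.ti, Lt.ci, Lt.t] (hat (rf_17 hy) 7 rfl) h
theorem dp_t_22_s (hy : Hy g H)
    (j u : ℕ) (hu : u < M) (h : dp_t_22 j u = true) : Gd g H Lt.t u := by
  unfold dp_t_22 at h
  rcases brec_true h with h | h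
  · exact lS_good (T := T) (x := Lt.t) hM0 hu [Lt.ci, Lt.t, Lt.t, Lt.ci, Lt.ci, Lt.ti, Lt.ti, Lt.c] (hat (rb_17 hy) 6 rfl) h
  · exact dp_t_21_s hy j u hu h
theorem dp_t_23_s (hy : Hy g H)
    (j u : ℕ) (hu : u < M) (h : dp_t_23 j u = true) : Gd g H Lt.t u := by
  unfold dp_t_23 at h
  rcases brec_true h with h | h
  · exact dp_t_20_s hy j u hu h
  · exact dp_t_22_s hy j u hu h
theorem dp_t_24_s (hy : Hy g H)
    (j u : ℕ) (hu : u < M) (h : dp_t_24 j u = true) : Gd g H Lt.t u := by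
  unfold dp_t_24 at h
  rcases brec_true h with h | h
  · exact lS_good (T := T) (x := Lt.t) hM0 hu [Lt.b, Lt.ti, Lt.a, Lt.t, Lt.ai, Lt.t, Lt.bi, Lt.t] (hat (rf_16 hy) 5 rfl) h
  · exact lS_good (T := T) (x := Lt.t) hM0 hu [Lt.c, Lt.t, Lt.bi, Lt.ci, Lt.ti, Lt.ci, Lt.ti, Lt.bi] (hat (rb_10 hy) 7 rfl) h
theorem dp_t_25_s (hy : Hy g H)
    (j u : ℕ) (hu : u < M) (h : dp_t_25 j u = true) : Gd g H Lt.t u := by
  unfold dp_t_25 at h
  rcases brec_true h with h | h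
  · exact lF_good (T := T) (x := Lt.t) hM0 [Lt.t, Lt.b, Lt.ti, Lt.a, Lt.t, Lt.ai, Lt.t, Lt.bi] (hat (rf_16 hy) 4 rfl) h
  · exact dp_t_24_s hy j u hu h
theorem dp_t_26_s (hy : Hy g H)
    (j u : ℕ) (hu : u < M) (h : dp_t_26 j u = true) : Gd g H Lt.t u := by
  unfold dp_t_26 at h
  rcases brec_true h with h | h
  · exact lF_good (T := T) (x := Lt.t) hM0 [Lt.c, Lt.t, Lt.a, Lt.ti, Lt.ci, Lt.ti, Lt.c, Lt.a] (hat (rf_15 hy) 1 rfl) h
  · exact lS_good (T := T) (x := Lt.t) hM0 hu [Lt.t, Lt.ci, Lt.ci, Lt.ti, Lt.ti, Lt.c, Lt.t, Lt.ci] (hat (rb_17 hy) 8 rfl) h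
theorem dp_t_27_s (hy : Hy g H)
    (j u : ℕ) (hu : u < M) (h : dp_t_27 j u = true) : Gd g H Lt.t u := by
  unfold dp_t_27 at h
  rcases brec_true h with h | h
  · exact lF_good (T := T) (x := Lt.t) hM0 [Lt.ci, Lt.ci, Lt.ti, Lt.ti, Lt.c, Lt.t, Lt.ci, Lt.t] (hat (rb_17 hy) 0 rfl) h
  · exact dp_t_26_s hy j u hu h
theorem dp_t_28_s (hy : Hy g H)
    (j u : ℕ) (hu : u < M) (h : dp_t_28 j u = true) : Gd g H Lt.t u := by
  unfold dp_t_28 at h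
  rcases brec_true h with h | h
  · exact dp_t_25_s hy j u hu h
  · exact dp_t_27_s hy j u hu h
theorem dp_t_29_s (hy : Hy g H)
    (j u : ℕ) (hu : u < M) (h : dp_t_29 j u = true) : Gd g H Lt.t u := by
  unfold dp_t_29 at h
  rcases brec_true h with h | h
  · exact dp_t_23_s hy j u hu h
  · exact dp_t_28_s hy j u hu h
theorem dp_t_30_s (hy : Hy g H)
    (j u : ℕ) (hu : u < M) (h : dp_t_30 j u = true) : Gd g H Lt.t u := by
  unfold dp_t_30 at h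
  rcases brec_true h with h | h
  · exact dp_t_19_s hy j u hu h
  · exact dp_t_29_s hy j u hu h
theorem dp_t_31_s (hy : Hy g H)
    (j u : ℕ) (hu : u < M) (h : dp_t_31 j u = true) : Gd g H Lt.t u := by
  unfold dp_t_31 at h
  rcases brec_true h with h | h
  · exact lF_good (T := T) (x := Lt.t) hM0 [Lt.ci, Lt.ti, Lt.c, Lt.c, Lt.t, Lt.t, Lt.ci, Lt.ci] (hat (rf_9 hy) 3 rfl) h
  · exact lF_good (T := T) (x := Lt.t) hM0 [Lt.c, Lt.b, Lt.ti, Lt.ci, Lt.ti, Lt.b, Lt.t, Lt.c] (hat (rf_10 hy) 7 rfl) h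
theorem dp_t_32_s (hy : Hy g H)
    (j u : ℕ) (hu : u < M) (h : dp_t_32 j u = true) : Gd g H Lt.t u := by
  unfold dp_t_32 at h
  rcases brec_true h with h | h
  · exact lS_good (T := T) (x := Lt.t) hM0 hu [Lt.ai, Lt.ci, Lt.ti, Lt.ci, Lt.ti, Lt.ai, Lt.t, Lt.c] (hat (rb_11 hy) 0 rfl) h
  · exact dp_t_31_s hy j u hu h
theorem dp_t_33_s (hy : Hy g H)
    (j u : ℕ) (hu : u < M) (h : dp_t_33 j u = true) : Gd g H Lt.t u := by
  unfold dp_t_33 at h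
  rcases brec_true h with h | h
  · exact lF_good (T := T) (x := Lt.t) hM0 [Lt.bi, Lt.ci, Lt.ti, Lt.ci, Lt.ti, Lt.bi, Lt.t, Lt.c] (hat (rb_10 hy) 0 rfl) h
  · exact lS_good (T := T) (x := Lt.t) hM0 hu [Lt.b, Lt.ti, Lt.ci, Lt.ti, Lt.b, Lt.c, Lt.t, Lt.c] (hat (rf_14 hy) 3 rfl) h
theorem dp_t_34_s (hy : Hy g H)
    (j u : ℕ) (hu : u < M) (h : dp_t_34 j u = true) : Gd g H Lt.t u := by
  unfold dp_t_34 at h
  rcases brec_true h with h | h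
  · exact lF_good (T := T) (x := Lt.t) hM0 [Lt.bi, Lt.ti, Lt.ti, Lt.b, Lt.ti, Lt.a, Lt.ti, Lt.ai] (hat (rb_16 hy) 3 rfl) h
  · exact dp_t_33_s hy j u hu h
theorem dp_t_35_s (hy : Hy g H)
    (j u : ℕ) (hu : u < M) (h : dp_t_35 j u = true) : Gd g H Lt.t u := by
  unfold dp_t_35 at h
  rcases brec_true h with h | h
  · exact dp_t_32_s hy j u hu h
  · exact dp_t_34_s hy j u hu h
theorem dp_t_36_s (hy : Hy g H)
    (j u : ℕ) (hu : u < M) (h : dp_t_36 j u = true) : Gd g H Lt.t u := by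
  unfold dp_t_36 at h
  rcases brec_true h with h | h
  · exact lF_good (T := T) (x := Lt.t) hM0 [Lt.c, Lt.t, Lt.b, Lt.ti, Lt.ci, Lt.ti, Lt.b, Lt.c] (hat (rf_14 hy) 1 rfl) h
  · exact lS_good (T := T) (x := Lt.t) hM0 hu [Lt.c, Lt.t, Lt.bi, Lt.ti, Lt.ci, Lt.ti, Lt.bi, Lt.ci] (hat (rb_13 hy) 3 rfl) h
theorem dp_t_37_s (hy : Hy g H)
    (j u : ℕ) (hu : u < M) (h : dp_t_37 j u = true) : Gd g H Lt.t u := by
  unfold dp_t_37 at h
  rcases brec_true h with h | h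
  · exact lS_good (T := T) (x := Lt.t) hM0 hu [Lt.bi, Lt.ti, Lt.ci, Lt.ti, Lt.ci, Lt.bi, Lt.t, Lt.c] (hat (rb_14 hy) 5 rfl) h
  · exact dp_t_36_s hy j u hu h
theorem dp_t_38_s (hy : Hy g H)
    (j u : ℕ) (hu : u < M) (h : dp_t_38 j u = true) : Gd g H Lt.t u := by
  unfold dp_t_38 at h
  rcases brec_true h with h | h
  · exact lS_good (T := T) (x := Lt.t) hM0 hu [Lt.bi, Lt.ti, Lt.ci, Lt.ti, Lt.bi, Lt.ci, Lt.t, Lt.c] (hat (rb_13 hy) 5 rfl) h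
  · exact lF_good (T := T) (x := Lt.t) hM0 [Lt.c, Lt.t, Lt.c, Lt.b, Lt.ti, Lt.ci, Lt.ti, Lt.b] (hat (rf_10 hy) 5 rfl) h
theorem dp_t_39_s (hy : Hy g H)
    (j u : ℕ) (hu : u < M) (h : dp_t_39 j u = true) : Gd g H Lt.t u := by
  unfold dp_t_39 at h
  rcases brec_true h with h | h
  · exact lF_good (T := T) (x := Lt.t) hM0 [Lt.c, Lt.t, Lt.ai, Lt.ci, Lt.ti, Lt.ci, Lt.ti, Lt.ai] (hat (rb_11 hy) 7 rfl) h
  · exact lF_good (T := T) (x := Lt.t) hM0 [Lt.ci, Lt.t, Lt.t, Lt.ci, Lt.ci, Lt.ti, Lt.ti, Lt.c] (hat (rb_17 hy) 6 rfl) h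
theorem dp_t_40_s (hy : Hy g H)
    (j u : ℕ) (hu : u < M) (h : dp_t_40 j u = true) : Gd g H Lt.t u := by
  unfold dp_t_40 at h
  rcases brec_true h with h | h
  · exact dp_t_38_s hy j u hu h
  · exact dp_t_39_s hy j u hu h
theorem dp_t_41_s (hy : Hy g H)
    (j u : ℕ) (hu : u < M) (h : dp_t_41 j u = true) : Gd g H Lt.t u := by
  unfold dp_t_41 at h
  rcases brec_true h with h | h
  · exact dp_t_37_s hy j u hu h
  · exact dp_t_40_s hy j u hu h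
theorem dp_t_42_s (hy : Hy g H)
    (j u : ℕ) (hu : u < M) (h : dp_t_42 j u = true) : Gd g H Lt.t u := by
  unfold dp_t_42 at h
  rcases brec_true h with h | h
  · exact dp_t_35_s hy j u hu h
  · exact dp_t_41_s hy j u hu h
theorem dp_t_43_s (hy : Hy g H)
    (j u : ℕ) (hu : u < M) (h : dp_t_43 j u = true) : Gd g H Lt.t u := by
  unfold dp_t_43 at h
  rcases brec_true h with h | h
  · exact lF_good (T := T) (x := Lt.t) hM0 [Lt.ai, Lt.ci, Lt.ti, Lt.ci, Lt.ti, Lt.ai, Lt.t, Lt.c] (hat (rb_11 hy) 0 rfl) h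
  · exact lF_good (T := T) (x := Lt.t) hM0 [Lt.bi, Lt.t, Lt.bi, Lt.t, Lt.bi, Lt.z, Lt.t, Lt.bi] (hat (rb_12 hy) 4 rfl) h
theorem dp_t_44_s (hy : Hy g H)
    (j u : ℕ) (hu : u < M) (h : dp_t_44 j u = true) : Gd g H Lt.t u := by
  unfold dp_t_44 at h
  rcases brec_true h with h | h
  · exact lS_good (T := T) (x := Lt.t) hM0 hu [Lt.t, Lt.b, Lt.ti, Lt.a, Lt.t, Lt.ai, Lt.t, Lt.bi] (hat (rf_16 hy) 4 rfl) h
  · exact lF_good (T := T) (x := Lt.t) hM0 [Lt.t, Lt.c, Lt.c, Lt.ti, Lt.ti, Lt.c, Lt.ti, Lt.ci] (hat (rf_17 hy) 6 rfl) h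
theorem dp_t_45_s (hy : Hy g H)
    (j u : ℕ) (hu : u < M) (h : dp_t_45 j u = true) : Gd g H Lt.t u := by
  unfold dp_t_45 at h
  rcases brec_true h with h | h
  · exact dp_t_43_s hy j u hu h
  · exact dp_t_44_s hy j u hu h
theorem dp_t_46_s (hy : Hy g H)
    (j u : ℕ) (hu : u < M) (h : dp_t_46 j u = true) : Gd g H Lt.t u := by
  unfold dp_t_46 at h
  rcases brec_true h with h | h
  · exact lF_good (T := T) (x := Lt.t) hM0 [Lt.c, Lt.t, Lt.ai, Lt.ti, Lt.ci, Lt.ti, Lt.ai, Lt.ci] (hat (rb_15 hy) 3 rfl) h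
  · exact lS_good (T := T) (x := Lt.t) hM0 hu [Lt.c, Lt.t, Lt.bi, Lt.ti, Lt.ci, Lt.ti, Lt.ci, Lt.bi] (hat (rb_14 hy) 3 rfl) h
theorem dp_t_47_s (hy : Hy g H)
    (j u : ℕ) (hu : u < M) (h : dp_t_47 j u = true) : Gd g H Lt.t u := by
  unfold dp_t_47 at h
  rcases brec_true h with h | h
  · exact lF_good (T := T) (x := Lt.t) hM0 [Lt.bi, Lt.t, Lt.bi, Lt.z, Lt.t, Lt.bi, Lt.t, Lt.bi] (hat (rb_12 hy) 6 rfl) h
  · exact dp_t_46_s hy j u hu h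
theorem dp_t_48_s (hy : Hy g H)
    (j u : ℕ) (hu : u < M) (h : dp_t_48 j u = true) : Gd g H Lt.t u := by
  unfold dp_t_48 at h
  rcases brec_true h with h | h
  · exact lF_good (T := T) (x := Lt.t) hM0 [Lt.c, Lt.t, Lt.bi, Lt.ti, Lt.ci, Lt.ti, Lt.bi, Lt.ci] (hat (rb_13 hy) 3 rfl) h
  · exact lS_good (T := T) (x := Lt.t) hM0 hu [Lt.c, Lt.t, Lt.b, Lt.ti, Lt.ci, Lt.ti, Lt.c, Lt.b] (hat (rf_13 hy) 1 rfl) h
theorem dp_t_49_s (hy : Hy g H)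
    (j u : ℕ) (hu : u < M) (h : dp_t_49 j u = true) : Gd g H Lt.t u := by
  unfold dp_t_49 at h
  rcases brec_true h with h | h
  · exact lF_good (T := T) (x := Lt.t) hM0 [Lt.c, Lt.a, Lt.ti, Lt.ci, Lt.ti, Lt.a, Lt.t, Lt.c] (hat (rf_11 hy) 7 rfl) h
  · exact dp_t_48_s hy j u hu h
theorem dp_t_50_s (hy : Hy g H)
    (j u : ℕ) (hu : u < M) (h : dp_t_50 j u = true) : Gd g H Lt.t u := by
  unfold dp_t_50 at h
  rcases brec_true h with h | h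
  · exact dp_t_47_s hy j u hu h
  · exact dp_t_49_s hy j u hu h
theorem dp_t_51_s (hy : Hy g H)
    (j u : ℕ) (hu : u < M) (h : dp_t_51 j u = true) : Gd g H Lt.t u := by
  unfold dp_t_51 at h
  rcases brec_true h with h | h
  · exact dp_t_45_s hy j u hu h
  · exact dp_t_50_s hy j u hu h
theorem dp_t_52_s (hy : Hy g H)
    (j u : ℕ) (hu : u < M) (h : dp_t_52 j u = true) : Gd g H Lt.t u := by
  unfold dp_t_52 at h
  rcases brec_true h with h | h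
  · exact lF_good (T := T) (x := Lt.t) hM0 [Lt.c, Lt.ti, Lt.c, Lt.c, Lt.ti, Lt.ti, Lt.ci, Lt.ci] (hat (rb_9 hy) 5 rfl) h
  · exact lS_good (T := T) (x := Lt.t) hM0 hu [Lt.ai, Lt.ti, Lt.ci, Lt.ti, Lt.ai, Lt.ci, Lt.t, Lt.c] (hat (rb_15 hy) 5 rfl) h
theorem dp_t_53_s (hy : Hy g H)
    (j u : ℕ) (hu : u < M) (h : dp_t_53 j u = true) : Gd g H Lt.t u := by
  unfold dp_t_53 at h
  rcases brec_true h with h | h
  · exact lS_good (T := T) (x := Lt.t) hM0 hu [Lt.c, Lt.a, Lt.ti, Lt.ci, Lt.ti, Lt.a, Lt.t, Lt.c] (hat (rf_11 hy) 7 rfl) h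
  · exact dp_t_52_s hy j u hu h
theorem dp_t_54_s (hy : Hy g H)
    (j u : ℕ) (hu : u < M) (h : dp_t_54 j u = true) : Gd g H Lt.t u := by
  unfold dp_t_54 at h
  rcases brec_true h with h | h
  · exact lF_good (T := T) (x := Lt.t) hM0 [Lt.t, Lt.ci, Lt.ci, Lt.t, Lt.ci, Lt.ti, Lt.c, Lt.c] (hat (rf_9 hy) 8 rfl) h
  · exact lS_good (T := T) (x := Lt.t) hM0 hu [Lt.bi, Lt.t, Lt.bi, Lt.t, Lt.bi, Lt.z, Lt.t, Lt.bi] (hat (rb_12 hy) 4 rfl) h
theorem dp_t_55_s (hy : Hy g H)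
    (j u : ℕ) (hu : u < M) (h : dp_t_55 j u = true) : Gd g H Lt.t u := by
  unfold dp_t_55 at h
  rcases brec_true h with h | h
  · exact lF_good (T := T) (x := Lt.t) hM0 [Lt.t, Lt.ci, Lt.ci, Lt.ti, Lt.ti, Lt.c, Lt.t, Lt.ci] (hat (rb_17 hy) 8 rfl) h
  · exact dp_t_54_s hy j u hu h
theorem dp_t_56_s (hy : Hy g H)
    (j u : ℕ) (hu : u < M) (h : dp_t_56 j u = true) : Gd g H Lt.t u := by
  unfold dp_t_56 at h
  rcases brec_true h with h | h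
  · exact dp_t_53_s hy j u hu h
  · exact dp_t_55_s hy j u hu h
theorem dp_t_57_s (hy : Hy g H)
    (j u : ℕ) (hu : u < M) (h : dp_t_57 j u = true) : Gd g H Lt.t u := by
  unfold dp_t_57 at h
  rcases brec_true h with h | h
  · exact lS_good (T := T) (x := Lt.t) hM0 hu [Lt.bi, Lt.z, Lt.t, Lt.bi, Lt.t, Lt.bi, Lt.t, Lt.bi] (hat (rb_12 hy) 8 rfl) h
  · exact lS_good (T := T) (x := Lt.t) hM0 hu [Lt.bi, Lt.t, Lt.bi, Lt.t, Lt.bi, Lt.t, Lt.bi, Lt.z] (hat (rb_12 hy) 2 rfl) h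
theorem dp_t_58_s (hy : Hy g H)
    (j u : ℕ) (hu : u < M) (h : dp_t_58 j u = true) : Gd g H Lt.t u := by
  unfold dp_t_58 at h
  rcases brec_true h with h | h
  · exact lF_good (T := T) (x := Lt.t) hM0 [Lt.c, Lt.t, Lt.b, Lt.ti, Lt.ci, Lt.ti, Lt.c, Lt.b] (hat (rf_13 hy) 1 rfl) h
  · exact lS_good (T := T) (x := Lt.t) hM0 hu [Lt.zi, Lt.ti, Lt.z] (hat (rf_0 hy) 2 rfl) h
theorem dp_t_59_s (hy : Hy g H)
    (j u : ℕ) (hu : u < M) (h : dp_t_59 j u = true) : Gd g H Lt.t u := by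
  unfold dp_t_59 at h
  rcases brec_true h with h | h
  · exact lF_good (T := T) (x := Lt.t) hM0 [Lt.c, Lt.t, Lt.c, Lt.a, Lt.ti, Lt.ci, Lt.ti, Lt.a] (hat (rf_11 hy) 5 rfl) h
  · exact dp_t_58_s hy j u hu h
theorem dp_t_60_s (hy : Hy g H)
    (j u : ℕ) (hu : u < M) (h : dp_t_60 j u = true) : Gd g H Lt.t u := by
  unfold dp_t_60 at h
  rcases brec_true h with h | h
  · exact dp_t_57_s hy j u hu h
  · exact dp_t_59_s hy j u hu h
theorem dp_t_61_s (hy : Hy g H)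
    (j u : ℕ) (hu : u < M) (h : dp_t_61 j u = true) : Gd g H Lt.t u := by
  unfold dp_t_61 at h
  rcases brec_true h with h | h
  · exact lS_good (T := T) (x := Lt.t) hM0 hu [Lt.c, Lt.t, Lt.a, Lt.ti, Lt.ci, Lt.ti, Lt.c, Lt.a] (hat (rf_15 hy) 1 rfl) h
  · exact lF_good (T := T) (x := Lt.t) hM0 [Lt.bi, Lt.ti, Lt.ci, Lt.ti, Lt.ci, Lt.bi, Lt.t, Lt.c] (hat (rb_14 hy) 5 rfl) h
theorem dp_t_62_s (hy : Hy g H)
    (j u : ℕ) (hu : u < M) (h : dp_t_62 j u = true) : Gd g H Lt.t u := by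
  unfold dp_t_62 at h
  rcases brec_true h with h | h
  · exact lS_good (T := T) (x := Lt.t) hM0 hu [Lt.c, Lt.t, Lt.b, Lt.ti, Lt.ci, Lt.ti, Lt.b, Lt.c] (hat (rf_14 hy) 1 rfl) h
  · exact dp_t_61_s hy j u hu h
theorem dp_t_63_s (hy : Hy g H)
    (j u : ℕ) (hu : u < M) (h : dp_t_63 j u = true) : Gd g H Lt.t u := by
  unfold dp_t_63 at h
  rcases brec_true h with h | h
  · exact lS_good (T := T) (x := Lt.t) hM0 hu [Lt.c, Lt.b, Lt.ti, Lt.ci, Lt.ti, Lt.b, Lt.t, Lt.c] (hat (rf_10 hy) 7 rfl) h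
  · exact lF_good (T := T) (x := Lt.t) hM0 [Lt.b, Lt.ti, Lt.ci, Lt.ti, Lt.c, Lt.b, Lt.t, Lt.c] (hat (rf_13 hy) 3 rfl) h
theorem dp_t_64_s (hy : Hy g H)
    (j u : ℕ) (hu : u < M) (h : dp_t_64 j u = true) : Gd g H Lt.t u := by
  unfold dp_t_64 at h
  rcases brec_true h with h | h
  · exact lS_good (T := T) (x := Lt.t) hM0 hu [Lt.b, Lt.ti, Lt.ci, Lt.ti, Lt.c, Lt.b, Lt.t, Lt.c] (hat (rf_13 hy) 3 rfl) h
  · exact dp_t_63_s hy j u hu h
theorem dp_t_65_s (hy : Hy g H)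
    (j u : ℕ) (hu : u < M) (h : dp_t_65 j u = true) : Gd g H Lt.t u := by
  unfold dp_t_65 at h
  rcases brec_true h with h | h
  · exact dp_t_62_s hy j u hu h
  · exact dp_t_64_s hy j u hu h
theorem dp_t_66_s (hy : Hy g H)
    (j u : ℕ) (hu : u < M) (h : dp_t_66 j u = true) : Gd g H Lt.t u := by
  unfold dp_t_66 at h
  rcases brec_true h with h | h
  · exact dp_t_60_s hy j u hu h
  · exact dp_t_65_s hy j u hu h
theorem dp_t_67_s (hy : Hy g H)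
    (j u : ℕ) (hu : u < M) (h : dp_t_67 j u = true) : Gd g H Lt.t u := by
  unfold dp_t_67 at h
  rcases brec_true h with h | h
  · exact dp_t_56_s hy j u hu h
  · exact dp_t_66_s hy j u hu h
theorem dp_t_68_s (hy : Hy g H)
    (j u : ℕ) (hu : u < M) (h : dp_t_68 j u = true) : Gd g H Lt.t u := by
  unfold dp_t_68 at h
  rcases brec_true h with h | h
  · exact dp_t_51_s hy j u hu h
  · exact dp_t_67_s hy j u hu h
theorem dp_t_69_s (hy : Hy g H)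
    (j u : ℕ) (hu : u < M) (h : dp_t_69 j u = true) : Gd g H Lt.t u := by
  unfold dp_t_69 at h
  rcases brec_true h with h | h
  · exact dp_t_42_s hy j u hu h
  · exact dp_t_68_s hy j u hu h
theorem dp_t_70_s (hy : Hy g H)
    (j u : ℕ) (hu : u < M) (h : dp_t_70 j u = true) : Gd g H Lt.t u := by
  unfold dp_t_70 at h
  rcases brec_true h with h | h
  · exact dp_t_30_s hy j u hu h
  · exact dp_t_69_s hy j u hu h
theorem dp_t_71_s (hy : Hy g H)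
    (j u : ℕ) (hu : u < M) (h : dp_t_71 j u = true) : Gd g H Lt.t u := by
  unfold dp_t_71 at h
  rcases brec_true h with h | h
  · exact dp_t_12_s hy j u hu h
  · exact dp_t_70_s hy j u hu h
theorem snd_t (hy : Hy g H)
    (j u : ℕ) (hu : u < M) (h : disp_t j u = true) : Gd g H Lt.t u := by
  unfold disp_t at h
  rcases brec_true h with h | h
  · rcases brec_true h with h | h
    · exact lF1_good (T := T) (x := Lt.t) hM0 .ti (hat (rf_24 hy) 1 rfl) h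
    · exact lDef_good (T := T) (x := Lt.t) (by decide) rfl h
  · rcases brec_true h with h | h
    · rcases brec_true h with h | h
      · exact lPar_good (T := T) (x := Lt.t) (x' := Lt.ti) (by decide) rfl (ivt hy _ _ rfl) h
      · exact lS_good (T := T) (x := Lt.t) hM0 hu [Lt.ti] (hat (rf_24 hy) 1 rfl) h
    · exact dp_t_71_s hy j u hu h
theorem snc_t (hy : Hy g H)
    (j u : ℕ) (hu : u < M) (h : chk_t j u = true) : (T Lt.t u < A ∧ Gd g H Lt.t u) ∨ (A ≤ T Lt.t u ∧ MG u < A) := by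
  unfold chk_t at h
  cases hb : Nat.ble A (T_t u) with
  | true => rw [hb] at h; exact Or.inr ⟨le_of_ble hb, le_of_ble h⟩
  | false => rw [hb] at h; exact Or.inl ⟨lt_of_ble_false hb, snd_t hy j u hu h⟩
theorem dp_ti_0_s (hy : Hy g H)
    (j u : ℕ) (hu : u < M) (h : dp_ti_0 j u = true) : Gd g H Lt.ti u := by
  unfold dp_ti_0 at h
  rcases brec_true h with h | h
  · exact lF3_good (T := T) (x := Lt.ti) hM0 .z .t .zi (hat (rf_0 hy) 0 rfl) h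
  · exact lS_good (T := T) (x := Lt.ti) hM0 hu [Lt.ti, Lt.c, Lt.t, Lt.ci, Lt.t, Lt.t, Lt.ci, Lt.ci] (hat (rb_17 hy) 3 rfl) h
theorem dp_ti_1_s (hy : Hy g H)
    (j u : ℕ) (hu : u < M) (h : dp_ti_1 j u = true) : Gd g H Lt.ti u := by
  unfold dp_ti_1 at h
  rcases brec_true h with h | h
  · exact lF3_good (T := T) (x := Lt.ti) hM0 .zi .t .z (hat (rb_0 hy) 3 rfl) h
  · exact dp_ti_0_s hy j u hu h
theorem dp_ti_2_s (hy : Hy g H)
    (j u : ℕ) (hu : u < M) (h : dp_ti_2 j u = true) : Gd g H Lt.ti u := by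
  unfold dp_ti_2 at h
  rcases brec_true h with h | h
  · exact lS_good (T := T) (x := Lt.ti) hM0 hu [Lt.c, Lt.ti, Lt.ci, Lt.t, Lt.t, Lt.c, Lt.c, Lt.ti] (hat (rf_17 hy) 2 rfl) h
  · exact lS_good (T := T) (x := Lt.ti) hM0 hu [Lt.ti, Lt.ci, Lt.ci, Lt.t, Lt.c, Lt.ti, Lt.c, Lt.c] (hat (rb_9 hy) 1 rfl) h
theorem dp_ti_3_s (hy : Hy g H)
    (j u : ℕ) (hu : u < M) (h : dp_ti_3 j u = true) : Gd g H Lt.ti u := by
  unfold dp_ti_3 at h
  rcases brec_true h with h | h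
  · exact lS_good (T := T) (x := Lt.ti) hM0 hu [Lt.ai, Lt.t, Lt.bi, Lt.ti, Lt.ti, Lt.b, Lt.ti, Lt.a] (hat (rb_16 hy) 1 rfl) h
  · exact lS_good (T := T) (x := Lt.ti) hM0 hu [Lt.ci, Lt.ti, Lt.ai, Lt.ci, Lt.t, Lt.c, Lt.t, Lt.ai] (hat (rb_15 hy) 7 rfl) h
theorem dp_ti_4_s (hy : Hy g H)
    (j u : ℕ) (hu : u < M) (h : dp_ti_4 j u = true) : Gd g H Lt.ti u := by
  unfold dp_ti_4 at h
  rcases brec_true h with h | h
  · exact lS_good (T := T) (x := Lt.ti) hM0 hu [Lt.c, Lt.t, Lt.ci, Lt.t, Lt.t, Lt.ci, Lt.ci, Lt.ti] (hat (rb_17 hy) 4 rfl) h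
  · exact dp_ti_3_s hy j u hu h
theorem dp_ti_5_s (hy : Hy g H)
    (j u : ℕ) (hu : u < M) (h : dp_ti_5 j u = true) : Gd g H Lt.ti u := by
  unfold dp_ti_5 at h
  rcases brec_true h with h | h
  · exact dp_ti_2_s hy j u hu h
  · exact dp_ti_4_s hy j u hu h
theorem dp_ti_6_s (hy : Hy g H)
    (j u : ℕ) (hu : u < M) (h : dp_ti_6 j u = true) : Gd g H Lt.ti u := by
  unfold dp_ti_6 at h
  rcases brec_true h with h | h
  · exact lF_good (T := T) (x := Lt.ti) hM0 [Lt.ci, Lt.t, Lt.t, Lt.c, Lt.c, Lt.ti, Lt.ti, Lt.c] (hat (rf_17 hy) 4 rfl) h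
  · exact lS_good (T := T) (x := Lt.ti) hM0 hu [Lt.a, Lt.t, Lt.ai, Lt.t, Lt.bi, Lt.t, Lt.t, Lt.b] (hat (rf_16 hy) 7 rfl) h
theorem dp_ti_7_s (hy : Hy g H)
    (j u : ℕ) (hu : u < M) (h : dp_ti_7 j u = true) : Gd g H Lt.ti u := by
  unfold dp_ti_7 at h
  rcases brec_true h with h | h
  · exact lS_good (T := T) (x := Lt.ti) hM0 hu [Lt.ci, Lt.ci, Lt.t, Lt.c, Lt.ti, Lt.c, Lt.c, Lt.ti] (hat (rb_9 hy) 2 rfl) h
  · exact dp_ti_6_s hy j u hu h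
theorem dp_ti_8_s (hy : Hy g H)
    (j u : ℕ) (hu : u < M) (h : dp_ti_8 j u = true) : Gd g H Lt.ti u := by
  unfold dp_ti_8 at h
  rcases brec_true h with h | h
  · exact lF_good (T := T) (x := Lt.ti) hM0 [Lt.c, Lt.t, Lt.ci, Lt.t, Lt.t, Lt.ci, Lt.ci, Lt.ti] (hat (rb_17 hy) 4 rfl) h
  · exact lS_good (T := T) (x := Lt.ti) hM0 hu [Lt.a, Lt.ti, Lt.ai, Lt.t, Lt.bi, Lt.ti, Lt.ti, Lt.b] (hat (rb_16 hy) 8 rfl) h
theorem dp_ti_9_s (hy : Hy g H)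
    (j u : ℕ) (hu : u < M) (h : dp_ti_9 j u = true) : Gd g H Lt.ti u := by
  unfold dp_ti_9 at h
  rcases brec_true h with h | h
  · exact lS_good (T := T) (x := Lt.ti) hM0 hu [Lt.ti, Lt.b, Lt.ti, Lt.a, Lt.ti, Lt.ai, Lt.t, Lt.bi] (hat (rb_16 hy) 5 rfl) h
  · exact lF_good (T := T) (x := Lt.ti) hM0 [Lt.c, Lt.c, Lt.ti, Lt.ti, Lt.ci, Lt.ci, Lt.t, Lt.c] (hat (rb_9 hy) 7 rfl) h
theorem dp_ti_10_s (hy : Hy g H)
    (j u : ℕ) (hu : u < M) (h : dp_ti_10 j u = true) : Gd g H Lt.ti u := by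
  unfold dp_ti_10 at h
  rcases brec_true h with h | h
  · exact dp_ti_8_s hy j u hu h
  · exact dp_ti_9_s hy j u hu h
theorem dp_ti_11_s (hy : Hy g H)
    (j u : ℕ) (hu : u < M) (h : dp_ti_11 j u = true) : Gd g H Lt.ti u := by
  unfold dp_ti_11 at h
  rcases brec_true h with h | h
  · exact dp_ti_7_s hy j u hu h
  · exact dp_ti_10_s hy j u hu h
theorem dp_ti_12_s (hy : Hy g H)
    (j u : ℕ) (hu : u < M) (h : dp_ti_12 j u = true) : Gd g H Lt.ti u := by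
  unfold dp_ti_12 at h
  rcases brec_true h with h | h
  · exact dp_ti_5_s hy j u hu h
  · exact dp_ti_11_s hy j u hu h
theorem dp_ti_13_s (hy : Hy g H)
    (j u : ℕ) (hu : u < M) (h : dp_ti_13 j u = true) : Gd g H Lt.ti u := by
  unfold dp_ti_13 at h
  rcases brec_true h with h | h
  · exact dp_ti_1_s hy j u hu h
  · exact dp_ti_12_s hy j u hu h
theorem dp_ti_14_s (hy : Hy g H)
    (j u : ℕ) (hu : u < M) (h : dp_ti_14 j u = true) : Gd g H Lt.ti u := by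
  unfold dp_ti_14 at h
  rcases brec_true h with h | h
  · exact lF_good (T := T) (x := Lt.ti) hM0 [Lt.ai, Lt.ci, Lt.t, Lt.c, Lt.t, Lt.ai, Lt.ti, Lt.ci] (hat (rb_15 hy) 0 rfl) h
  · exact lF_good (T := T) (x := Lt.ti) hM0 [Lt.bi, Lt.ci, Lt.t, Lt.c, Lt.t, Lt.bi, Lt.ti, Lt.ci] (hat (rb_13 hy) 0 rfl) h
theorem dp_ti_15_s (hy : Hy g H)
    (j u : ℕ) (hu : u < M) (h : dp_ti_15 j u = true) : Gd g H Lt.ti u := by
  unfold dp_ti_15 at h
  rcases brec_true h with h | h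
  · exact lF_good (T := T) (x := Lt.ti) hM0 [Lt.ci, Lt.ci, Lt.t, Lt.c, Lt.ti, Lt.c, Lt.c, Lt.ti] (hat (rb_9 hy) 2 rfl) h
  · exact lF_good (T := T) (x := Lt.ti) hM0 [Lt.ci, Lt.ti, Lt.bi, Lt.t, Lt.c, Lt.t, Lt.bi, Lt.ci] (hat (rb_10 hy) 3 rfl) h
theorem dp_ti_16_s (hy : Hy g H)
    (j u : ℕ) (hu : u < M) (h : dp_ti_16 j u = true) : Gd g H Lt.ti u := by
  unfold dp_ti_16 at h
  rcases brec_true h with h | h
  · exact dp_ti_14_s hy j u hu h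
  · exact dp_ti_15_s hy j u hu h
theorem dp_ti_17_s (hy : Hy g H)
    (j u : ℕ) (hu : u < M) (h : dp_ti_17 j u = true) : Gd g H Lt.ti u := by
  unfold dp_ti_17 at h
  rcases brec_true h with h | h
  · exact lS_good (T := T) (x := Lt.ti) hM0 hu [Lt.ci, Lt.ti, Lt.bi, Lt.t, Lt.c, Lt.t, Lt.bi, Lt.ci] (hat (rb_10 hy) 3 rfl) h
  · exact lS_good (T := T) (x := Lt.ti) hM0 hu [Lt.ci, Lt.ti, Lt.a, Lt.t, Lt.c, Lt.t, Lt.c, Lt.a] (hat (rf_11 hy) 1 rfl) h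
theorem dp_ti_18_s (hy : Hy g H)
    (j u : ℕ) (hu : u < M) (h : dp_ti_18 j u = true) : Gd g H Lt.ti u := by
  unfold dp_ti_18 at h
  rcases brec_true h with h | h
  · exact lS_good (T := T) (x := Lt.ti) hM0 hu [Lt.ci, Lt.ti, Lt.bi, Lt.ci, Lt.t, Lt.c, Lt.t, Lt.bi] (hat (rb_13 hy) 7 rfl) h
  · exact lF_good (T := T) (x := Lt.ti) hM0 [Lt.ci, Lt.ti, Lt.a, Lt.t, Lt.c, Lt.t, Lt.c, Lt.a] (hat (rf_11 hy) 1 rfl) h
theorem dp_ti_19_s (hy : Hy g H)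
    (j u : ℕ) (hu : u < M) (h : dp_ti_19 j u = true) : Gd g H Lt.ti u := by
  unfold dp_ti_19 at h
  rcases brec_true h with h | h
  · exact dp_ti_17_s hy j u hu h
  · exact dp_ti_18_s hy j u hu h
theorem dp_ti_20_s (hy : Hy g H)
    (j u : ℕ) (hu : u < M) (h : dp_ti_20 j u = true) : Gd g H Lt.ti u := by
  unfold dp_ti_20 at h
  rcases brec_true h with h | h
  · exact dp_ti_16_s hy j u hu h
  · exact dp_ti_19_s hy j u hu h
theorem dp_ti_21_s (hy : Hy g H)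
    (j u : ℕ) (hu : u < M) (h : dp_ti_21 j u = true) : Gd g H Lt.ti u := by
  unfold dp_ti_21 at h
  rcases brec_true h with h | h
  · exact lF_good (T := T) (x := Lt.ti) hM0 [Lt.ci, Lt.ti, Lt.c, Lt.b, Lt.t, Lt.c, Lt.t, Lt.b] (hat (rf_13 hy) 5 rfl) h
  · exact lS_good (T := T) (x := Lt.ti) hM0 hu [Lt.ai, Lt.t, Lt.c, Lt.t, Lt.ai, Lt.ci, Lt.ti, Lt.ci] (hat (rb_11 hy) 5 rfl) h
theorem dp_ti_22_s (hy : Hy g H)
    (j u : ℕ) (hu : u < M) (h : dp_ti_22 j u = true) : Gd g H Lt.ti u := by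
  unfold dp_ti_22 at h
  rcases brec_true h with h | h
  · exact lF_good (T := T) (x := Lt.ti) hM0 [Lt.c, Lt.c, Lt.t, Lt.t, Lt.ci, Lt.ci, Lt.t, Lt.ci] (hat (rf_9 hy) 5 rfl) h
  · exact lS_good (T := T) (x := Lt.ti) hM0 hu [Lt.zi, Lt.t, Lt.z] (hat (rb_0 hy) 3 rfl) h
theorem dp_ti_23_s (hy : Hy g H)
    (j u : ℕ) (hu : u < M) (h : dp_ti_23 j u = true) : Gd g H Lt.ti u := by
  unfold dp_ti_23 at h
  rcases brec_true h with h | h
  · exact lF_good (T := T) (x := Lt.ti) hM0 [Lt.ti, Lt.ci, Lt.ci, Lt.t, Lt.c, Lt.ti, Lt.c, Lt.c] (hat (rb_9 hy) 1 rfl) h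
  · exact dp_ti_22_s hy j u hu h
theorem dp_ti_24_s (hy : Hy g H)
    (j u : ℕ) (hu : u < M) (h : dp_ti_24 j u = true) : Gd g H Lt.ti u := by
  unfold dp_ti_24 at h
  rcases brec_true h with h | h
  · exact dp_ti_21_s hy j u hu h
  · exact dp_ti_23_s hy j u hu h
theorem dp_ti_25_s (hy : Hy g H)
    (j u : ℕ) (hu : u < M) (h : dp_ti_25 j u = true) : Gd g H Lt.ti u := by
  unfold dp_ti_25 at h
  rcases brec_true h with h | h
  · exact lS_good (T := T) (x := Lt.ti) hM0 hu [Lt.ci, Lt.ti, Lt.c, Lt.b, Lt.t, Lt.c, Lt.t, Lt.b] (hat (rf_13 hy) 5 rfl) h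
  · exact lS_good (T := T) (x := Lt.ti) hM0 hu [Lt.c, Lt.b, Lt.t, Lt.c, Lt.t, Lt.b, Lt.ti, Lt.ci] (hat (rf_13 hy) 7 rfl) h
theorem dp_ti_26_s (hy : Hy g H)
    (j u : ℕ) (hu : u < M) (h : dp_ti_26 j u = true) : Gd g H Lt.ti u := by
  unfold dp_ti_26 at h
  rcases brec_true h with h | h
  · exact lS_good (T := T) (x := Lt.ti) hM0 hu [Lt.ci, Lt.ti, Lt.c, Lt.a, Lt.t, Lt.c, Lt.t, Lt.a] (hat (rf_15 hy) 5 rfl) h
  · exact dp_ti_25_s hy j u hu h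
theorem dp_ti_27_s (hy : Hy g H)
    (j u : ℕ) (hu : u < M) (h : dp_ti_27 j u = true) : Gd g H Lt.ti u := by
  unfold dp_ti_27 at h
  rcases brec_true h with h | h
  · exact lF_good (T := T) (x := Lt.ti) hM0 [Lt.ci, Lt.ti, Lt.ci, Lt.bi, Lt.t, Lt.c, Lt.t, Lt.bi] (hat (rb_14 hy) 7 rfl) h
  · exact lF_good (T := T) (x := Lt.ti) hM0 [Lt.a, Lt.ti, Lt.ai, Lt.t, Lt.bi, Lt.ti, Lt.ti, Lt.b] (hat (rb_16 hy) 8 rfl) h
theorem dp_ti_28_s (hy : Hy g H)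
    (j u : ℕ) (hu : u < M) (h : dp_ti_28 j u = true) : Gd g H Lt.ti u := by
  unfold dp_ti_28 at h
  rcases brec_true h with h | h
  · exact lS_good (T := T) (x := Lt.ti) hM0 hu [Lt.ti, Lt.c, Lt.ti, Lt.ci, Lt.t, Lt.t, Lt.c, Lt.c] (hat (rf_17 hy) 1 rfl) h
  · exact dp_ti_27_s hy j u hu h
theorem dp_ti_29_s (hy : Hy g H)
    (j u : ℕ) (hu : u < M) (h : dp_ti_29 j u = true) : Gd g H Lt.ti u := by
  unfold dp_ti_29 at h
  rcases brec_true h with h | h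
  · exact dp_ti_26_s hy j u hu h
  · exact dp_ti_28_s hy j u hu h
theorem dp_ti_30_s (hy : Hy g H)
    (j u : ℕ) (hu : u < M) (h : dp_ti_30 j u = true) : Gd g H Lt.ti u := by
  unfold dp_ti_30 at h
  rcases brec_true h with h | h
  · exact dp_ti_24_s hy j u hu h
  · exact dp_ti_29_s hy j u hu h
theorem dp_ti_31_s (hy : Hy g H)
    (j u : ℕ) (hu : u < M) (h : dp_ti_31 j u = true) : Gd g H Lt.ti u := by
  unfold dp_ti_31 at h
  rcases brec_true h with h | h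
  · exact dp_ti_20_s hy j u hu h
  · exact dp_ti_30_s hy j u hu h
theorem dp_ti_32_s (hy : Hy g H)
    (j u : ℕ) (hu : u < M) (h : dp_ti_32 j u = true) : Gd g H Lt.ti u := by
  unfold dp_ti_32 at h
  rcases brec_true h with h | h
  · exact lS_good (T := T) (x := Lt.ti) hM0 hu [Lt.a, Lt.t, Lt.c, Lt.t, Lt.c, Lt.a, Lt.ti, Lt.ci] (hat (rf_11 hy) 3 rfl) h
  · exact lS_good (T := T) (x := Lt.ti) hM0 hu [Lt.b, Lt.ti, Lt.a, Lt.ti, Lt.ai, Lt.t, Lt.bi, Lt.ti] (hat (rb_16 hy) 6 rfl) h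
theorem dp_ti_33_s (hy : Hy g H)
    (j u : ℕ) (hu : u < M) (h : dp_ti_33 j u = true) : Gd g H Lt.ti u := by
  unfold dp_ti_33 at h
  rcases brec_true h with h | h
  · exact lS_good (T := T) (x := Lt.ti) hM0 hu [Lt.b, Lt.ti, Lt.b, Lt.ti, Lt.zi, Lt.b, Lt.ti, Lt.b] (hat (rf_12 hy) 4 rfl) h
  · exact dp_ti_32_s hy j u hu h
theorem dp_ti_34_s (hy : Hy g H)
    (j u : ℕ) (hu : u < M) (h : dp_ti_34 j u = true) : Gd g H Lt.ti u := by
  unfold dp_ti_34 at h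
  rcases brec_true h with h | h
  · exact lF_good (T := T) (x := Lt.ti) hM0 [Lt.b, Lt.ti, Lt.a, Lt.ti, Lt.ai, Lt.t, Lt.bi, Lt.ti] (hat (rb_16 hy) 6 rfl) h
  · exact lS_good (T := T) (x := Lt.ti) hM0 hu [Lt.c, Lt.c, Lt.t, Lt.t, Lt.ci, Lt.ci, Lt.t, Lt.ci] (hat (rf_9 hy) 5 rfl) h
theorem dp_ti_35_s (hy : Hy g H)
    (j u : ℕ) (hu : u < M) (h : dp_ti_35 j u = true) : Gd g H Lt.ti u := by
  unfold dp_ti_35 at h
  rcases brec_true h with h | h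
  · exact lF_good (T := T) (x := Lt.ti) hM0 [Lt.c, Lt.ti, Lt.ci, Lt.t, Lt.t, Lt.c, Lt.c, Lt.ti] (hat (rf_17 hy) 2 rfl) h
  · exact dp_ti_34_s hy j u hu h
theorem dp_ti_36_s (hy : Hy g H)
    (j u : ℕ) (hu : u < M) (h : dp_ti_36 j u = true) : Gd g H Lt.ti u := by
  unfold dp_ti_36 at h
  rcases brec_true h with h | h
  · exact dp_ti_33_s hy j u hu h
  · exact dp_ti_35_s hy j u hu h
theorem dp_ti_37_s (hy : Hy g H)
    (j u : ℕ) (hu : u < M) (h : dp_ti_37 j u = true) : Gd g H Lt.ti u := by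
  unfold dp_ti_37 at h
  rcases brec_true h with h | h
  · exact lS_good (T := T) (x := Lt.ti) hM0 hu [Lt.ci, Lt.ti, Lt.ci, Lt.bi, Lt.t, Lt.c, Lt.t, Lt.bi] (hat (rb_14 hy) 7 rfl) h
  · exact lF_good (T := T) (x := Lt.ti) hM0 [Lt.b, Lt.ti, Lt.b, Lt.ti, Lt.b, Lt.ti, Lt.zi, Lt.b] (hat (rf_12 hy) 2 rfl) h
theorem dp_ti_38_s (hy : Hy g H)
    (j u : ℕ) (hu : u < M) (h : dp_ti_38 j u = true) : Gd g H Lt.ti u := by
  unfold dp_ti_38 at h
  rcases brec_true h with h | h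
  · exact lF_good (T := T) (x := Lt.ti) hM0 [Lt.c, Lt.a, Lt.t, Lt.c, Lt.t, Lt.a, Lt.ti, Lt.ci] (hat (rf_15 hy) 7 rfl) h
  · exact lF_good (T := T) (x := Lt.ti) hM0 [Lt.ai, Lt.t, Lt.bi, Lt.ti, Lt.ti, Lt.b, Lt.ti, Lt.a] (hat (rb_16 hy) 1 rfl) h
theorem dp_ti_39_s (hy : Hy g H)
    (j u : ℕ) (hu : u < M) (h : dp_ti_39 j u = true) : Gd g H Lt.ti u := by
  unfold dp_ti_39 at h
  rcases brec_true h with h | h
  · exact dp_ti_37_s hy j u hu h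
  · exact dp_ti_38_s hy j u hu h
theorem dp_ti_40_s (hy : Hy g H)
    (j u : ℕ) (hu : u < M) (h : dp_ti_40 j u = true) : Gd g H Lt.ti u := by
  unfold dp_ti_40 at h
  rcases brec_true h with h | h
  · exact lS_good (T := T) (x := Lt.ti) hM0 hu [Lt.ci, Lt.ti, Lt.b, Lt.t, Lt.c, Lt.t, Lt.c, Lt.b] (hat (rf_10 hy) 1 rfl) h
  · exact lF_good (T := T) (x := Lt.ti) hM0 [Lt.b, Lt.c, Lt.t, Lt.c, Lt.t, Lt.b, Lt.ti, Lt.ci] (hat (rf_14 hy) 7 rfl) h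
theorem dp_ti_41_s (hy : Hy g H)
    (j u : ℕ) (hu : u < M) (h : dp_ti_41 j u = true) : Gd g H Lt.ti u := by
  unfold dp_ti_41 at h
  rcases brec_true h with h | h
  · exact lS_good (T := T) (x := Lt.ti) hM0 hu [Lt.ci, Lt.t, Lt.t, Lt.c, Lt.c, Lt.ti, Lt.ti, Lt.c] (hat (rf_17 hy) 4 rfl) h
  · exact lS_good (T := T) (x := Lt.ti) hM0 hu [Lt.bi, Lt.ci, Lt.t, Lt.c, Lt.t, Lt.bi, Lt.ti, Lt.ci] (hat (rb_13 hy) 0 rfl) h
theorem dp_ti_42_s (hy : Hy g H)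
    (j u : ℕ) (hu : u < M) (h : dp_ti_42 j u = true) : Gd g H Lt.ti u := by
  unfold dp_ti_42 at h
  rcases brec_true h with h | h
  · exact dp_ti_40_s hy j u hu h
  · exact dp_ti_41_s hy j u hu h
theorem dp_ti_43_s (hy : Hy g H)
    (j u : ℕ) (hu : u < M) (h : dp_ti_43 j u = true) : Gd g H Lt.ti u := by
  unfold dp_ti_43 at h
  rcases brec_true h with h | h
  · exact dp_ti_39_s hy j u hu h
  · exact dp_ti_42_s hy j u hu h
theorem dp_ti_44_s (hy : Hy g H)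
    (j u : ℕ) (hu : u < M) (h : dp_ti_44 j u = true) : Gd g H Lt.ti u := by
  unfold dp_ti_44 at h
  rcases brec_true h with h | h
  · exact dp_ti_36_s hy j u hu h
  · exact dp_ti_43_s hy j u hu h
theorem dp_ti_45_s (hy : Hy g H)
    (j u : ℕ) (hu : u < M) (h : dp_ti_45 j u = true) : Gd g H Lt.ti u := by
  unfold dp_ti_45 at h
  rcases brec_true h with h | h
  · exact lF_good (T := T) (x := Lt.ti) hM0 [Lt.ci, Lt.ti, Lt.b, Lt.t, Lt.c, Lt.t, Lt.c, Lt.b] (hat (rf_10 hy) 1 rfl) h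
  · exact lF_good (T := T) (x := Lt.ti) hM0 [Lt.ti, Lt.c, Lt.ti, Lt.ci, Lt.t, Lt.t, Lt.c, Lt.c] (hat (rf_17 hy) 1 rfl) h
theorem dp_ti_46_s (hy : Hy g H)
    (j u : ℕ) (hu : u < M) (h : dp_ti_46 j u = true) : Gd g H Lt.ti u := by
  unfold dp_ti_46 at h
  rcases brec_true h with h | h
  · exact lF_good (T := T) (x := Lt.ti) hM0 [Lt.a, Lt.t, Lt.c, Lt.t, Lt.c, Lt.a, Lt.ti, Lt.ci] (hat (rf_11 hy) 3 rfl) h
  · exact lS_good (T := T) (x := Lt.ti) hM0 hu [Lt.b, Lt.t, Lt.c, Lt.t, Lt.c, Lt.b, Lt.ti, Lt.ci] (hat (rf_10 hy) 3 rfl) h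
theorem dp_ti_47_s (hy : Hy g H)
    (j u : ℕ) (hu : u < M) (h : dp_ti_47 j u = true) : Gd g H Lt.ti u := by
  unfold dp_ti_47 at h
  rcases brec_true h with h | h
  · exact lF_good (T := T) (x := Lt.ti) hM0 [Lt.c, Lt.b, Lt.t, Lt.c, Lt.t, Lt.b, Lt.ti, Lt.ci] (hat (rf_13 hy) 7 rfl) h
  · exact dp_ti_46_s hy j u hu h
theorem dp_ti_48_s (hy : Hy g H)
    (j u : ℕ) (hu : u < M) (h : dp_ti_48 j u = true) : Gd g H Lt.ti u := by
  unfold dp_ti_48 at h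
  rcases brec_true h with h | h
  · exact dp_ti_45_s hy j u hu h
  · exact dp_ti_47_s hy j u hu h
theorem dp_ti_49_s (hy : Hy g H)
    (j u : ℕ) (hu : u < M) (h : dp_ti_49 j u = true) : Gd g H Lt.ti u := by
  unfold dp_ti_49 at h
  rcases brec_true h with h | h
  · exact lS_good (T := T) (x := Lt.ti) hM0 hu [Lt.ci, Lt.bi, Lt.t, Lt.c, Lt.t, Lt.bi, Lt.ti, Lt.ci] (hat (rb_14 hy) 0 rfl) h
  · exact lS_good (T := T) (x := Lt.ti) hM0 hu [Lt.ai, Lt.ci, Lt.t, Lt.c, Lt.t, Lt.ai, Lt.ti, Lt.ci] (hat (rb_15 hy) 0 rfl) h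
theorem dp_ti_50_s (hy : Hy g H)
    (j u : ℕ) (hu : u < M) (h : dp_ti_50 j u = true) : Gd g H Lt.ti u := by
  unfold dp_ti_50 at h
  rcases brec_true h with h | h
  · exact lF_good (T := T) (x := Lt.ti) hM0 [Lt.b, Lt.t, Lt.c, Lt.t, Lt.c, Lt.b, Lt.ti, Lt.ci] (hat (rf_10 hy) 3 rfl) h
  · exact dp_ti_49_s hy j u hu h
theorem dp_ti_51_s (hy : Hy g H)
    (j u : ℕ) (hu : u < M) (h : dp_ti_51 j u = true) : Gd g H Lt.ti u := by
  unfold dp_ti_51 at h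
  rcases brec_true h with h | h
  · exact lF_good (T := T) (x := Lt.ti) hM0 [Lt.zi, Lt.b, Lt.ti, Lt.b, Lt.ti, Lt.b, Lt.ti, Lt.b] (hat (rf_12 hy) 8 rfl) h
  · exact lS_good (T := T) (x := Lt.ti) hM0 hu [Lt.zi, Lt.b, Lt.ti, Lt.b, Lt.ti, Lt.b, Lt.ti, Lt.b] (hat (rf_12 hy) 8 rfl) h
theorem dp_ti_52_s (hy : Hy g H)
    (j u : ℕ) (hu : u < M) (h : dp_ti_52 j u = true) : Gd g H Lt.ti u := by
  unfold dp_ti_52 at h
  rcases brec_true h with h | h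
  · exact lS_good (T := T) (x := Lt.ti) hM0 hu [Lt.b, Lt.ti, Lt.b, Lt.ti, Lt.b, Lt.ti, Lt.zi, Lt.b] (hat (rf_12 hy) 2 rfl) h
  · exact dp_ti_51_s hy j u hu h
theorem dp_ti_53_s (hy : Hy g H)
    (j u : ℕ) (hu : u < M) (h : dp_ti_53 j u = true) : Gd g H Lt.ti u := by
  unfold dp_ti_53 at h
  rcases brec_true h with h | h
  · exact dp_ti_50_s hy j u hu h
  · exact dp_ti_52_s hy j u hu h
theorem dp_ti_54_s (hy : Hy g H)
    (j u : ℕ) (hu : u < M) (h : dp_ti_54 j u = true) : Gd g H Lt.ti u := by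
  unfold dp_ti_54 at h
  rcases brec_true h with h | h
  · exact dp_ti_48_s hy j u hu h
  · exact dp_ti_53_s hy j u hu h
theorem dp_ti_55_s (hy : Hy g H)
    (j u : ℕ) (hu : u < M) (h : dp_ti_55 j u = true) : Gd g H Lt.ti u := by
  unfold dp_ti_55 at h
  rcases brec_true h with h | h
  · exact lS_good (T := T) (x := Lt.ti) hM0 hu [Lt.bi, Lt.t, Lt.c, Lt.t, Lt.bi, Lt.ci, Lt.ti, Lt.ci] (hat (rb_10 hy) 5 rfl) h
  · exact lF_good (T := T) (x := Lt.ti) hM0 [Lt.bi, Lt.t, Lt.c, Lt.t, Lt.bi, Lt.ci, Lt.ti, Lt.ci] (hat (rb_10 hy) 5 rfl) h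
theorem dp_ti_56_s (hy : Hy g H)
    (j u : ℕ) (hu : u < M) (h : dp_ti_56 j u = true) : Gd g H Lt.ti u := by
  unfold dp_ti_56 at h
  rcases brec_true h with h | h
  · exact lF_good (T := T) (x := Lt.ti) hM0 [Lt.ci, Lt.ti, Lt.ai, Lt.t, Lt.c, Lt.t, Lt.ai, Lt.ci] (hat (rb_11 hy) 3 rfl) h
  · exact dp_ti_55_s hy j u hu h
theorem dp_ti_57_s (hy : Hy g H)
    (j u : ℕ) (hu : u < M) (h : dp_ti_57 j u = true) : Gd g H Lt.ti u := by
  unfold dp_ti_57 at h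
  rcases brec_true h with h | h
  · exact lF_good (T := T) (x := Lt.ti) hM0 [Lt.ti, Lt.b, Lt.ti, Lt.a, Lt.ti, Lt.ai, Lt.t, Lt.bi] (hat (rb_16 hy) 5 rfl) h
  · exact lS_good (T := T) (x := Lt.ti) hM0 hu [Lt.c, Lt.c, Lt.ti, Lt.ti, Lt.ci, Lt.ci, Lt.t, Lt.c] (hat (rb_9 hy) 7 rfl) h
theorem dp_ti_58_s (hy : Hy g H)
    (j u : ℕ) (hu : u < M) (h : dp_ti_58 j u = true) : Gd g H Lt.ti u := by
  unfold dp_ti_58 at h
  rcases brec_true h with h | h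
  · exact lF_good (T := T) (x := Lt.ti) hM0 [Lt.ci, Lt.ti, Lt.bi, Lt.ci, Lt.t, Lt.c, Lt.t, Lt.bi] (hat (rb_13 hy) 7 rfl) h
  · exact dp_ti_57_s hy j u hu h
theorem dp_ti_59_s (hy : Hy g H)
    (j u : ℕ) (hu : u < M) (h : dp_ti_59 j u = true) : Gd g H Lt.ti u := by
  unfold dp_ti_59 at h
  rcases brec_true h with h | h
  · exact dp_ti_56_s hy j u hu h
  · exact dp_ti_58_s hy j u hu h
theorem dp_ti_60_s (hy : Hy g H)
    (j u : ℕ) (hu : u < M) (h : dp_ti_60 j u = true) : Gd g H Lt.ti u := by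
  unfold dp_ti_60 at h
  rcases brec_true h with h | h
  · exact lS_good (T := T) (x := Lt.ti) hM0 hu [Lt.ci, Lt.ti, Lt.ai, Lt.t, Lt.c, Lt.t, Lt.ai, Lt.ci] (hat (rb_11 hy) 3 rfl) h
  · exact lS_good (T := T) (x := Lt.ti) hM0 hu [Lt.b, Lt.c, Lt.t, Lt.c, Lt.t, Lt.b, Lt.ti, Lt.ci] (hat (rf_14 hy) 7 rfl) h
theorem dp_ti_61_s (hy : Hy g H)
    (j u : ℕ) (hu : u < M) (h : dp_ti_61 j u = true) : Gd g H Lt.ti u := by
  unfold dp_ti_61 at h
  rcases brec_true h with h | h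
  · exact lS_good (T := T) (x := Lt.ti) hM0 hu [Lt.z, Lt.t, Lt.zi] (hat (rf_0 hy) 0 rfl) h
  · exact lF_good (T := T) (x := Lt.ti) hM0 [Lt.ci, Lt.ti, Lt.b, Lt.c, Lt.t, Lt.c, Lt.t, Lt.b] (hat (rf_14 hy) 5 rfl) h
theorem dp_ti_62_s (hy : Hy g H)
    (j u : ℕ) (hu : u < M) (h : dp_ti_62 j u = true) : Gd g H Lt.ti u := by
  unfold dp_ti_62 at h
  rcases brec_true h with h | h
  · exact lF_good (T := T) (x := Lt.ti) hM0 [Lt.b, Lt.ti, Lt.b, Lt.ti, Lt.zi, Lt.b, Lt.ti, Lt.b] (hat (rf_12 hy) 4 rfl) h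
  · exact dp_ti_61_s hy j u hu h
theorem dp_ti_63_s (hy : Hy g H)
    (j u : ℕ) (hu : u < M) (h : dp_ti_63 j u = true) : Gd g H Lt.ti u := by
  unfold dp_ti_63 at h
  rcases brec_true h with h | h
  · exact dp_ti_60_s hy j u hu h
  · exact dp_ti_62_s hy j u hu h
theorem dp_ti_64_s (hy : Hy g H)
    (j u : ℕ) (hu : u < M) (h : dp_ti_64 j u = true) : Gd g H Lt.ti u := by
  unfold dp_ti_64 at h
  rcases brec_true h with h | h
  · exact lF_good (T := T) (x := Lt.ti) hM0 [Lt.b, Lt.ti, Lt.zi, Lt.b, Lt.ti, Lt.b, Lt.ti, Lt.b] (hat (rf_12 hy) 6 rfl) h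
  · exact lF_good (T := T) (x := Lt.ti) hM0 [Lt.ci, Lt.ti, Lt.ai, Lt.ci, Lt.t, Lt.c, Lt.t, Lt.ai] (hat (rb_15 hy) 7 rfl) h
theorem dp_ti_65_s (hy : Hy g H)
    (j u : ℕ) (hu : u < M) (h : dp_ti_65 j u = true) : Gd g H Lt.ti u := by
  unfold dp_ti_65 at h
  rcases brec_true h with h | h
  · exact lF_good (T := T) (x := Lt.ti) hM0 [Lt.a, Lt.t, Lt.ai, Lt.t, Lt.bi, Lt.t, Lt.t, Lt.b] (hat (rf_16 hy) 7 rfl) h
  · exact dp_ti_64_s hy j u hu h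
theorem dp_ti_66_s (hy : Hy g H)
    (j u : ℕ) (hu : u < M) (h : dp_ti_66 j u = true) : Gd g H Lt.ti u := by
  unfold dp_ti_66 at h
  rcases brec_true h with h | h
  · exact lF_good (T := T) (x := Lt.ti) hM0 [Lt.ci, Lt.ti, Lt.c, Lt.a, Lt.t, Lt.c, Lt.t, Lt.a] (hat (rf_15 hy) 5 rfl) h
  · exact lF_good (T := T) (x := Lt.ti) hM0 [Lt.ti, Lt.c, Lt.t, Lt.ci, Lt.t, Lt.t, Lt.ci, Lt.ci] (hat (rb_17 hy) 3 rfl) h
theorem dp_ti_67_s (hy : Hy g H)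
    (j u : ℕ) (hu : u < M) (h : dp_ti_67 j u = true) : Gd g H Lt.ti u := by
  unfold dp_ti_67 at h
  rcases brec_true h with h | h
  · exact lS_good (T := T) (x := Lt.ti) hM0 hu [Lt.ci, Lt.ti, Lt.b, Lt.c, Lt.t, Lt.c, Lt.t, Lt.b] (hat (rf_14 hy) 5 rfl) h
  · exact dp_ti_66_s hy j u hu h
theorem dp_ti_68_s (hy : Hy g H)
    (j u : ℕ) (hu : u < M) (h : dp_ti_68 j u = true) : Gd g H Lt.ti u := by
  unfold dp_ti_68 at h
  rcases brec_true h with h | h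
  · exact dp_ti_65_s hy j u hu h
  · exact dp_ti_67_s hy j u hu h
theorem dp_ti_69_s (hy : Hy g H)
    (j u : ℕ) (hu : u < M) (h : dp_ti_69 j u = true) : Gd g H Lt.ti u := by
  unfold dp_ti_69 at h
  rcases brec_true h with h | h
  · exact dp_ti_63_s hy j u hu h
  · exact dp_ti_68_s hy j u hu h
theorem dp_ti_70_s (hy : Hy g H)
    (j u : ℕ) (hu : u < M) (h : dp_ti_70 j u = true) : Gd g H Lt.ti u := by
  unfold dp_ti_70 at h
  rcases brec_true h with h | h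
  · exact dp_ti_59_s hy j u hu h
  · exact dp_ti_69_s hy j u hu h
theorem dp_ti_71_s (hy : Hy g H)
    (j u : ℕ) (hu : u < M) (h : dp_ti_71 j u = true) : Gd g H Lt.ti u := by
  unfold dp_ti_71 at h
  rcases brec_true h with h | h
  · exact dp_ti_54_s hy j u hu h
  · exact dp_ti_70_s hy j u hu h
theorem dp_ti_72_s (hy : Hy g H)
    (j u : ℕ) (hu : u < M) (h : dp_ti_72 j u = true) : Gd g H Lt.ti u := by
  unfold dp_ti_72 at h
  rcases brec_true h with h | h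
  · exact dp_ti_44_s hy j u hu h
  · exact dp_ti_71_s hy j u hu h
theorem dp_ti_73_s (hy : Hy g H)
    (j u : ℕ) (hu : u < M) (h : dp_ti_73 j u = true) : Gd g H Lt.ti u := by
  unfold dp_ti_73 at h
  rcases brec_true h with h | h
  · exact dp_ti_31_s hy j u hu h
  · exact dp_ti_72_s hy j u hu h
theorem dp_ti_74_s (hy : Hy g H)
    (j u : ℕ) (hu : u < M) (h : dp_ti_74 j u = true) : Gd g H Lt.ti u := by
  unfold dp_ti_74 at h
  rcases brec_true h with h | h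
  · exact dp_ti_13_s hy j u hu h
  · exact dp_ti_73_s hy j u hu h
theorem snd_ti (hy : Hy g H)
    (j u : ℕ) (hu : u < M) (h : disp_ti j u = true) : Gd g H Lt.ti u := by
  unfold disp_ti at h
  rcases brec_true h with h | h
  · rcases brec_true h with h | h
    · exact lF1_good (T := T) (x := Lt.ti) hM0 .t (hat (rf_24 hy) 0 rfl) h
    · exact lPar_good (T := T) (x := Lt.ti) (x' := Lt.t) (by decide) rfl (ivt hy _ _ rfl) h
  · rcases brec_true h with h | h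
    · rcases brec_true h with h | h
      · exact lDef_good (T := T) (x := Lt.ti) (by decide) rfl h
      · exact lS_good (T := T) (x := Lt.ti) hM0 hu [Lt.t] (hat (rf_24 hy) 0 rfl) h
    · exact dp_ti_74_s hy j u hu h
theorem snc_ti (hy : Hy g H)
    (j u : ℕ) (hu : u < M) (h : chk_ti j u = true) : (T Lt.ti u < A ∧ Gd g H Lt.ti u) ∨ (A ≤ T Lt.ti u ∧ MG u < A) := by
  unfold chk_ti at h
  cases hb : Nat.ble A (T_ti u) with
  | true => rw [hb] at h; exact Or.inr ⟨le_of_ble hb, le_of_ble h⟩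
  | false => rw [hb] at h; exact Or.inl ⟨lt_of_ble_false hb, snd_ti hy j u hu h⟩
theorem dp_z_0_s (hy : Hy g H)
    (j u : ℕ) (hu : u < M) (h : dp_z_0 j u = true) : Gd g H Lt.z u := by
  unfold dp_z_0 at h
  rcases brec_true h with h | h
  · exact lS_good (T := T) (x := Lt.z) hM0 hu [Lt.t, Lt.zi, Lt.ti] (hat (rf_0 hy) 1 rfl) h
  · exact lS_good (T := T) (x := Lt.z) hM0 hu [Lt.a, Lt.zi, Lt.ai] (hat (rf_2 hy) 1 rfl) h
theorem dp_z_1_s (hy : Hy g H)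
    (j u : ℕ) (hu : u < M) (h : dp_z_1 j u = true) : Gd g H Lt.z u := by
  unfold dp_z_1 at h
  rcases brec_true h with h | h
  · exact lS_good (T := T) (x := Lt.z) hM0 hu [Lt.ai, Lt.zi, Lt.a] (hat (rb_2 hy) 2 rfl) h
  · exact lS_good (T := T) (x := Lt.z) hM0 hu [Lt.ti, Lt.zi, Lt.t] (hat (rb_0 hy) 2 rfl) h
theorem dp_z_2_s (hy : Hy g H)
    (j u : ℕ) (hu : u < M) (h : dp_z_2 j u = true) : Gd g H Lt.z u := by
  unfold dp_z_2 at h
  rcases brec_true h with h | h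
  · exact lS_good (T := T) (x := Lt.z) hM0 hu [Lt.b, Lt.zi, Lt.bi] (hat (rf_1 hy) 1 rfl) h
  · exact lF3_good (T := T) (x := Lt.z) hM0 .z .z .z (hat (rf_4 hy) 0 rfl) h
theorem dp_z_3_s (hy : Hy g H)
    (j u : ℕ) (hu : u < M) (h : dp_z_3 j u = true) : Gd g H Lt.z u := by
  unfold dp_z_3 at h
  rcases brec_true h with h | h
  · exact lS_good (T := T) (x := Lt.z) hM0 hu [Lt.bi, Lt.zi, Lt.b] (hat (rb_1 hy) 2 rfl) h
  · exact dp_z_2_s hy j u hu h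
theorem dp_z_4_s (hy : Hy g H)
    (j u : ℕ) (hu : u < M) (h : dp_z_4 j u = true) : Gd g H Lt.z u := by
  unfold dp_z_4 at h
  rcases brec_true h with h | h
  · exact lS_good (T := T) (x := Lt.z) hM0 hu [Lt.c, Lt.zi, Lt.ci] (hat (rf_3 hy) 1 rfl) h
  · exact lS_good (T := T) (x := Lt.z) hM0 hu [Lt.zi] (hat (rf_26 hy) 1 rfl) h
theorem dp_z_5_s (hy : Hy g H)
    (j u : ℕ) (hu : u < M) (h : dp_z_5 j u = true) : Gd g H Lt.z u := by
  unfold dp_z_5 at h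
  rcases brec_true h with h | h
  · exact lF3_good (T := T) (x := Lt.z) hM0 .ai .zi .a (hat (rb_2 hy) 2 rfl) h
  · exact lF3_good (T := T) (x := Lt.z) hM0 .t .zi .ti (hat (rf_0 hy) 1 rfl) h
theorem dp_z_6_s (hy : Hy g H)
    (j u : ℕ) (hu : u < M) (h : dp_z_6 j u = true) : Gd g H Lt.z u := by
  unfold dp_z_6 at h
  rcases brec_true h with h | h
  · exact dp_z_4_s hy j u hu h
  · exact dp_z_5_s hy j u hu h
theorem dp_z_7_s (hy : Hy g H)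
    (j u : ℕ) (hu : u < M) (h : dp_z_7 j u = true) : Gd g H Lt.z u := by
  unfold dp_z_7 at h
  rcases brec_true h with h | h
  · exact lF3_good (T := T) (x := Lt.z) hM0 .b .zi .bi (hat (rf_1 hy) 1 rfl) h
  · exact lF3_good (T := T) (x := Lt.z) hM0 .ti .zi .t (hat (rb_0 hy) 2 rfl) h
theorem dp_z_8_s (hy : Hy g H)
    (j u : ℕ) (hu : u < M) (h : dp_z_8 j u = true) : Gd g H Lt.z u := by
  unfold dp_z_8 at h
  rcases brec_true h with h | h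
  · exact lS_good (T := T) (x := Lt.z) hM0 hu [Lt.ci, Lt.zi, Lt.c] (hat (rb_3 hy) 2 rfl) h
  · exact dp_z_7_s hy j u hu h
theorem dp_z_9_s (hy : Hy g H)
    (j u : ℕ) (hu : u < M) (h : dp_z_9 j u = true) : Gd g H Lt.z u := by
  unfold dp_z_9 at h
  rcases brec_true h with h | h
  · exact lF3_good (T := T) (x := Lt.z) hM0 .a .zi .ai (hat (rf_2 hy) 1 rfl) h
  · exact lF3_good (T := T) (x := Lt.z) hM0 .c .zi .ci (hat (rf_3 hy) 1 rfl) h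
theorem dp_z_10_s (hy : Hy g H)
    (j u : ℕ) (hu : u < M) (h : dp_z_10 j u = true) : Gd g H Lt.z u := by
  unfold dp_z_10 at h
  rcases brec_true h with h | h
  · exact lF3_good (T := T) (x := Lt.z) hM0 .ci .zi .c (hat (rb_3 hy) 2 rfl) h
  · exact lS_good (T := T) (x := Lt.z) hM0 hu [Lt.z, Lt.z, Lt.z] (hat (rf_4 hy) 0 rfl) h
theorem dp_z_11_s (hy : Hy g H)
    (j u : ℕ) (hu : u < M) (h : dp_z_11 j u = true) : Gd g H Lt.z u := by
  unfold dp_z_11 at h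
  rcases brec_true h with h | h
  · exact lF3_good (T := T) (x := Lt.z) hM0 .bi .zi .b (hat (rb_1 hy) 2 rfl) h
  · exact dp_z_10_s hy j u hu h
theorem dp_z_12_s (hy : Hy g H)
    (j u : ℕ) (hu : u < M) (h : dp_z_12 j u = true) : Gd g H Lt.z u := by
  unfold dp_z_12 at h
  rcases brec_true h with h | h
  · exact dp_z_9_s hy j u hu h
  · exact dp_z_11_s hy j u hu h
theorem dp_z_13_s (hy : Hy g H)
    (j u : ℕ) (hu : u < M) (h : dp_z_13 j u = true) : Gd g H Lt.z u := by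
  unfold dp_z_13 at h
  rcases brec_true h with h | h
  · exact dp_z_8_s hy j u hu h
  · exact dp_z_12_s hy j u hu h
theorem dp_z_14_s (hy : Hy g H)
    (j u : ℕ) (hu : u < M) (h : dp_z_14 j u = true) : Gd g H Lt.z u := by
  unfold dp_z_14 at h
  rcases brec_true h with h | h
  · exact dp_z_6_s hy j u hu h
  · exact dp_z_13_s hy j u hu h
theorem dp_z_15_s (hy : Hy g H)
    (j u : ℕ) (hu : u < M) (h : dp_z_15 j u = true) : Gd g H Lt.z u := by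
  unfold dp_z_15 at h
  rcases brec_true h with h | h
  · rcases brec_true h with h | h
    · exact dp_z_1_s hy j u hu h
    · exact dp_z_3_s hy j u hu h
  · exact dp_z_14_s hy j u hu h
theorem snd_z (hy : Hy g H)
    (j u : ℕ) (hu : u < M) (h : disp_z j u = true) : Gd g H Lt.z u := by
  unfold disp_z at h
  rcases brec_true h with h | h
  · rcases brec_true h with h | h
    · exact lDef_good (T := T) (x := Lt.z) (by decide) rfl h
    · exact lF1_good (T := T) (x := Lt.z) hM0 .zi (hat (rf_26 hy) 1 rfl) h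
  · rcases brec_true h with h | h
    · rcases brec_true h with h | h
      · exact lPar_good (T := T) (x := Lt.z) (x' := Lt.zi) (by decide) rfl (ivt hy _ _ rfl) h
      · exact dp_z_0_s hy j u hu h
    · exact dp_z_15_s hy j u hu h
theorem snc_z (hy : Hy g H)
    (j u : ℕ) (hu : u < M) (h : chk_z j u = true) : (T Lt.z u < A ∧ Gd g H Lt.z u) ∨ (A ≤ T Lt.z u ∧ MG u < A) := by
  unfold chk_z at h
  cases hb : Nat.ble A (T_z u) with
  | true => rw [hb] at h; exact Or.inr ⟨le_of_ble hb, le_of_ble h⟩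
  | false => rw [hb] at h; exact Or.inl ⟨lt_of_ble_false hb, snd_z hy j u hu h⟩
theorem dp_zi_0_s (hy : Hy g H)
    (j u : ℕ) (hu : u < M) (h : dp_zi_0 j u = true) : Gd g H Lt.zi u := by
  unfold dp_zi_0 at h
  rcases brec_true h with h | h
  · exact lS_good (T := T) (x := Lt.zi) hM0 hu [Lt.ai, Lt.z, Lt.a] (hat (rf_2 hy) 3 rfl) h
  · exact lS_good (T := T) (x := Lt.zi) hM0 hu [Lt.z] (hat (rf_26 hy) 0 rfl) h
theorem dp_zi_1_s (hy : Hy g H)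
    (j u : ℕ) (hu : u < M) (h : dp_zi_1 j u = true) : Gd g H Lt.zi u := by
  unfold dp_zi_1 at h
  rcases brec_true h with h | h
  · exact lS_good (T := T) (x := Lt.zi) hM0 hu [Lt.t, Lt.z, Lt.ti] (hat (rb_0 hy) 0 rfl) h
  · exact dp_zi_0_s hy j u hu h
theorem dp_zi_2_s (hy : Hy g H)
    (j u : ℕ) (hu : u < M) (h : dp_zi_2 j u = true) : Gd g H Lt.zi u := by
  unfold dp_zi_2 at h
  rcases brec_true h with h | h
  · exact lS_good (T := T) (x := Lt.zi) hM0 hu [Lt.a, Lt.z, Lt.ai] (hat (rb_2 hy) 0 rfl) h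
  · exact lF3_good (T := T) (x := Lt.zi) hM0 .t .z .ti (hat (rb_0 hy) 0 rfl) h
theorem dp_zi_3_s (hy : Hy g H)
    (j u : ℕ) (hu : u < M) (h : dp_zi_3 j u = true) : Gd g H Lt.zi u := by
  unfold dp_zi_3 at h
  rcases brec_true h with h | h
  · exact lS_good (T := T) (x := Lt.zi) hM0 hu [Lt.b, Lt.z, Lt.bi] (hat (rb_1 hy) 0 rfl) h
  · exact dp_zi_2_s hy j u hu h
theorem dp_zi_4_s (hy : Hy g H)
    (j u : ℕ) (hu : u < M) (h : dp_zi_4 j u = true) : Gd g H Lt.zi u := by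
  unfold dp_zi_4 at h
  rcases brec_true h with h | h
  · exact dp_zi_1_s hy j u hu h
  · exact dp_zi_3_s hy j u hu h
theorem dp_zi_5_s (hy : Hy g H)
    (j u : ℕ) (hu : u < M) (h : dp_zi_5 j u = true) : Gd g H Lt.zi u := by
  unfold dp_zi_5 at h
  rcases brec_true h with h | h
  · exact lF3_good (T := T) (x := Lt.zi) hM0 .ti .z .t (hat (rf_0 hy) 3 rfl) h
  · exact lS_good (T := T) (x := Lt.zi) hM0 hu [Lt.bi, Lt.z, Lt.b] (hat (rf_1 hy) 3 rfl) h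
theorem dp_zi_6_s (hy : Hy g H)
    (j u : ℕ) (hu : u < M) (h : dp_zi_6 j u = true) : Gd g H Lt.zi u := by
  unfold dp_zi_6 at h
  rcases brec_true h with h | h
  · exact lF3_good (T := T) (x := Lt.zi) hM0 .a .z .ai (hat (rb_2 hy) 0 rfl) h
  · exact lF3_good (T := T) (x := Lt.zi) hM0 .ai .z .a (hat (rf_2 hy) 3 rfl) h
theorem dp_zi_7_s (hy : Hy g H)
    (j u : ℕ) (hu : u < M) (h : dp_zi_7 j u = true) : Gd g H Lt.zi u := by
  unfold dp_zi_7 at h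
  rcases brec_true h with h | h
  · exact dp_zi_5_s hy j u hu h
  · exact dp_zi_6_s hy j u hu h
theorem dp_zi_8_s (hy : Hy g H)
    (j u : ℕ) (hu : u < M) (h : dp_zi_8 j u = true) : Gd g H Lt.zi u := by
  unfold dp_zi_8 at h
  rcases brec_true h with h | h
  · exact lF3_good (T := T) (x := Lt.zi) hM0 .ci .z .c (hat (rf_3 hy) 3 rfl) h
  · exact lS_good (T := T) (x := Lt.zi) hM0 hu [Lt.c, Lt.z, Lt.ci] (hat (rb_3 hy) 0 rfl) h
theorem dp_zi_9_s (hy : Hy g H)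
    (j u : ℕ) (hu : u < M) (h : dp_zi_9 j u = true) : Gd g H Lt.zi u := by
  unfold dp_zi_9 at h
  rcases brec_true h with h | h
  · exact lF3_good (T := T) (x := Lt.zi) hM0 .b .z .bi (hat (rb_1 hy) 0 rfl) h
  · exact dp_zi_8_s hy j u hu h
theorem dp_zi_10_s (hy : Hy g H)
    (j u : ℕ) (hu : u < M) (h : dp_zi_10 j u = true) : Gd g H Lt.zi u := by
  unfold dp_zi_10 at h
  rcases brec_true h with h | h
  · exact lF3_good (T := T) (x := Lt.zi) hM0 .c .z .ci (hat (rb_3 hy) 0 rfl) h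
  · exact lF3_good (T := T) (x := Lt.zi) hM0 .bi .z .b (hat (rf_1 hy) 3 rfl) h
theorem dp_zi_11_s (hy : Hy g H)
    (j u : ℕ) (hu : u < M) (h : dp_zi_11 j u = true) : Gd g H Lt.zi u := by
  unfold dp_zi_11 at h
  rcases brec_true h with h | h
  · exact lS_good (T := T) (x := Lt.zi) hM0 hu [Lt.b, Lt.ti, Lt.b, Lt.ti, Lt.b, Lt.ti, Lt.b, Lt.ti] (hat (rf_12 hy) 0 rfl) h
  · exact lF_good (T := T) (x := Lt.zi) hM0 [Lt.b, Lt.ti, Lt.b, Lt.ti, Lt.b, Lt.ti, Lt.b, Lt.ti] (hat (rf_12 hy) 0 rfl) h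
theorem dp_zi_12_s (hy : Hy g H)
    (j u : ℕ) (hu : u < M) (h : dp_zi_12 j u = true) : Gd g H Lt.zi u := by
  unfold dp_zi_12 at h
  rcases brec_true h with h | h
  · exact lF3_good (T := T) (x := Lt.zi) hM0 .zi .zi .zi (hat (rb_4 hy) 0 rfl) h
  · exact dp_zi_11_s hy j u hu h
theorem dp_zi_13_s (hy : Hy g H)
    (j u : ℕ) (hu : u < M) (h : dp_zi_13 j u = true) : Gd g H Lt.zi u := by
  unfold dp_zi_13 at h
  rcases brec_true h with h | h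
  · exact lS_good (T := T) (x := Lt.zi) hM0 hu [Lt.ci, Lt.z, Lt.c] (hat (rf_3 hy) 3 rfl) h
  · exact dp_zi_12_s hy j u hu h
theorem dp_zi_14_s (hy : Hy g H)
    (j u : ℕ) (hu : u < M) (h : dp_zi_14 j u = true) : Gd g H Lt.zi u := by
  unfold dp_zi_14 at h
  rcases brec_true h with h | h
  · exact dp_zi_10_s hy j u hu h
  · exact dp_zi_13_s hy j u hu h
theorem dp_zi_15_s (hy : Hy g H)
    (j u : ℕ) (hu : u < M) (h : dp_zi_15 j u = true) : Gd g H Lt.zi u := by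
  unfold dp_zi_15 at h
  rcases brec_true h with h | h
  · exact dp_zi_9_s hy j u hu h
  · exact dp_zi_14_s hy j u hu h
theorem dp_zi_16_s (hy : Hy g H)
    (j u : ℕ) (hu : u < M) (h : dp_zi_16 j u = true) : Gd g H Lt.zi u := by
  unfold dp_zi_16 at h
  rcases brec_true h with h | h
  · exact dp_zi_7_s hy j u hu h
  · exact dp_zi_15_s hy j u hu h
theorem dp_zi_17_s (hy : Hy g H)
    (j u : ℕ) (hu : u < M) (h : dp_zi_17 j u = true) : Gd g H Lt.zi u := by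
  unfold dp_zi_17 at h
  rcases brec_true h with h | h
  · exact dp_zi_4_s hy j u hu h
  · exact dp_zi_16_s hy j u hu h
theorem dp_zi_18_s (hy : Hy g H)
    (j u : ℕ) (hu : u < M) (h : dp_zi_18 j u = true) : Gd g H Lt.zi u := by
  unfold dp_zi_18 at h
  rcases brec_true h with h | h
  · rcases brec_true h with h | h
    · exact lDef_good (T := T) (x := Lt.zi) (by decide) rfl h
    · exact lS_good (T := T) (x := Lt.zi) hM0 hu [Lt.ti, Lt.z, Lt.t] (hat (rf_0 hy) 3 rfl) h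
  · exact dp_zi_17_s hy j u hu h
theorem snd_zi (hy : Hy g H)
    (j u : ℕ) (hu : u < M) (h : disp_zi j u = true) : Gd g H Lt.zi u := by
  unfold disp_zi at h
  rcases brec_true h with h | h
  · rcases brec_true h with h | h
    · exact lF1_good (T := T) (x := Lt.zi) hM0 .z (hat (rf_26 hy) 0 rfl) h
    · exact lPar_good (T := T) (x := Lt.zi) (x' := Lt.z) (by decide) rfl (ivt hy _ _ rfl) h
  · exact dp_zi_18_s hy j u hu h
theorem snc_zi (hy : Hy g H)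
    (j u : ℕ) (hu : u < M) (h : chk_zi j u = true) : (T Lt.zi u < A ∧ Gd g H Lt.zi u) ∨ (A ≤ T Lt.zi u ∧ MG u < A) := by
  unfold chk_zi at h
  cases hb : Nat.ble A (T_zi u) with
  | true => rw [hb] at h; exact Or.inr ⟨le_of_ble hb, le_of_ble h⟩
  | false => rw [hb] at h; exact Or.inl ⟨lt_of_ble_false hb, snd_zi hy j u hu h⟩
theorem dM_0_s (hy : Hy g H) (j z1 z2 u : ℕ) (h : dM_0 j z1 z2 u = true) : GdM g H u := by
  unfold dM_0 at h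
  rcases brec_true h with h | h
  · rcases brec_true h with h | h
    · exact mCo_good (T := T) (y := .zi) hM0 h
    · rcases brec_true h with h | h
      · exact mCo_good (T := T) (y := .b) hM0 h
      · exact mCo_good (T := T) (y := .t) hM0 h
  · rcases brec_true h with h | h
    · exact mCo_good (T := T) (y := .bi) hM0 h
    · rcases brec_true h with h | h
      · exact mCo_good (T := T) (y := .ai) hM0 h
      · exact mCo_good (T := T) (y := .z) hM0 h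
theorem dM_1_s (hy : Hy g H) (j z1 z2 u : ℕ) (h : dM_1 j z1 z2 u = true) : GdM g H u := by
  unfold dM_1 at h
  rcases brec_true h with h | h
  · rcases brec_true h with h | h
    · exact mCo_good (T := T) (y := .a) hM0 h
    · exact mCo_good (T := T) (y := .ti) hM0 h
  · rcases brec_true h with h | h
    · exact mCo_good (T := T) (y := .ci) hM0 h
    · rcases brec_true h with h | h
      · exact mCo_good (T := T) (y := .c) hM0 h
      · rcases brec_true h with h | h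
        · rcases brec_true h with h | h
          · exact mRel_good (T := T) hM0 [Lt.c, Lt.bi, Lt.a, Lt.c] [Lt.a, Lt.bi] (pat hy (rf_8 hy) 3 rfl) h
          · rcases brec_true h with h | h
            · exact mRel_good (T := T) hM0 [Lt.ai, Lt.bi, Lt.a] [Lt.ci, Lt.ci, Lt.bi] (pat hy (rf_6 hy) 2 rfl) h
            · exact mRel_good (T := T) hM0 [Lt.c, Lt.b, Lt.ai, Lt.c] [Lt.ai, Lt.b] (pat hy (rf_8 hy) 0 rfl) h
        · rcases brec_true h with h | h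
          · rcases brec_true h with h | h
            · exact mRel_good (T := T) hM0 [Lt.ci, Lt.a, Lt.bi] [Lt.bi, Lt.a, Lt.c] (pat hy (rb_8 hy) 2 rfl) h
            · exact mRel_good (T := T) hM0 [Lt.bi, Lt.ai, Lt.ci] [Lt.c, Lt.ai, Lt.bi] (pat hy (rb_7 hy) 3 rfl) h
          · rcases brec_true h with h | h
            · exact mRel_good (T := T) hM0 [Lt.ci, Lt.ai, Lt.b, Lt.ci] [Lt.b, Lt.ai] (pat hy (rb_8 hy) 5 rfl) h
            · rcases brec_true h with h | h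
              · exact mRel_good (T := T) hM0 [Lt.ci, Lt.a, Lt.bi, Lt.ci] [Lt.bi, Lt.a] (pat hy (rb_8 hy) 2 rfl) h
              · exact mRel_good (T := T) hM0 [Lt.b, Lt.c, Lt.c] [Lt.ai, Lt.b, Lt.a] (pat hy (rf_6 hy) 5 rfl) h
theorem dM_2_s (hy : Hy g H) (j z1 z2 u : ℕ) (h : dM_2 j z1 z2 u = true) : GdM g H u := by
  unfold dM_2 at h
  rcases brec_true h with h | h
  · rcases brec_true h with h | h
    · exact mRel_good (T := T) hM0 [Lt.bi, Lt.ai, Lt.b, Lt.a] [Lt.c, Lt.c] (pat hy (rb_6 hy) 0 rfl) h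
    · rcases brec_true h with h | h
      · exact mRel_good (T := T) hM0 [Lt.b, Lt.b, Lt.b] [Lt.bi, Lt.bi] (pat hy (rf_5 hy) 0 rfl) h
      · exact mRel_good (T := T) hM0 [Lt.c, Lt.ai, Lt.bi, Lt.c] [Lt.bi, Lt.ai] (pat hy (rf_7 hy) 3 rfl) h
  · rcases brec_true h with h | h
    · exact mRel_good (T := T) hM0 [Lt.bi, Lt.a, Lt.b, Lt.c] [Lt.a, Lt.ci] (pat hy (rf_6 hy) 3 rfl) h
    · rcases brec_true h with h | h
      · exact mRel_good (T := T) hM0 [Lt.bi, Lt.c] [Lt.a, Lt.ci, Lt.bi, Lt.ai] (pat hy (rf_7 hy) 5 rfl) h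
      · exact mRel_good (T := T) hM0 [Lt.bi, Lt.ai, Lt.b, Lt.a, Lt.ci] [Lt.c] (pat hy (rb_6 hy) 0 rfl) h
theorem dM_3_s (hy : Hy g H) (j z1 z2 u : ℕ) (h : dM_3 j z1 z2 u = true) : GdM g H u := by
  unfold dM_3 at h
  rcases brec_true h with h | h
  · rcases brec_true h with h | h
    · rcases brec_true h with h | h
      · exact mRel_good (T := T) hM0 [Lt.a, Lt.ci, Lt.ci] [Lt.bi, Lt.a, Lt.b] (pat hy (rb_6 hy) 3 rfl) h
      · exact mRel_good (T := T) hM0 [Lt.ai, Lt.c, Lt.bi, Lt.a, Lt.c] [Lt.bi] (pat hy (rf_8 hy) 2 rfl) h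
    · rcases brec_true h with h | h
      · exact mRel_good (T := T) hM0 [Lt.a, Lt.c, Lt.b, Lt.ai, Lt.c] [Lt.b] (pat hy (rf_8 hy) 5 rfl) h
      · exact mRel_good (T := T) hM0 [Lt.c] [Lt.bi, Lt.ai, Lt.b, Lt.a, Lt.ci] (pat hy (rf_6 hy) 0 rfl) h
  · rcases brec_true h with h | h
    · rcases brec_true h with h | h
      · exact mRel_good (T := T) hM0 [Lt.b, Lt.c] [Lt.ai, Lt.b, Lt.a, Lt.ci] (pat hy (rf_6 hy) 5 rfl) h
      · exact mRel_good (T := T) hM0 [Lt.c, Lt.a] [Lt.b, Lt.a, Lt.ci, Lt.bi] (pat hy (rf_7 hy) 0 rfl) h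
    · rcases brec_true h with h | h
      · exact mRel_good (T := T) hM0 [Lt.ci, Lt.bi, Lt.ai, Lt.b] [Lt.c, Lt.ai] (pat hy (rb_6 hy) 5 rfl) h
      · exact mRel_good (T := T) hM0 [Lt.ci, Lt.bi, Lt.ai, Lt.b, Lt.a, Lt.ci] [] (pat hy (rb_6 hy) 5 rfl) h
theorem dM_4_s (hy : Hy g H) (j z1 z2 u : ℕ) (h : dM_4 j z1 z2 u = true) : GdM g H u := by
  unfold dM_4 at h
  rcases brec_true h with h | h
  · exact dM_2_s hy j z1 z2 u h
  · exact dM_3_s hy j z1 z2 u h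
theorem dM_5_s (hy : Hy g H) (j z1 z2 u : ℕ) (h : dM_5 j z1 z2 u = true) : GdM g H u := by
  unfold dM_5 at h
  rcases brec_true h with h | h
  · rcases brec_true h with h | h
    · rcases brec_true h with h | h
      · exact mRel_good (T := T) hM0 [Lt.c, Lt.b] [Lt.ai, Lt.b, Lt.ci, Lt.a] (pat hy (rf_8 hy) 0 rfl) h
      · exact mRel_good (T := T) hM0 [Lt.ci, Lt.bi] [Lt.ai, Lt.bi, Lt.c, Lt.a] (pat hy (rb_7 hy) 2 rfl) h
    · rcases brec_true h with h | h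
      · exact mRel_good (T := T) hM0 [Lt.ai, Lt.ci, Lt.b, Lt.a] [Lt.b, Lt.c] (pat hy (rb_7 hy) 4 rfl) h
      · exact mRel_good (T := T) hM0 [Lt.ai, Lt.b] [Lt.b, Lt.c, Lt.c, Lt.ai] (pat hy (rb_6 hy) 1 rfl) h
  · rcases brec_true h with h | h
    · rcases brec_true h with h | h
      · exact mRel_good (T := T) hM0 [Lt.ai, Lt.bi, Lt.c, Lt.a] [Lt.ci, Lt.bi] (pat hy (rf_7 hy) 4 rfl) h
      · exact mRel_good (T := T) hM0 [Lt.bi, Lt.a] [Lt.a, Lt.ci, Lt.ci, Lt.bi] (pat hy (rf_6 hy) 3 rfl) h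
    · rcases brec_true h with h | h
      · exact mRel_good (T := T) hM0 [Lt.c, Lt.a, Lt.b, Lt.c] [Lt.b, Lt.a] (pat hy (rf_7 hy) 0 rfl) h
      · exact mRel_good (T := T) hM0 [Lt.ai, Lt.bi, Lt.c] [Lt.ci, Lt.bi, Lt.ai] (pat hy (rf_7 hy) 4 rfl) h
theorem dM_6_s (hy : Hy g H) (j z1 z2 u : ℕ) (h : dM_6 j z1 z2 u = true) : GdM g H u := by
  unfold dM_6 at h
  rcases brec_true h with h | h
  · rcases brec_true h with h | h
    · rcases brec_true h with h | h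
      · exact mRel_good (T := T) hM0 [Lt.b, Lt.b] [Lt.bi, Lt.bi, Lt.bi] (pat hy (rf_5 hy) 0 rfl) h
      · exact mRel_good (T := T) hM0 [Lt.b, Lt.c] [Lt.ai, Lt.ci, Lt.b, Lt.a] (pat hy (rf_7 hy) 2 rfl) h
    · rcases brec_true h with h | h
      · exact mRel_good (T := T) hM0 [Lt.b, Lt.ci, Lt.a, Lt.bi] [Lt.a, Lt.c] (pat hy (rb_8 hy) 1 rfl) h
      · rcases brec_true h with h | h
        · exact mRel_good (T := T) hM0 [Lt.t, Lt.c, Lt.ti, Lt.c, Lt.c, Lt.ti] [Lt.c, Lt.c, Lt.t] (pat hy (rb_9 hy) 4 rfl) h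
        · exact mRel_good (T := T) hM0 [Lt.ci, Lt.ti, Lt.ci, Lt.ti, Lt.ai] [Lt.a, Lt.ti, Lt.ci, Lt.ti] (pat hy (rb_11 hy) 1 rfl) h
  · rcases brec_true h with h | h
    · rcases brec_true h with h | h
      · exact mRel_good (T := T) hM0 [Lt.bi, Lt.ai] [Lt.c, Lt.ai, Lt.bi, Lt.c] (pat hy (rb_7 hy) 3 rfl) h
      · rcases brec_true h with h | h
        · exact mRel_good (T := T) hM0 [Lt.ti, Lt.ci, Lt.t, Lt.t, Lt.c, Lt.c, Lt.ti] [Lt.ci, Lt.t] (pat hy (rf_17 hy) 3 rfl) h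
        · exact mRel_good (T := T) hM0 [Lt.a, Lt.ci, Lt.bi] [Lt.bi, Lt.c, Lt.a] (pat hy (rb_7 hy) 1 rfl) h
    · rcases brec_true h with h | h
      · exact mRel_good (T := T) hM0 [Lt.ci, Lt.ci, Lt.bi, Lt.ai] [Lt.ai, Lt.bi] (pat hy (rb_6 hy) 4 rfl) h
      · rcases brec_true h with h | h
        · exact mRel_good (T := T) hM0 [Lt.a, Lt.t, Lt.c, Lt.t, Lt.c] [Lt.t, Lt.c, Lt.t, Lt.ai] (pat hy (rf_11 hy) 3 rfl) h
        · exact mRel_good (T := T) hM0 [Lt.c, Lt.c, Lt.ai, Lt.bi] [Lt.bi, Lt.ai] (pat hy (rf_6 hy) 0 rfl) h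
theorem dM_7_s (hy : Hy g H) (j z1 z2 u : ℕ) (h : dM_7 j z1 z2 u = true) : GdM g H u := by
  unfold dM_7 at h
  rcases brec_true h with h | h
  · exact dM_5_s hy j z1 z2 u h
  · exact dM_6_s hy j z1 z2 u h
theorem dM_8_s (hy : Hy g H) (j z1 z2 u : ℕ) (h : dM_8 j z1 z2 u = true) : GdM g H u := by
  unfold dM_8 at h
  rcases brec_true h with h | h
  · exact dM_4_s hy j z1 z2 u h
  · exact dM_7_s hy j z1 z2 u h
theorem dM_9_s (hy : Hy g H) (j z1 z2 u : ℕ) (h : dM_9 j z1 z2 u = true) : GdM g H u := by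
  unfold dM_9 at h
  rcases brec_true h with h | h
  · rcases brec_true h with h | h
    · rcases brec_true h with h | h
      · exact mRel_good (T := T) hM0 [Lt.c, Lt.b, Lt.ai] [Lt.ai, Lt.b, Lt.ci] (pat hy (rf_8 hy) 0 rfl) h
      · rcases brec_true h with h | h
        · exact mRel_good (T := T) hM0 [Lt.b, Lt.t, Lt.c, Lt.t, Lt.c] [Lt.t, Lt.c, Lt.t, Lt.bi] (pat hy (rf_10 hy) 3 rfl) h
        · exact mRel_good (T := T) hM0 [Lt.bi, Lt.t, Lt.bi, Lt.z, Lt.t] [Lt.ti, Lt.b, Lt.ti, Lt.b] (pat hy (rb_12 hy) 6 rfl) h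
    · rcases brec_true h with h | h
      · exact mRel_good (T := T) hM0 [Lt.ci, Lt.ci, Lt.bi] [Lt.ai, Lt.bi, Lt.a] (pat hy (rb_6 hy) 4 rfl) h
      · rcases brec_true h with h | h
        · exact mRel_good (T := T) hM0 [Lt.ti, Lt.bi, Lt.t, Lt.c, Lt.t, Lt.bi] [Lt.c, Lt.t, Lt.c] (pat hy (rb_10 hy) 4 rfl) h
        · exact mRel_good (T := T) hM0 [Lt.a, Lt.b, Lt.c, Lt.ai] [Lt.ci, Lt.b] (pat hy (rf_7 hy) 1 rfl) h
  · rcases brec_true h with h | h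
    · rcases brec_true h with h | h
      · exact mRel_good (T := T) hM0 [Lt.ci, Lt.bi, Lt.ai, Lt.ci] [Lt.ai, Lt.bi] (pat hy (rb_7 hy) 2 rfl) h
      · rcases brec_true h with h | h
        · exact mRel_good (T := T) hM0 [Lt.bi, Lt.bi, Lt.bi] [Lt.b, Lt.b] (pat hy (rb_5 hy) 0 rfl) h
        · exact mRel_good (T := T) hM0 [Lt.c, Lt.t, Lt.c, Lt.b, Lt.ti, Lt.ci, Lt.ti, Lt.b] [Lt.ti] (pat hy (rf_10 hy) 5 rfl) h
    · rcases brec_true h with h | h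
      · exact mRel_good (T := T) hM0 [Lt.b, Lt.a, Lt.ci, Lt.bi] [Lt.c, Lt.a] (pat hy (rb_7 hy) 0 rfl) h
      · rcases brec_true h with h | h
        · exact mRel_good (T := T) hM0 [Lt.a, Lt.bi, Lt.ci, Lt.ai] [Lt.c, Lt.bi] (pat hy (rb_8 hy) 3 rfl) h
        · exact mRel_good (T := T) hM0 [Lt.ti, Lt.ci, Lt.ti] [Lt.c, Lt.a, Lt.ti, Lt.ci, Lt.ti, Lt.a] (pat hy (rb_11 hy) 2 rfl) h
theorem dM_10_s (hy : Hy g H) (j z1 z2 u : ℕ) (h : dM_10 j z1 z2 u = true) : GdM g H u := by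
  unfold dM_10 at h
  rcases brec_true h with h | h
  · rcases brec_true h with h | h
    · rcases brec_true h with h | h
      · exact mRel_good (T := T) hM0 [Lt.c, Lt.ai] [Lt.ci, Lt.bi, Lt.ai, Lt.b] (pat hy (rf_6 hy) 1 rfl) h
      · rcases brec_true h with h | h
        · exact mRel_good (T := T) hM0 [Lt.ci, Lt.ti, Lt.b, Lt.c] [Lt.t, Lt.bi, Lt.ti, Lt.ci, Lt.ti] (pat hy (rf_14 hy) 5 rfl) h
        · exact mRel_good (T := T) hM0 [Lt.ai, Lt.bi, Lt.a, Lt.b] [Lt.ci, Lt.ci] (pat hy (rf_6 hy) 2 rfl) h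
    · rcases brec_true h with h | h
      · exact mRel_good (T := T) hM0 [Lt.ti, Lt.b, Lt.ti, Lt.a] [Lt.t, Lt.b, Lt.ti, Lt.a, Lt.t] (pat hy (rb_16 hy) 5 rfl) h
      · rcases brec_true h with h | h
        · exact mRel_good (T := T) hM0 [Lt.c, Lt.t, Lt.ci, Lt.t] [Lt.t, Lt.t, Lt.c, Lt.c, Lt.ti] (pat hy (rb_17 hy) 4 rfl) h
        · exact mRel_good (T := T) hM0 [Lt.b, Lt.ti, Lt.a] [Lt.ti, Lt.ti, Lt.b, Lt.ti, Lt.a, Lt.ti] (pat hy (rf_16 hy) 5 rfl) h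
  · rcases brec_true h with h | h
    · rcases brec_true h with h | h
      · exact mRel_good (T := T) hM0 [Lt.bi, Lt.ti, Lt.ti, Lt.b, Lt.ti, Lt.a, Lt.ti] [Lt.ti, Lt.a] (pat hy (rb_16 hy) 3 rfl) h
      · rcases brec_true h with h | h
        · exact mRel_good (T := T) hM0 [Lt.ai, Lt.b, Lt.a] [Lt.b, Lt.c, Lt.c] (pat hy (rb_6 hy) 1 rfl) h
        · exact mRel_good (T := T) hM0 [Lt.t, Lt.ci, Lt.ci, Lt.ti] [Lt.ti, Lt.c, Lt.ti, Lt.ci, Lt.t] (pat hy (rb_17 hy) 8 rfl) h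
    · rcases brec_true h with h | h
      · exact mRel_good (T := T) hM0 [Lt.b, Lt.ti, Lt.ci, Lt.ti, Lt.c] [Lt.ti, Lt.ci, Lt.ti, Lt.bi] (pat hy (rf_13 hy) 3 rfl) h
      · rcases brec_true h with h | h
        · exact mRel_good (T := T) hM0 [Lt.ti, Lt.ti, Lt.c, Lt.t, Lt.ci] [Lt.c, Lt.c, Lt.ti, Lt.ti] (pat hy (rb_17 hy) 2 rfl) h
        · exact mRel_good (T := T) hM0 [Lt.a, Lt.c, Lt.b, Lt.ai] [Lt.b, Lt.ci] (pat hy (rf_8 hy) 5 rfl) h
theorem dM_11_s (hy : Hy g H) (j z1 z2 u : ℕ) (h : dM_11 j z1 z2 u = true) : GdM g H u := by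
  unfold dM_11 at h
  rcases brec_true h with h | h
  · exact dM_9_s hy j z1 z2 u h
  · exact dM_10_s hy j z1 z2 u h
theorem dM_12_s (hy : Hy g H) (j z1 z2 u : ℕ) (h : dM_12 j z1 z2 u = true) : GdM g H u := by
  unfold dM_12 at h
  rcases brec_true h with h | h
  · rcases brec_true h with h | h
    · rcases brec_true h with h | h
      · exact mRel_good (T := T) hM0 [Lt.ci, Lt.ci, Lt.t, Lt.c, Lt.ti, Lt.c, Lt.c] [Lt.t, Lt.t] (pat hy (rb_9 hy) 2 rfl) h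
      · rcases brec_true h with h | h
        · exact mRel_good (T := T) hM0 [Lt.c, Lt.t, Lt.ci, Lt.t, Lt.t, Lt.ci, Lt.ci, Lt.ti] [Lt.t] (pat hy (rb_17 hy) 4 rfl) h
        · exact mRel_good (T := T) hM0 [Lt.ci, Lt.ti, Lt.c, Lt.b, Lt.t, Lt.c, Lt.t] [Lt.t, Lt.bi] (pat hy (rf_13 hy) 5 rfl) h
    · rcases brec_true h with h | h
      · exact mRel_good (T := T) hM0 [Lt.bi, Lt.ci, Lt.ti, Lt.ci, Lt.ti, Lt.bi] [Lt.ti, Lt.ci, Lt.ti] (pat hy (rb_10 hy) 0 rfl) h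
      · rcases brec_true h with h | h
        · exact mRel_good (T := T) hM0 [Lt.bi, Lt.ai] [Lt.c, Lt.c, Lt.ai, Lt.bi] (pat hy (rb_6 hy) 0 rfl) h
        · exact mRel_good (T := T) hM0 [Lt.b, Lt.ai] [Lt.ci, Lt.ai, Lt.b, Lt.ci] (pat hy (rf_8 hy) 1 rfl) h
  · rcases brec_true h with h | h
    · rcases brec_true h with h | h
      · exact mRel_good (T := T) hM0 [Lt.bi, Lt.ti, Lt.ci, Lt.ti, Lt.bi] [Lt.ti, Lt.ci, Lt.ti, Lt.c] (pat hy (rb_13 hy) 5 rfl) h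
      · rcases brec_true h with h | h
        · exact mRel_good (T := T) hM0 [Lt.a, Lt.ci, Lt.bi, Lt.ai] [Lt.bi, Lt.c] (pat hy (rb_7 hy) 1 rfl) h
        · exact mRel_good (T := T) hM0 [Lt.t, Lt.t, Lt.b] [Lt.b, Lt.ti, Lt.a, Lt.ti, Lt.ai, Lt.t] (pat hy (rf_16 hy) 3 rfl) h
    · rcases brec_true h with h | h
      · exact mRel_good (T := T) hM0 [Lt.c, Lt.a, Lt.ti, Lt.ci, Lt.ti, Lt.a] [Lt.ti, Lt.ci, Lt.ti] (pat hy (rf_11 hy) 7 rfl) h
      · rcases brec_true h with h | h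
        · exact mRel_good (T := T) hM0 [Lt.b, Lt.ti, Lt.a, Lt.ti, Lt.ai, Lt.t] [Lt.t, Lt.t, Lt.b] (pat hy (rb_16 hy) 6 rfl) h
        · exact mRel_good (T := T) hM0 [Lt.ci, Lt.ti, Lt.ti] [Lt.c, Lt.ti, Lt.ti, Lt.c, Lt.ti, Lt.ci] (pat hy (rb_17 hy) 1 rfl) h
theorem dM_13_s (hy : Hy g H) (j z1 z2 u : ℕ) (h : dM_13 j z1 z2 u = true) : GdM g H u := by
  unfold dM_13 at h
  rcases brec_true h with h | h
  · rcases brec_true h with h | h
    · exact mRel_good (T := T) hM0 [Lt.ai, Lt.b, Lt.a, Lt.ci] [Lt.b, Lt.c] (pat hy (rb_6 hy) 1 rfl) h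
    · rcases brec_true h with h | h
      · exact mRel_good (T := T) hM0 [Lt.a, Lt.b, Lt.c] [Lt.ci, Lt.b, Lt.a] (pat hy (rf_7 hy) 1 rfl) h
      · exact mRel_good (T := T) hM0 [Lt.bi, Lt.ai, Lt.b] [Lt.c, Lt.c, Lt.ai] (pat hy (rb_6 hy) 0 rfl) h
  · rcases brec_true h with h | h
    · exact mRel_good (T := T) hM0 [Lt.ai, Lt.b, Lt.ci] [Lt.c, Lt.b, Lt.ai] (pat hy (rb_8 hy) 0 rfl) h
    · rcases brec_true h with h | h
      · exact mRel_good (T := T) hM0 [Lt.ci, Lt.bi] [Lt.c, Lt.ai, Lt.bi, Lt.a] (pat hy (rb_6 hy) 5 rfl) h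
      · exact mRel_good (T := T) hM0 [Lt.a, Lt.ti, Lt.ai, Lt.t, Lt.bi] [Lt.t, Lt.bi, Lt.t, Lt.t] (pat hy (rb_16 hy) 8 rfl) h
theorem dM_14_s (hy : Hy g H) (j z1 z2 u : ℕ) (h : dM_14 j z1 z2 u = true) : GdM g H u := by
  unfold dM_14 at h
  rcases brec_true h with h | h
  · rcases brec_true h with h | h
    · rcases brec_true h with h | h
      · exact mRel_good (T := T) hM0 [Lt.ai, Lt.bi, Lt.a, Lt.b, Lt.c] [Lt.ci] (pat hy (rf_6 hy) 2 rfl) h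
      · exact mRel_good (T := T) hM0 [Lt.c, Lt.c, Lt.ti] [Lt.t, Lt.ci, Lt.ti, Lt.c, Lt.c, Lt.t] (pat hy (rb_9 hy) 7 rfl) h
    · rcases brec_true h with h | h
      · exact mRel_good (T := T) hM0 [Lt.c, Lt.t, Lt.bi, Lt.ti, Lt.ci, Lt.ti] [Lt.ti, Lt.b, Lt.c] (pat hy (rb_14 hy) 3 rfl) h
      · rcases brec_true h with h | h
        · exact mRel_good (T := T) hM0 [Lt.b, Lt.a, Lt.ci, Lt.ci] [Lt.a, Lt.b] (pat hy (rb_6 hy) 2 rfl) h
        · exact mRel_good (T := T) hM0 [Lt.c, Lt.t, Lt.b, Lt.ti, Lt.ci, Lt.ti] [Lt.ti, Lt.ci, Lt.bi] (pat hy (rf_14 hy) 1 rfl) h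
  · rcases brec_true h with h | h
    · rcases brec_true h with h | h
      · exact mRel_good (T := T) hM0 [Lt.ci, Lt.t, Lt.ci, Lt.ti, Lt.c, Lt.c] [Lt.c, Lt.ti, Lt.ti] (pat hy (rf_9 hy) 1 rfl) h
      · rcases brec_true h with h | h
        · exact mRel_good (T := T) hM0 [Lt.ci, Lt.ci, Lt.t] [Lt.ti, Lt.ti, Lt.ci, Lt.ci, Lt.t, Lt.c] (pat hy (rf_9 hy) 0 rfl) h
        · exact mRel_good (T := T) hM0 [Lt.t, Lt.c, Lt.ti] [Lt.c, Lt.c, Lt.t, Lt.t, Lt.ci, Lt.ci] (pat hy (rb_9 hy) 4 rfl) h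
    · rcases brec_true h with h | h
      · exact mRel_good (T := T) hM0 [Lt.ci, Lt.t] [Lt.c, Lt.ti, Lt.ti, Lt.ci, Lt.ci, Lt.t, Lt.c] (pat hy (rf_9 hy) 1 rfl) h
      · rcases brec_true h with h | h
        · exact mRel_good (T := T) hM0 [Lt.ci, Lt.ai, Lt.b, Lt.ci, Lt.a, Lt.bi] [] (pat hy (rb_8 hy) 5 rfl) h
        · exact mRel_good (T := T) hM0 [Lt.ci, Lt.bi, Lt.ai, Lt.ci, Lt.b] [Lt.ai] (pat hy (rb_7 hy) 2 rfl) h
theorem dM_15_s (hy : Hy g H) (j z1 z2 u : ℕ) (h : dM_15 j z1 z2 u = true) : GdM g H u := by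
  unfold dM_15 at h
  rcases brec_true h with h | h
  · exact dM_13_s hy j z1 z2 u h
  · exact dM_14_s hy j z1 z2 u h
theorem dM_16_s (hy : Hy g H) (j z1 z2 u : ℕ) (h : dM_16 j z1 z2 u = true) : GdM g H u := by
  unfold dM_16 at h
  rcases brec_true h with h | h
  · exact dM_12_s hy j z1 z2 u h
  · exact dM_15_s hy j z1 z2 u h
theorem dM_17_s (hy : Hy g H) (j z1 z2 u : ℕ) (h : dM_17 j z1 z2 u = true) : GdM g H u := by
  unfold dM_17 at h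
  rcases brec_true h with h | h
  · exact dM_11_s hy j z1 z2 u h
  · exact dM_16_s hy j z1 z2 u h
theorem dM_18_s (hy : Hy g H) (j z1 z2 u : ℕ) (h : dM_18 j z1 z2 u = true) : GdM g H u := by
  unfold dM_18 at h
  rcases brec_true h with h | h
  · exact dM_8_s hy j z1 z2 u h
  · exact dM_17_s hy j z1 z2 u h
theorem dM_19_s (hy : Hy g H) (j z1 z2 u : ℕ) (h : dM_19 j z1 z2 u = true) : GdM g H u := by
  unfold dM_19 at h
  rcases brec_true h with h | h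
  · rcases brec_true h with h | h
    · rcases brec_true h with h | h
      · exact mRel_good (T := T) hM0 [Lt.ci, Lt.ti, Lt.ai] [Lt.t, Lt.a, Lt.ti, Lt.ci, Lt.ti, Lt.c] (pat hy (rb_15 hy) 7 rfl) h
      · rcases brec_true h with h | h
        · exact mRel_good (T := T) hM0 [Lt.a, Lt.ci] [Lt.bi, Lt.a, Lt.b, Lt.c] (pat hy (rb_6 hy) 3 rfl) h
        · exact mRel_good (T := T) hM0 [Lt.ci, Lt.ti, Lt.b] [Lt.t, Lt.bi, Lt.ti, Lt.ci, Lt.ti, Lt.ci] (pat hy (rf_14 hy) 5 rfl) h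
    · rcases brec_true h with h | h
      · exact mRel_good (T := T) hM0 [Lt.bi, Lt.ti, Lt.ci, Lt.ti] [Lt.ti, Lt.ci, Lt.ti, Lt.b, Lt.c] (pat hy (rb_14 hy) 5 rfl) h
      · rcases brec_true h with h | h
        · exact mRel_good (T := T) hM0 [Lt.c] [Lt.ai, Lt.b, Lt.ci, Lt.a, Lt.bi] (pat hy (rf_8 hy) 0 rfl) h
        · exact mRel_good (T := T) hM0 [Lt.bi, Lt.t, Lt.bi, Lt.t, Lt.bi] [Lt.ti, Lt.zi, Lt.b, Lt.ti] (pat hy (rb_12 hy) 2 rfl) h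
  · rcases brec_true h with h | h
    · rcases brec_true h with h | h
      · exact mRel_good (T := T) hM0 [Lt.c, Lt.ai, Lt.bi] [Lt.bi, Lt.ai, Lt.ci] (pat hy (rf_7 hy) 3 rfl) h
      · rcases brec_true h with h | h
        · exact mRel_good (T := T) hM0 [Lt.t, Lt.c, Lt.t] [Lt.b, Lt.t, Lt.c, Lt.t, Lt.c, Lt.b] (pat hy (rb_10 hy) 6 rfl) h
        · exact mRel_good (T := T) hM0 [Lt.t, Lt.b, Lt.ti, Lt.ci, Lt.ti, Lt.b] [Lt.ci, Lt.ti, Lt.ci] (pat hy (rf_14 hy) 2 rfl) h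
    · rcases brec_true h with h | h
      · exact mRel_good (T := T) hM0 [Lt.ti, Lt.ci, Lt.ti, Lt.ai, Lt.t, Lt.c, Lt.t, Lt.ai, Lt.ci] [] (pat hy (rb_11 hy) 2 rfl) h
      · rcases brec_true h with h | h
        · exact mRel_good (T := T) hM0 [Lt.t, Lt.ai, Lt.ti, Lt.ci, Lt.ti, Lt.ai] [Lt.ci, Lt.ti, Lt.c] (pat hy (rb_15 hy) 4 rfl) h
        · exact mRel_good (T := T) hM0 [Lt.c, Lt.ai, Lt.bi, Lt.a, Lt.b, Lt.c] [] (pat hy (rf_6 hy) 1 rfl) h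
theorem dM_20_s (hy : Hy g H) (j z1 z2 u : ℕ) (h : dM_20 j z1 z2 u = true) : GdM g H u := by
  unfold dM_20 at h
  rcases brec_true h with h | h
  · rcases brec_true h with h | h
    · rcases brec_true h with h | h
      · exact mRel_good (T := T) hM0 [Lt.bi, Lt.ti, Lt.ci, Lt.ti, Lt.ci] [Lt.ti, Lt.ci, Lt.ti, Lt.b] (pat hy (rb_14 hy) 5 rfl) h
      · rcases brec_true h with h | h
        · exact mRel_good (T := T) hM0 [Lt.ti, Lt.ci, Lt.ti] [Lt.ai, Lt.ci, Lt.ti, Lt.ci, Lt.ti, Lt.ai] (pat hy (rf_11 hy) 0 rfl) h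
        · exact mRel_good (T := T) hM0 [Lt.ti, Lt.a, Lt.ti, Lt.ai, Lt.t] [Lt.bi, Lt.t, Lt.t, Lt.b] (pat hy (rb_16 hy) 7 rfl) h
    · rcases brec_true h with h | h
      · exact mRel_good (T := T) hM0 [Lt.b, Lt.ti, Lt.ci, Lt.ti, Lt.b, Lt.t] [Lt.ci, Lt.ti, Lt.ci] (pat hy (rf_10 hy) 8 rfl) h
      · rcases brec_true h with h | h
        · exact mRel_good (T := T) hM0 [Lt.c, Lt.t] [Lt.ti, Lt.b, Lt.t, Lt.c, Lt.t, Lt.c, Lt.b] (pat hy (rb_10 hy) 7 rfl) h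
        · exact mRel_good (T := T) hM0 [Lt.ci, Lt.b, Lt.a] [Lt.a, Lt.b, Lt.c] (pat hy (rb_7 hy) 5 rfl) h
  · rcases brec_true h with h | h
    · rcases brec_true h with h | h
      · exact mRel_good (T := T) hM0 [Lt.c, Lt.t, Lt.b, Lt.ti, Lt.ci, Lt.ti, Lt.c] [Lt.ti, Lt.bi] (pat hy (rf_13 hy) 1 rfl) h
      · rcases brec_true h with h | h
        · exact mRel_good (T := T) hM0 [Lt.ti, Lt.b, Lt.ti] [Lt.t, Lt.b, Lt.ti, Lt.a, Lt.t, Lt.ai] (pat hy (rb_16 hy) 5 rfl) h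
        · exact mRel_good (T := T) hM0 [Lt.t, Lt.c, Lt.t, Lt.bi, Lt.ti, Lt.ci] [Lt.c, Lt.b, Lt.t] (pat hy (rb_13 hy) 2 rfl) h
    · rcases brec_true h with h | h
      · exact mRel_good (T := T) hM0 [Lt.ai] [Lt.c, Lt.b, Lt.ai, Lt.c, Lt.bi] (pat hy (rb_8 hy) 0 rfl) h
      · rcases brec_true h with h | h
        · exact mRel_good (T := T) hM0 [Lt.ti, Lt.c, Lt.ti] [Lt.t, Lt.ci, Lt.ci, Lt.ti, Lt.ti, Lt.c] (pat hy (rf_17 hy) 1 rfl) h
        · exact mRel_good (T := T) hM0 [Lt.b] [Lt.t, Lt.c, Lt.t, Lt.bi, Lt.ci, Lt.ti, Lt.ci, Lt.ti] (pat hy (rf_10 hy) 3 rfl) h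
theorem dM_21_s (hy : Hy g H) (j z1 z2 u : ℕ) (h : dM_21 j z1 z2 u = true) : GdM g H u := by
  unfold dM_21 at h
  rcases brec_true h with h | h
  · exact dM_19_s hy j z1 z2 u h
  · exact dM_20_s hy j z1 z2 u h
theorem dM_22_s (hy : Hy g H) (j z1 z2 u : ℕ) (h : dM_22 j z1 z2 u = true) : GdM g H u := by
  unfold dM_22 at h
  rcases brec_true h with h | h
  · rcases brec_true h with h | h
    · rcases brec_true h with h | h
      · exact mRel_good (T := T) hM0 [Lt.t, Lt.bi, Lt.ci, Lt.ti, Lt.ci, Lt.ti, Lt.bi] [Lt.ci, Lt.ti] (pat hy (rb_10 hy) 8 rfl) h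
      · rcases brec_true h with h | h
        · exact mRel_good (T := T) hM0 [Lt.ci, Lt.ti, Lt.ci, Lt.bi] [Lt.t, Lt.b, Lt.ti, Lt.ci, Lt.ti] (pat hy (rb_14 hy) 7 rfl) h
        · exact mRel_good (T := T) hM0 [Lt.a, Lt.t, Lt.ai, Lt.t, Lt.bi] [Lt.t, Lt.bi, Lt.ti, Lt.ti] (pat hy (rf_16 hy) 7 rfl) h
    · rcases brec_true h with h | h
      · exact mRel_good (T := T) hM0 [Lt.bi, Lt.a, Lt.b, Lt.c, Lt.c, Lt.ai] [] (pat hy (rf_6 hy) 3 rfl) h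
      · rcases brec_true h with h | h
        · exact mRel_good (T := T) hM0 [Lt.t, Lt.t] [Lt.c, Lt.ti, Lt.ci, Lt.t, Lt.t, Lt.c, Lt.c] (pat hy (rb_17 hy) 7 rfl) h
        · exact mRel_good (T := T) hM0 [Lt.c, Lt.ti, Lt.ci, Lt.t, Lt.t] [Lt.t, Lt.t, Lt.ci, Lt.ci] (pat hy (rf_17 hy) 2 rfl) h
  · rcases brec_true h with h | h
    · rcases brec_true h with h | h
      · exact mRel_good (T := T) hM0 [Lt.t, Lt.ci, Lt.ci, Lt.t] [Lt.ti, Lt.ci, Lt.ci, Lt.t, Lt.c] (pat hy (rf_9 hy) 8 rfl) h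
      · rcases brec_true h with h | h
        · exact mRel_good (T := T) hM0 [Lt.c, Lt.ti, Lt.ti, Lt.c, Lt.ti, Lt.ci, Lt.t, Lt.t] [Lt.ci] (pat hy (rf_17 hy) 8 rfl) h
        · exact mRel_good (T := T) hM0 [Lt.t, Lt.t, Lt.ci, Lt.ci, Lt.t, Lt.ci, Lt.ti] [Lt.ci, Lt.ci] (pat hy (rf_9 hy) 7 rfl) h
    · rcases brec_true h with h | h
      · exact mRel_good (T := T) hM0 [Lt.ai, Lt.c] [Lt.bi, Lt.ci, Lt.ai, Lt.b] (pat hy (rf_8 hy) 2 rfl) h
      · rcases brec_true h with h | h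
        · exact mRel_good (T := T) hM0 [Lt.ci, Lt.b] [Lt.a, Lt.b, Lt.c, Lt.ai] (pat hy (rb_7 hy) 5 rfl) h
        · exact mRel_good (T := T) hM0 [Lt.bi, Lt.ci, Lt.ti, Lt.ci, Lt.ti] [Lt.ti, Lt.ci, Lt.ti, Lt.b] (pat hy (rb_10 hy) 0 rfl) h
theorem dM_23_s (hy : Hy g H) (j z1 z2 u : ℕ) (h : dM_23 j z1 z2 u = true) : GdM g H u := by
  unfold dM_23 at h
  rcases brec_true h with h | h
  · rcases brec_true h with h | h
    · rcases brec_true h with h | h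
      · exact mRel_good (T := T) hM0 [Lt.ci, Lt.a, Lt.bi, Lt.ci, Lt.ai] [Lt.bi] (pat hy (rb_8 hy) 2 rfl) h
      · rcases brec_true h with h | h
        · exact mRel_good (T := T) hM0 [Lt.ti, Lt.ti, Lt.c, Lt.t] [Lt.c, Lt.c, Lt.ti, Lt.ti, Lt.c] (pat hy (rb_17 hy) 2 rfl) h
        · exact mRel_good (T := T) hM0 [Lt.t, Lt.bi, Lt.ci, Lt.ti, Lt.ci, Lt.ti] [Lt.ci, Lt.ti, Lt.b] (pat hy (rb_10 hy) 8 rfl) h
    · rcases brec_true h with h | h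
      · exact mRel_good (T := T) hM0 [Lt.ti, Lt.b] [Lt.c, Lt.t, Lt.bi, Lt.ci, Lt.ti, Lt.ci, Lt.ti] (pat hy (rf_10 hy) 2 rfl) h
      · rcases brec_true h with h | h
        · exact mRel_good (T := T) hM0 [Lt.c, Lt.t, Lt.t, Lt.ci, Lt.ci, Lt.t, Lt.ci] [Lt.ci, Lt.t] (pat hy (rf_9 hy) 6 rfl) h
        · exact mRel_good (T := T) hM0 [Lt.ci, Lt.ti, Lt.ci, Lt.ti, Lt.bi, Lt.t, Lt.c, Lt.t] [Lt.b] (pat hy (rb_10 hy) 1 rfl) h
  · rcases brec_true h with h | h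
    · rcases brec_true h with h | h
      · exact mRel_good (T := T) hM0 [Lt.bi, Lt.ti, Lt.ci] [Lt.ti, Lt.ci, Lt.ti, Lt.b, Lt.c, Lt.t] (pat hy (rb_14 hy) 5 rfl) h
      · rcases brec_true h with h | h
        · exact mRel_good (T := T) hM0 [Lt.ti, Lt.ci, Lt.ti, Lt.b] [Lt.bi, Lt.ti, Lt.ci, Lt.ti, Lt.ci] (pat hy (rf_14 hy) 4 rfl) h
        · exact mRel_good (T := T) hM0 [Lt.ai, Lt.ci, Lt.t, Lt.c, Lt.t] [Lt.t, Lt.c, Lt.t, Lt.a] (pat hy (rb_15 hy) 0 rfl) h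
    · rcases brec_true h with h | h
      · exact mRel_good (T := T) hM0 [Lt.t, Lt.c, Lt.t, Lt.a, Lt.ti] [Lt.ai, Lt.ci, Lt.t, Lt.c] (pat hy (rf_15 hy) 0 rfl) h
      · rcases brec_true h with h | h
        · exact mRel_good (T := T) hM0 [Lt.ti] [Lt.c, Lt.t, Lt.c, Lt.b, Lt.ti, Lt.ci, Lt.ti, Lt.b] (pat hy (rb_10 hy) 4 rfl) h
        · exact mRel_good (T := T) hM0 [Lt.ti, Lt.ci, Lt.ti, Lt.c, Lt.b, Lt.t] [Lt.bi, Lt.ti, Lt.ci] (pat hy (rf_13 hy) 4 rfl) h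
theorem dM_24_s (hy : Hy g H) (j z1 z2 u : ℕ) (h : dM_24 j z1 z2 u = true) : GdM g H u := by
  unfold dM_24 at h
  rcases brec_true h with h | h
  · exact dM_22_s hy j z1 z2 u h
  · exact dM_23_s hy j z1 z2 u h
theorem dM_25_s (hy : Hy g H) (j z1 z2 u : ℕ) (h : dM_25 j z1 z2 u = true) : GdM g H u := by
  unfold dM_25 at h
  rcases brec_true h with h | h
  · exact dM_21_s hy j z1 z2 u h
  · exact dM_24_s hy j z1 z2 u h
theorem dM_26_s (hy : Hy g H) (j z1 z2 u : ℕ) (h : dM_26 j z1 z2 u = true) : GdM g H u := by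
  unfold dM_26 at h
  rcases brec_true h with h | h
  · rcases brec_true h with h | h
    · rcases brec_true h with h | h
      · exact mRel_good (T := T) hM0 [Lt.c, Lt.t, Lt.b, Lt.ti, Lt.ci, Lt.ti] [Lt.ti, Lt.bi, Lt.ci] (pat hy (rf_13 hy) 1 rfl) h
      · rcases brec_true h with h | h
        · exact mRel_good (T := T) hM0 [Lt.c, Lt.ti, Lt.c, Lt.c, Lt.ti] [Lt.ti, Lt.c, Lt.c, Lt.t] (pat hy (rb_9 hy) 5 rfl) h
        · exact mRel_good (T := T) hM0 [Lt.ti, Lt.ci, Lt.ti, Lt.c, Lt.a, Lt.t, Lt.c, Lt.t, Lt.a] [] (pat hy (rf_15 hy) 4 rfl) h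
    · rcases brec_true h with h | h
      · exact mRel_good (T := T) hM0 [Lt.c, Lt.c, Lt.ai, Lt.bi, Lt.a] [Lt.bi] (pat hy (rf_6 hy) 0 rfl) h
      · rcases brec_true h with h | h
        · exact mRel_good (T := T) hM0 [Lt.ti, Lt.ci, Lt.ti] [Lt.bi, Lt.ci, Lt.ti, Lt.ci, Lt.ti, Lt.bi] (pat hy (rf_10 hy) 0 rfl) h
        · exact mRel_good (T := T) hM0 [Lt.ti, Lt.ci, Lt.ti, Lt.bi, Lt.ci, Lt.t] [Lt.b, Lt.ti, Lt.ci] (pat hy (rb_13 hy) 6 rfl) h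
  · rcases brec_true h with h | h
    · rcases brec_true h with h | h
      · exact mRel_good (T := T) hM0 [Lt.bi, Lt.t, Lt.c, Lt.t, Lt.bi] [Lt.c, Lt.t, Lt.c, Lt.t] (pat hy (rb_14 hy) 1 rfl) h
      · rcases brec_true h with h | h
        · exact mRel_good (T := T) hM0 [Lt.z, Lt.ci, Lt.zi] [Lt.ci] (pat hy (rb_3 hy) 1 rfl) h
        · exact mRel_good (T := T) hM0 [Lt.t, Lt.t, Lt.ci, Lt.ci, Lt.t] [Lt.ci, Lt.ci, Lt.t, Lt.c] (pat hy (rf_9 hy) 7 rfl) h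
    · rcases brec_true h with h | h
      · exact mRel_good (T := T) hM0 [Lt.ti, Lt.zi] [Lt.zi, Lt.ti] (pat hy (rb_0 hy) 2 rfl) h
      · rcases brec_true h with h | h
        · exact mRel_good (T := T) hM0 [Lt.t, Lt.c, Lt.t, Lt.ai, Lt.ci] [Lt.a, Lt.t, Lt.c, Lt.t] (pat hy (rb_11 hy) 6 rfl) h
        · exact mRel_good (T := T) hM0 [Lt.b, Lt.ci, Lt.a] [Lt.a, Lt.c, Lt.b] (pat hy (rb_8 hy) 1 rfl) h
theorem dM_27_s (hy : Hy g H) (j z1 z2 u : ℕ) (h : dM_27 j z1 z2 u = true) : GdM g H u := by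
  unfold dM_27 at h
  rcases brec_true h with h | h
  · rcases brec_true h with h | h
    · rcases brec_true h with h | h
      · exact mRel_good (T := T) hM0 [Lt.ti, Lt.ci, Lt.ti, Lt.b] [Lt.bi, Lt.ci, Lt.ti, Lt.ci, Lt.ti] (pat hy (rf_10 hy) 0 rfl) h
      · rcases brec_true h with h | h
        · exact mRel_good (T := T) hM0 [Lt.bi, Lt.t, Lt.c, Lt.t] [Lt.c, Lt.t, Lt.c, Lt.t, Lt.b] (pat hy (rb_14 hy) 1 rfl) h
        · exact mRel_good (T := T) hM0 [Lt.ci, Lt.ci] [Lt.ai, Lt.bi, Lt.a, Lt.b] (pat hy (rb_6 hy) 4 rfl) h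
    · rcases brec_true h with h | h
      · exact mRel_good (T := T) hM0 [Lt.ti, Lt.c, Lt.c, Lt.t, Lt.t] [Lt.c, Lt.ti, Lt.c, Lt.c] (pat hy (rf_9 hy) 4 rfl) h
      · rcases brec_true h with h | h
        · exact mRel_good (T := T) hM0 [Lt.t, Lt.c] [Lt.bi, Lt.t, Lt.c, Lt.t, Lt.bi, Lt.ci, Lt.ti] (pat hy (rf_10 hy) 4 rfl) h
        · exact mRel_good (T := T) hM0 [Lt.bi, Lt.t, Lt.t] [Lt.ti, Lt.a, Lt.ti, Lt.ai, Lt.t, Lt.bi] (pat hy (rf_16 hy) 2 rfl) h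
  · rcases brec_true h with h | h
    · rcases brec_true h with h | h
      · exact mRel_good (T := T) hM0 [Lt.ci, Lt.ti, Lt.ai, Lt.t, Lt.c] [Lt.t, Lt.c, Lt.a, Lt.ti] (pat hy (rb_11 hy) 3 rfl) h
      · rcases brec_true h with h | h
        · exact mRel_good (T := T) hM0 [Lt.ti, Lt.ci, Lt.ti, Lt.ai, Lt.ci, Lt.t] [Lt.a, Lt.ti, Lt.ci] (pat hy (rb_15 hy) 6 rfl) h
        · exact mRel_good (T := T) hM0 [Lt.ci, Lt.ti, Lt.c] [Lt.t, Lt.ai, Lt.ti, Lt.ci, Lt.ti, Lt.ai] (pat hy (rf_15 hy) 5 rfl) h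
    · rcases brec_true h with h | h
      · exact mRel_good (T := T) hM0 [Lt.ai, Lt.zi] [Lt.zi, Lt.ai] (pat hy (rb_2 hy) 2 rfl) h
      · rcases brec_true h with h | h
        · exact mRel_good (T := T) hM0 [Lt.ci, Lt.t, Lt.c, Lt.t] [Lt.a, Lt.t, Lt.c, Lt.t, Lt.a] (pat hy (rb_15 hy) 1 rfl) h
        · exact mRel_good (T := T) hM0 [Lt.ci, Lt.ci, Lt.t, Lt.c, Lt.ti] [Lt.t, Lt.t, Lt.ci, Lt.ci] (pat hy (rb_9 hy) 2 rfl) h
theorem dM_28_s (hy : Hy g H) (j z1 z2 u : ℕ) (h : dM_28 j z1 z2 u = true) : GdM g H u := by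
  unfold dM_28 at h
  rcases brec_true h with h | h
  · exact dM_26_s hy j z1 z2 u h
  · exact dM_27_s hy j z1 z2 u h
theorem dM_29_s (hy : Hy g H) (j z1 z2 u : ℕ) (h : dM_29 j z1 z2 u = true) : GdM g H u := by
  unfold dM_29 at h
  rcases brec_true h with h | h
  · rcases brec_true h with h | h
    · rcases brec_true h with h | h
      · exact mRel_good (T := T) hM0 [Lt.ci, Lt.ti, Lt.ci, Lt.bi, Lt.t, Lt.c, Lt.t] [Lt.t, Lt.b] (pat hy (rb_14 hy) 7 rfl) h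
      · rcases brec_true h with h | h
        · exact mRel_good (T := T) hM0 [Lt.t, Lt.c, Lt.t] [Lt.b, Lt.c, Lt.t, Lt.c, Lt.t, Lt.b] (pat hy (rb_14 hy) 2 rfl) h
        · exact mRel_good (T := T) hM0 [Lt.ti, Lt.ci, Lt.ti, Lt.a] [Lt.ai, Lt.ci, Lt.ti, Lt.ci, Lt.ti] (pat hy (rf_11 hy) 0 rfl) h
    · rcases brec_true h with h | h
      · exact mRel_good (T := T) hM0 [Lt.a, Lt.bi, Lt.ci] [Lt.c, Lt.bi, Lt.a] (pat hy (rb_8 hy) 3 rfl) h
      · rcases brec_true h with h | h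
        · exact mRel_good (T := T) hM0 [Lt.ai, Lt.z] [Lt.z, Lt.ai] (pat hy (rf_2 hy) 3 rfl) h
        · exact mRel_good (T := T) hM0 [Lt.b, Lt.ci] [Lt.a, Lt.c, Lt.b, Lt.ai] (pat hy (rb_8 hy) 1 rfl) h
  · rcases brec_true h with h | h
    · rcases brec_true h with h | h
      · exact mRel_good (T := T) hM0 [Lt.c, Lt.c, Lt.ai] [Lt.bi, Lt.ai, Lt.b] (pat hy (rf_6 hy) 0 rfl) h
      · rcases brec_true h with h | h
        · exact mRel_good (T := T) hM0 [Lt.bi, Lt.t, Lt.c] [Lt.t, Lt.c, Lt.t, Lt.c, Lt.b, Lt.ti] (pat hy (rb_10 hy) 5 rfl) h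
        · exact mRel_good (T := T) hM0 [Lt.t, Lt.ci] [Lt.ti, Lt.ci, Lt.ci, Lt.t, Lt.c, Lt.ti, Lt.c] (pat hy (rf_9 hy) 8 rfl) h
    · rcases brec_true h with h | h
      · exact mRel_good (T := T) hM0 [Lt.ci, Lt.ti, Lt.ci, Lt.ti, Lt.bi] [Lt.b, Lt.ti, Lt.ci, Lt.ti] (pat hy (rb_10 hy) 1 rfl) h
      · rcases brec_true h with h | h
        · exact mRel_good (T := T) hM0 [Lt.ci, Lt.ti] [Lt.c, Lt.ti, Lt.ti, Lt.c, Lt.ti, Lt.ci, Lt.t] (pat hy (rb_17 hy) 1 rfl) h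
        · exact mRel_good (T := T) hM0 [Lt.ai, Lt.t, Lt.bi, Lt.t, Lt.t, Lt.b, Lt.ti, Lt.a] [Lt.ti] (pat hy (rf_16 hy) 0 rfl) h
theorem dM_30_s (hy : Hy g H) (j z1 z2 u : ℕ) (h : dM_30 j z1 z2 u = true) : GdM g H u := by
  unfold dM_30 at h
  rcases brec_true h with h | h
  · rcases brec_true h with h | h
    · rcases brec_true h with h | h
      · exact mRel_good (T := T) hM0 [Lt.b, Lt.ti, Lt.ci, Lt.ti] [Lt.ti, Lt.ci, Lt.ti, Lt.bi, Lt.ci] (pat hy (rf_13 hy) 3 rfl) h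
      · rcases brec_true h with h | h
        · exact mRel_good (T := T) hM0 [Lt.ti, Lt.ti, Lt.b, Lt.ti, Lt.a, Lt.ti, Lt.ai] [Lt.b, Lt.ti] (pat hy (rb_16 hy) 4 rfl) h
        · exact mRel_good (T := T) hM0 [Lt.bi, Lt.bi] [Lt.b, Lt.b, Lt.b] (pat hy (rb_5 hy) 0 rfl) h
    · rcases brec_true h with h | h
      · exact mRel_good (T := T) hM0 [Lt.t, Lt.t] [Lt.c, Lt.t, Lt.ci, Lt.t, Lt.t, Lt.ci, Lt.ci] (pat hy (rf_17 hy) 5 rfl) h
      · rcases brec_true h with h | h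
        · exact mRel_good (T := T) hM0 [Lt.ci, Lt.b, Lt.a, Lt.ci] [Lt.a, Lt.b] (pat hy (rb_7 hy) 5 rfl) h
        · exact mRel_good (T := T) hM0 [Lt.t, Lt.ai, Lt.t, Lt.bi, Lt.t, Lt.t] [Lt.ai, Lt.t, Lt.bi] (pat hy (rf_16 hy) 8 rfl) h
  · rcases brec_true h with h | h
    · rcases brec_true h with h | h
      · exact mRel_good (T := T) hM0 [Lt.a, Lt.t, Lt.ai, Lt.t, Lt.bi, Lt.t, Lt.t, Lt.b] [Lt.t] (pat hy (rf_16 hy) 7 rfl) h
      · rcases brec_true h with h | h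
        · exact mRel_good (T := T) hM0 [Lt.ai, Lt.b] [Lt.c, Lt.b, Lt.ai, Lt.c] (pat hy (rb_8 hy) 0 rfl) h
        · exact mRel_good (T := T) hM0 [Lt.t, Lt.bi, Lt.t] [Lt.a, Lt.ti, Lt.ai, Lt.t, Lt.bi, Lt.ti] (pat hy (rf_16 hy) 1 rfl) h
    · rcases brec_true h with h | h
      · exact mRel_good (T := T) hM0 [Lt.bi, Lt.ci, Lt.ai, Lt.b] [Lt.ai, Lt.c] (pat hy (rb_8 hy) 4 rfl) h
      · rcases brec_true h with h | h
        · exact mRel_good (T := T) hM0 [Lt.ci, Lt.bi, Lt.ai, Lt.b, Lt.a] [Lt.c] (pat hy (rb_6 hy) 5 rfl) h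
        · exact mRel_good (T := T) hM0 [Lt.ci, Lt.ci, Lt.t, Lt.ci, Lt.ti, Lt.c, Lt.c] [Lt.ti, Lt.ti] (pat hy (rf_9 hy) 0 rfl) h
theorem dM_31_s (hy : Hy g H) (j z1 z2 u : ℕ) (h : dM_31 j z1 z2 u = true) : GdM g H u := by
  unfold dM_31 at h
  rcases brec_true h with h | h
  · exact dM_29_s hy j z1 z2 u h
  · exact dM_30_s hy j z1 z2 u h
theorem dM_32_s (hy : Hy g H) (j z1 z2 u : ℕ) (h : dM_32 j z1 z2 u = true) : GdM g H u := by
  unfold dM_32 at h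
  rcases brec_true h with h | h
  · exact dM_28_s hy j z1 z2 u h
  · exact dM_31_s hy j z1 z2 u h
theorem dM_33_s (hy : Hy g H) (j z1 z2 u : ℕ) (h : dM_33 j z1 z2 u = true) : GdM g H u := by
  unfold dM_33 at h
  rcases brec_true h with h | h
  · exact dM_25_s hy j z1 z2 u h
  · exact dM_32_s hy j z1 z2 u h
theorem dM_34_s (hy : Hy g H) (j z1 z2 u : ℕ) (h : dM_34 j z1 z2 u = true) : GdM g H u := by
  unfold dM_34 at h
  rcases brec_true h with h | h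
  · rcases brec_true h with h | h
    · rcases brec_true h with h | h
      · exact mRel_good (T := T) hM0 [Lt.b, Lt.c, Lt.ai, Lt.bi, Lt.c] [Lt.ai] (pat hy (rf_7 hy) 2 rfl) h
      · rcases brec_true h with h | h
        · exact mRel_good (T := T) hM0 [Lt.bi, Lt.ci, Lt.ai] [Lt.ai, Lt.c, Lt.bi] (pat hy (rb_8 hy) 4 rfl) h
        · exact mRel_good (T := T) hM0 [Lt.bi, Lt.ci] [Lt.ti, Lt.ci, Lt.ti, Lt.b, Lt.t, Lt.c, Lt.t] (pat hy (rb_10 hy) 0 rfl) h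
    · rcases brec_true h with h | h
      · exact mRel_good (T := T) hM0 [Lt.ai, Lt.ti, Lt.ci, Lt.ti] [Lt.ti, Lt.ci, Lt.ti, Lt.c, Lt.a] (pat hy (rb_15 hy) 5 rfl) h
      · rcases brec_true h with h | h
        · exact mRel_good (T := T) hM0 [Lt.ci] [Lt.c, Lt.ti, Lt.ti, Lt.ci, Lt.ci, Lt.t, Lt.c, Lt.ti] (pat hy (rf_9 hy) 1 rfl) h
        · exact mRel_good (T := T) hM0 [Lt.ti, Lt.b, Lt.t, Lt.c] [Lt.c, Lt.t, Lt.bi, Lt.ci, Lt.ti] (pat hy (rf_10 hy) 2 rfl) h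
  · rcases brec_true h with h | h
    · rcases brec_true h with h | h
      · exact mRel_good (T := T) hM0 [Lt.c, Lt.t] [Lt.ti, Lt.a, Lt.t, Lt.c, Lt.t, Lt.c, Lt.a] (pat hy (rb_11 hy) 7 rfl) h
      · rcases brec_true h with h | h
        · exact mRel_good (T := T) hM0 [Lt.t, Lt.ai, Lt.ti, Lt.ci, Lt.ti, Lt.ai, Lt.ci] [Lt.ci, Lt.ti] (pat hy (rb_15 hy) 4 rfl) h
        · exact mRel_good (T := T) hM0 [Lt.a, Lt.t, Lt.c, Lt.t] [Lt.ci, Lt.t, Lt.c, Lt.t, Lt.ai] (pat hy (rf_15 hy) 8 rfl) h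
    · rcases brec_true h with h | h
      · exact mRel_good (T := T) hM0 [Lt.ci, Lt.a] [Lt.bi, Lt.a, Lt.c, Lt.b] (pat hy (rb_8 hy) 2 rfl) h
      · rcases brec_true h with h | h
        · exact mRel_good (T := T) hM0 [Lt.ci] [Lt.ai, Lt.bi, Lt.c, Lt.a, Lt.b] (pat hy (rb_7 hy) 2 rfl) h
        · exact mRel_good (T := T) hM0 [Lt.t] [Lt.bi, Lt.ci, Lt.t, Lt.c, Lt.t, Lt.bi, Lt.ti, Lt.ci] (pat hy (rf_13 hy) 0 rfl) h
theorem dM_35_s (hy : Hy g H) (j z1 z2 u : ℕ) (h : dM_35 j z1 z2 u = true) : GdM g H u := by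
  unfold dM_35 at h
  rcases brec_true h with h | h
  · rcases brec_true h with h | h
    · rcases brec_true h with h | h
      · exact mRel_good (T := T) hM0 [Lt.ci, Lt.ti, Lt.bi] [Lt.t, Lt.b, Lt.ti, Lt.ci, Lt.ti, Lt.c] (pat hy (rb_13 hy) 7 rfl) h
      · rcases brec_true h with h | h
        · exact mRel_good (T := T) hM0 [Lt.b, Lt.ti, Lt.a, Lt.ti, Lt.ai, Lt.t, Lt.bi] [Lt.t, Lt.t] (pat hy (rb_16 hy) 6 rfl) h
        · exact mRel_good (T := T) hM0 [Lt.t, Lt.b, Lt.ti, Lt.a, Lt.t, Lt.ai] [Lt.ti, Lt.b, Lt.ti] (pat hy (rf_16 hy) 4 rfl) h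
    · rcases brec_true h with h | h
      · exact mRel_good (T := T) hM0 [Lt.a, Lt.bi, Lt.ci, Lt.ai, Lt.b] [Lt.c] (pat hy (rb_8 hy) 3 rfl) h
      · rcases brec_true h with h | h
        · exact mRel_good (T := T) hM0 [Lt.bi, Lt.a, Lt.c, Lt.b] [Lt.ci, Lt.a] (pat hy (rf_8 hy) 4 rfl) h
        · exact mRel_good (T := T) hM0 [Lt.a, Lt.t, Lt.ai, Lt.t, Lt.bi, Lt.t, Lt.t, Lt.b, Lt.ti] [] (pat hy (rf_16 hy) 7 rfl) h
  · rcases brec_true h with h | h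
    · rcases brec_true h with h | h
      · exact mRel_good (T := T) hM0 [Lt.b, Lt.a, Lt.ci, Lt.ci, Lt.bi, Lt.ai] [] (pat hy (rb_6 hy) 2 rfl) h
      · rcases brec_true h with h | h
        · exact mRel_good (T := T) hM0 [Lt.bi, Lt.t, Lt.t, Lt.b, Lt.ti, Lt.a, Lt.t, Lt.ai] [Lt.ti] (pat hy (rf_16 hy) 2 rfl) h
        · exact mRel_good (T := T) hM0 [Lt.b, Lt.c, Lt.c, Lt.ai] [Lt.ai, Lt.b] (pat hy (rf_6 hy) 5 rfl) h
    · rcases brec_true h with h | h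
      · exact mRel_good (T := T) hM0 [Lt.ti, Lt.ci] [Lt.c, Lt.b, Lt.ti, Lt.ci, Lt.ti, Lt.b, Lt.t] (pat hy (rb_10 hy) 2 rfl) h
      · rcases brec_true h with h | h
        · exact mRel_good (T := T) hM0 [Lt.a] [Lt.b, Lt.a, Lt.ci, Lt.ci, Lt.bi] (pat hy (rf_6 hy) 4 rfl) h
        · exact mRel_good (T := T) hM0 [Lt.t, Lt.c, Lt.t, Lt.b, Lt.ti, Lt.ci] [Lt.bi, Lt.ci, Lt.t] (pat hy (rf_13 hy) 0 rfl) h
theorem dM_36_s (hy : Hy g H) (j z1 z2 u : ℕ) (h : dM_36 j z1 z2 u = true) : GdM g H u := by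
  unfold dM_36 at h
  rcases brec_true h with h | h
  · exact dM_34_s hy j z1 z2 u h
  · exact dM_35_s hy j z1 z2 u h
theorem dM_37_s (hy : Hy g H) (j z1 z2 u : ℕ) (h : dM_37 j z1 z2 u = true) : GdM g H u := by
  unfold dM_37 at h
  rcases brec_true h with h | h
  · rcases brec_true h with h | h
    · rcases brec_true h with h | h
      · exact mRel_good (T := T) hM0 [Lt.b, Lt.z] [Lt.z, Lt.b] (pat hy (rb_1 hy) 0 rfl) h
      · rcases brec_true h with h | h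
        · exact mRel_good (T := T) hM0 [Lt.ti, Lt.c, Lt.c, Lt.ti, Lt.ti, Lt.ci] [Lt.ci, Lt.ti, Lt.c] (pat hy (rb_9 hy) 6 rfl) h
        · exact mRel_good (T := T) hM0 [Lt.b, Lt.a] [Lt.c, Lt.a, Lt.b, Lt.c] (pat hy (rb_7 hy) 0 rfl) h
    · rcases brec_true h with h | h
      · exact mRel_good (T := T) hM0 [Lt.a, Lt.ti, Lt.ci, Lt.ti, Lt.a, Lt.t] [Lt.ci, Lt.ti, Lt.ci] (pat hy (rf_11 hy) 8 rfl) h
      · rcases brec_true h with h | h
        · exact mRel_good (T := T) hM0 [Lt.ti, Lt.ci, Lt.ti, Lt.ai, Lt.ci, Lt.t, Lt.c, Lt.t, Lt.ai] [] (pat hy (rb_15 hy) 6 rfl) h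
        · exact mRel_good (T := T) hM0 [Lt.ai, Lt.c, Lt.bi, Lt.a, Lt.c, Lt.b] [] (pat hy (rf_8 hy) 2 rfl) h
  · rcases brec_true h with h | h
    · rcases brec_true h with h | h
      · exact mRel_good (T := T) hM0 [Lt.ti, Lt.ci, Lt.ci, Lt.t] [Lt.t, Lt.ci, Lt.ci, Lt.t, Lt.ci] (pat hy (rb_9 hy) 1 rfl) h
      · rcases brec_true h with h | h
        · exact mRel_good (T := T) hM0 [Lt.ci, Lt.zi, Lt.c] [Lt.zi] (pat hy (rb_3 hy) 2 rfl) h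
        · exact mRel_good (T := T) hM0 [Lt.c, Lt.t, Lt.a, Lt.ti, Lt.ci, Lt.ti, Lt.c] [Lt.ti, Lt.ai] (pat hy (rf_15 hy) 1 rfl) h
    · rcases brec_true h with h | h
      · exact mRel_good (T := T) hM0 [Lt.ci, Lt.t, Lt.c] [Lt.b, Lt.t, Lt.c, Lt.t, Lt.b, Lt.ti] (pat hy (rb_13 hy) 1 rfl) h
      · rcases brec_true h with h | h
        · exact mRel_good (T := T) hM0 [Lt.ti, Lt.ci, Lt.ti, Lt.b, Lt.t] [Lt.bi, Lt.ci, Lt.ti, Lt.ci] (pat hy (rf_10 hy) 0 rfl) h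
        · exact mRel_good (T := T) hM0 [Lt.ci, Lt.ti, Lt.ci, Lt.ti, Lt.ai, Lt.t, Lt.c, Lt.t, Lt.ai] [] (pat hy (rb_11 hy) 1 rfl) h
theorem dM_38_s (hy : Hy g H) (j z1 z2 u : ℕ) (h : dM_38 j z1 z2 u = true) : GdM g H u := by
  unfold dM_38 at h
  rcases brec_true h with h | h
  · rcases brec_true h with h | h
    · rcases brec_true h with h | h
      · exact mRel_good (T := T) hM0 [Lt.a, Lt.t, Lt.c, Lt.t, Lt.c, Lt.a] [Lt.t, Lt.c, Lt.t] (pat hy (rf_11 hy) 3 rfl) h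
      · rcases brec_true h with h | h
        · exact mRel_good (T := T) hM0 [Lt.ci, Lt.t, Lt.t, Lt.ci, Lt.ci, Lt.ti, Lt.ti, Lt.c] [Lt.ti] (pat hy (rb_17 hy) 6 rfl) h
        · exact mRel_good (T := T) hM0 [Lt.c, Lt.t, Lt.c, Lt.t, Lt.b] [Lt.bi, Lt.t, Lt.c, Lt.t] (pat hy (rf_14 hy) 8 rfl) h
    · rcases brec_true h with h | h
      · exact mRel_good (T := T) hM0 [Lt.ti, Lt.ci, Lt.t, Lt.t, Lt.c, Lt.c, Lt.ti, Lt.ti] [Lt.ci] (pat hy (rf_17 hy) 3 rfl) h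
      · rcases brec_true h with h | h
        · exact mRel_good (T := T) hM0 [Lt.a] [Lt.ci, Lt.ti, Lt.ci, Lt.ti, Lt.ai, Lt.t, Lt.c, Lt.t] (pat hy (rf_11 hy) 8 rfl) h
        · exact mRel_good (T := T) hM0 [Lt.ti, Lt.ai] [Lt.c, Lt.t, Lt.a, Lt.ti, Lt.ci, Lt.ti, Lt.c] (pat hy (rb_15 hy) 8 rfl) h
  · rcases brec_true h with h | h
    · rcases brec_true h with h | h
      · exact mRel_good (T := T) hM0 [Lt.t, Lt.bi, Lt.t, Lt.t, Lt.b, Lt.ti] [Lt.a, Lt.ti, Lt.ai] (pat hy (rf_16 hy) 1 rfl) h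
      · rcases brec_true h with h | h
        · exact mRel_good (T := T) hM0 [Lt.ai, Lt.c, Lt.bi] [Lt.bi, Lt.ci, Lt.ai] (pat hy (rf_8 hy) 2 rfl) h
        · exact mRel_good (T := T) hM0 [Lt.ai, Lt.t] [Lt.ti, Lt.ai, Lt.t, Lt.bi, Lt.ti, Lt.ti, Lt.b] (pat hy (rf_16 hy) 0 rfl) h
    · rcases brec_true h with h | h
      · exact mRel_good (T := T) hM0 [Lt.ci, Lt.bi, Lt.ai] [Lt.ai, Lt.bi, Lt.c] (pat hy (rb_7 hy) 2 rfl) h
      · rcases brec_true h with h | h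
        · exact mRel_good (T := T) hM0 [Lt.ti, Lt.ai, Lt.t] [Lt.ai, Lt.t, Lt.bi, Lt.t, Lt.t, Lt.b] (pat hy (rb_16 hy) 0 rfl) h
        · exact mRel_good (T := T) hM0 [Lt.ai, Lt.ci] [Lt.b, Lt.c, Lt.ai, Lt.bi] (pat hy (rb_7 hy) 4 rfl) h
theorem dM_39_s (hy : Hy g H) (j z1 z2 u : ℕ) (h : dM_39 j z1 z2 u = true) : GdM g H u := by
  unfold dM_39 at h
  rcases brec_true h with h | h
  · exact dM_37_s hy j z1 z2 u h
  · exact dM_38_s hy j z1 z2 u h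
theorem dM_40_s (hy : Hy g H) (j z1 z2 u : ℕ) (h : dM_40 j z1 z2 u = true) : GdM g H u := by
  unfold dM_40 at h
  rcases brec_true h with h | h
  · exact dM_36_s hy j z1 z2 u h
  · exact dM_39_s hy j z1 z2 u h
theorem dM_41_s (hy : Hy g H) (j z1 z2 u : ℕ) (h : dM_41 j z1 z2 u = true) : GdM g H u := by
  unfold dM_41 at h
  rcases brec_true h with h | h
  · rcases brec_true h with h | h
    · rcases brec_true h with h | h
      · exact mRel_good (T := T) hM0 [Lt.ci, Lt.ti] [Lt.t, Lt.ai, Lt.ci, Lt.ti, Lt.ci, Lt.ti, Lt.ai] (pat hy (rf_11 hy) 1 rfl) h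
      · rcases brec_true h with h | h
        · exact mRel_good (T := T) hM0 [Lt.ti, Lt.ti, Lt.c, Lt.ti, Lt.ci, Lt.t, Lt.t] [Lt.ci, Lt.ci] (pat hy (rf_17 hy) 0 rfl) h
        · exact mRel_good (T := T) hM0 [Lt.b, Lt.ti, Lt.ci, Lt.ti, Lt.b] [Lt.ti, Lt.ci, Lt.ti, Lt.ci] (pat hy (rf_14 hy) 3 rfl) h
    · rcases brec_true h with h | h
      · exact mRel_good (T := T) hM0 [Lt.ti, Lt.a] [Lt.bi, Lt.t, Lt.t, Lt.b, Lt.ti, Lt.a, Lt.t] (pat hy (rb_16 hy) 7 rfl) h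
      · rcases brec_true h with h | h
        · exact mRel_good (T := T) hM0 [Lt.b, Lt.ci, Lt.a, Lt.bi, Lt.ci] [Lt.a] (pat hy (rb_8 hy) 1 rfl) h
        · exact mRel_good (T := T) hM0 [Lt.a, Lt.ti, Lt.ci, Lt.ti] [Lt.ti, Lt.ci, Lt.ti, Lt.ai, Lt.ci] (pat hy (rf_15 hy) 3 rfl) h
  · rcases brec_true h with h | h
    · rcases brec_true h with h | h
      · exact mRel_good (T := T) hM0 [Lt.c, Lt.c, Lt.t] [Lt.t, Lt.c, Lt.ti, Lt.c, Lt.c, Lt.ti] (pat hy (rf_9 hy) 5 rfl) h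
      · rcases brec_true h with h | h
        · exact mRel_good (T := T) hM0 [Lt.c, Lt.ai, Lt.bi, Lt.c, Lt.a, Lt.b] [] (pat hy (rf_7 hy) 3 rfl) h
        · exact mRel_good (T := T) hM0 [Lt.b, Lt.ci, Lt.a, Lt.bi, Lt.ci, Lt.ai] [] (pat hy (rb_8 hy) 1 rfl) h
    · rcases brec_true h with h | h
      · exact mRel_good (T := T) hM0 [Lt.ai] [Lt.ti, Lt.ci, Lt.ti, Lt.c, Lt.a, Lt.t, Lt.c, Lt.t] (pat hy (rb_15 hy) 5 rfl) h
      · rcases brec_true h with h | h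
        · exact mRel_good (T := T) hM0 [Lt.a, Lt.t, Lt.ai, Lt.t, Lt.bi, Lt.t] [Lt.t, Lt.bi, Lt.ti] (pat hy (rf_16 hy) 7 rfl) h
        · exact mRel_good (T := T) hM0 [Lt.ci, Lt.t, Lt.t, Lt.c, Lt.c, Lt.ti] [Lt.t, Lt.ci, Lt.t] (pat hy (rf_17 hy) 4 rfl) h
theorem dM_42_s (hy : Hy g H) (j z1 z2 u : ℕ) (h : dM_42 j z1 z2 u = true) : GdM g H u := by
  unfold dM_42 at h
  rcases brec_true h with h | h
  · rcases brec_true h with h | h
    · rcases brec_true h with h | h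
      · exact mRel_good (T := T) hM0 [Lt.ci, Lt.bi, Lt.t, Lt.c, Lt.t, Lt.bi, Lt.ti] [Lt.t, Lt.c] (pat hy (rb_14 hy) 0 rfl) h
      · rcases brec_true h with h | h
        · exact mRel_good (T := T) hM0 [Lt.ci, Lt.ti, Lt.b, Lt.t] [Lt.t, Lt.bi, Lt.ci, Lt.ti, Lt.ci] (pat hy (rf_10 hy) 1 rfl) h
        · exact mRel_good (T := T) hM0 [Lt.bi, Lt.t, Lt.bi, Lt.t] [Lt.ti, Lt.zi, Lt.b, Lt.ti, Lt.b] (pat hy (rb_12 hy) 2 rfl) h
    · rcases brec_true h with h | h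
      · exact mRel_good (T := T) hM0 [Lt.bi, Lt.bi, Lt.bi, Lt.bi] [Lt.b] (pat hy (rb_5 hy) 0 rfl) h
      · rcases brec_true h with h | h
        · exact mRel_good (T := T) hM0 [Lt.a, Lt.ti] [Lt.t, Lt.bi, Lt.t, Lt.t, Lt.b, Lt.ti, Lt.a] (pat hy (rb_16 hy) 8 rfl) h
        · exact mRel_good (T := T) hM0 [Lt.ti, Lt.c] [Lt.t, Lt.ci, Lt.ci, Lt.ti, Lt.ti, Lt.c, Lt.t] (pat hy (rf_17 hy) 1 rfl) h
  · rcases brec_true h with h | h
    · rcases brec_true h with h | h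
      · exact mRel_good (T := T) hM0 [Lt.ti, Lt.ti, Lt.ci] [Lt.ci, Lt.ci, Lt.t, Lt.ci, Lt.ti, Lt.c] (pat hy (rb_9 hy) 0 rfl) h
      · rcases brec_true h with h | h
        · exact mRel_good (T := T) hM0 [Lt.c, Lt.c] [Lt.bi, Lt.ai, Lt.b, Lt.a] (pat hy (rf_6 hy) 0 rfl) h
        · exact mRel_good (T := T) hM0 [Lt.t, Lt.bi, Lt.ti] [Lt.ci, Lt.ti, Lt.b, Lt.c, Lt.t, Lt.c] (pat hy (rb_14 hy) 4 rfl) h
    · rcases brec_true h with h | h
      · exact mRel_good (T := T) hM0 [Lt.bi, Lt.a, Lt.c, Lt.b, Lt.ai, Lt.c] [] (pat hy (rf_8 hy) 4 rfl) h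
      · rcases brec_true h with h | h
        · exact mRel_good (T := T) hM0 [Lt.zi, Lt.ci, Lt.z] [Lt.ci] (pat hy (rf_3 hy) 2 rfl) h
        · exact mRel_good (T := T) hM0 [Lt.ti, Lt.z] [Lt.z, Lt.ti] (pat hy (rf_0 hy) 3 rfl) h
theorem dM_43_s (hy : Hy g H) (j z1 z2 u : ℕ) (h : dM_43 j z1 z2 u = true) : GdM g H u := by
  unfold dM_43 at h
  rcases brec_true h with h | h
  · exact dM_41_s hy j z1 z2 u h
  · exact dM_42_s hy j z1 z2 u h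
theorem dM_44_s (hy : Hy g H) (j z1 z2 u : ℕ) (h : dM_44 j z1 z2 u = true) : GdM g H u := by
  unfold dM_44 at h
  rcases brec_true h with h | h
  · rcases brec_true h with h | h
    · rcases brec_true h with h | h
      · exact mRel_good (T := T) hM0 [Lt.zi, Lt.c, Lt.z] [Lt.c] (pat hy (rb_3 hy) 3 rfl) h
      · rcases brec_true h with h | h
        · exact mRel_good (T := T) hM0 [Lt.t, Lt.ci, Lt.t] [Lt.ci, Lt.t, Lt.t, Lt.c, Lt.c, Lt.ti] (pat hy (rb_17 hy) 5 rfl) h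
        · exact mRel_good (T := T) hM0 [Lt.c, Lt.t, Lt.c, Lt.t] [Lt.bi, Lt.t, Lt.c, Lt.t, Lt.bi] (pat hy (rf_14 hy) 8 rfl) h
    · rcases brec_true h with h | h
      · exact mRel_good (T := T) hM0 [Lt.b, Lt.c, Lt.ai] [Lt.ai, Lt.ci, Lt.b] (pat hy (rf_7 hy) 2 rfl) h
      · rcases brec_true h with h | h
        · exact mRel_good (T := T) hM0 [Lt.t, Lt.t, Lt.ci, Lt.ci, Lt.ti, Lt.ti] [Lt.c, Lt.ti, Lt.ci] (pat hy (rb_17 hy) 7 rfl) h
        · exact mRel_good (T := T) hM0 [Lt.b, Lt.zi] [Lt.zi, Lt.b] (pat hy (rf_1 hy) 1 rfl) h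
  · rcases brec_true h with h | h
    · rcases brec_true h with h | h
      · exact mRel_good (T := T) hM0 [Lt.zi, Lt.t] [Lt.t, Lt.zi] (pat hy (rb_0 hy) 3 rfl) h
      · rcases brec_true h with h | h
        · exact mRel_good (T := T) hM0 [Lt.ci, Lt.t, Lt.t, Lt.c, Lt.c, Lt.ti, Lt.ti, Lt.c] [Lt.t] (pat hy (rf_17 hy) 4 rfl) h
        · exact mRel_good (T := T) hM0 [Lt.b, Lt.ti, Lt.a, Lt.t, Lt.ai] [Lt.ti, Lt.ti, Lt.b, Lt.ti] (pat hy (rf_16 hy) 5 rfl) h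
    · rcases brec_true h with h | h
      · exact mRel_good (T := T) hM0 [Lt.t, Lt.t] [Lt.ci, Lt.ci, Lt.t, Lt.c, Lt.ti, Lt.c, Lt.c] (pat hy (rf_9 hy) 7 rfl) h
      · rcases brec_true h with h | h
        · exact mRel_good (T := T) hM0 [Lt.ti, Lt.ti, Lt.b] [Lt.b, Lt.ti, Lt.a, Lt.t, Lt.ai, Lt.t] (pat hy (rb_16 hy) 4 rfl) h
        · exact mRel_good (T := T) hM0 [Lt.a, Lt.ti, Lt.ai, Lt.t, Lt.bi, Lt.ti, Lt.ti] [Lt.t, Lt.bi] (pat hy (rb_16 hy) 8 rfl) h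
theorem dM_45_s (hy : Hy g H) (j z1 z2 u : ℕ) (h : dM_45 j z1 z2 u = true) : GdM g H u := by
  unfold dM_45 at h
  rcases brec_true h with h | h
  · rcases brec_true h with h | h
    · rcases brec_true h with h | h
      · exact mRel_good (T := T) hM0 [Lt.z, Lt.t] [Lt.t, Lt.z] (pat hy (rf_0 hy) 0 rfl) h
      · rcases brec_true h with h | h
        · exact mRel_good (T := T) hM0 [Lt.ti, Lt.bi, Lt.t, Lt.c, Lt.t, Lt.bi, Lt.ci, Lt.ti] [Lt.c] (pat hy (rb_10 hy) 4 rfl) h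
        · exact mRel_good (T := T) hM0 [Lt.t, Lt.c, Lt.b, Lt.ti, Lt.ci, Lt.ti] [Lt.ci, Lt.ti, Lt.bi] (pat hy (rf_10 hy) 6 rfl) h
    · rcases brec_true h with h | h
      · exact mRel_good (T := T) hM0 [Lt.bi, Lt.ti, Lt.ti, Lt.b] [Lt.ti, Lt.a, Lt.t, Lt.ai, Lt.t] (pat hy (rb_16 hy) 3 rfl) h
      · rcases brec_true h with h | h
        · exact mRel_good (T := T) hM0 [Lt.bi, Lt.t, Lt.t, Lt.b, Lt.ti, Lt.a] [Lt.ti, Lt.a, Lt.ti] (pat hy (rf_16 hy) 2 rfl) h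
        · exact mRel_good (T := T) hM0 [Lt.a, Lt.ci, Lt.ci, Lt.bi] [Lt.bi, Lt.a] (pat hy (rb_6 hy) 3 rfl) h
  · rcases brec_true h with h | h
    · rcases brec_true h with h | h
      · exact mRel_good (T := T) hM0 [Lt.b, Lt.t, Lt.c, Lt.t, Lt.c, Lt.b, Lt.ti, Lt.ci] [Lt.t] (pat hy (rf_10 hy) 3 rfl) h
      · rcases brec_true h with h | h
        · exact mRel_good (T := T) hM0 [Lt.b, Lt.b, Lt.b, Lt.b] [Lt.bi] (pat hy (rf_5 hy) 0 rfl) h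
        · exact mRel_good (T := T) hM0 [Lt.bi, Lt.ci, Lt.ai, Lt.b, Lt.ci] [Lt.ai] (pat hy (rb_8 hy) 4 rfl) h
    · rcases brec_true h with h | h
      · exact mRel_good (T := T) hM0 [Lt.ti, Lt.ti, Lt.ci, Lt.ci, Lt.t, Lt.c] [Lt.ci, Lt.ci, Lt.t] (pat hy (rb_9 hy) 0 rfl) h
      · rcases brec_true h with h | h
        · exact mRel_good (T := T) hM0 [Lt.b, Lt.ti, Lt.ci] [Lt.ti, Lt.ci, Lt.ti, Lt.bi, Lt.ci, Lt.t] (pat hy (rf_13 hy) 3 rfl) h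
        · exact mRel_good (T := T) hM0 [Lt.ti, Lt.b, Lt.ti, Lt.b, Lt.ti, Lt.b] [Lt.bi, Lt.z, Lt.t] (pat hy (rf_12 hy) 1 rfl) h
theorem dM_46_s (hy : Hy g H) (j z1 z2 u : ℕ) (h : dM_46 j z1 z2 u = true) : GdM g H u := by
  unfold dM_46 at h
  rcases brec_true h with h | h
  · exact dM_44_s hy j z1 z2 u h
  · exact dM_45_s hy j z1 z2 u h
theorem dM_47_s (hy : Hy g H) (j z1 z2 u : ℕ) (h : dM_47 j z1 z2 u = true) : GdM g H u := by
  unfold dM_47 at h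
  rcases brec_true h with h | h
  · exact dM_43_s hy j z1 z2 u h
  · exact dM_46_s hy j z1 z2 u h
theorem dM_48_s (hy : Hy g H) (j z1 z2 u : ℕ) (h : dM_48 j z1 z2 u = true) : GdM g H u := by
  unfold dM_48 at h
  rcases brec_true h with h | h
  · exact dM_40_s hy j z1 z2 u h
  · exact dM_47_s hy j z1 z2 u h
theorem dM_49_s (hy : Hy g H) (j z1 z2 u : ℕ) (h : dM_49 j z1 z2 u = true) : GdM g H u := by
  unfold dM_49 at h
  rcases brec_true h with h | h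
  · exact dM_33_s hy j z1 z2 u h
  · exact dM_48_s hy j z1 z2 u h
theorem dM_50_s (hy : Hy g H) (j z1 z2 u : ℕ) (h : dM_50 j z1 z2 u = true) : GdM g H u := by
  unfold dM_50 at h
  rcases brec_true h with h | h
  · exact dM_18_s hy j z1 z2 u h
  · exact dM_49_s hy j z1 z2 u h
theorem dM_51_s (hy : Hy g H) (j z1 z2 u : ℕ) (h : dM_51 j z1 z2 u = true) : GdM g H u := by
  unfold dM_51 at h
  rcases brec_true h with h | h
  · exact dM_1_s hy j z1 z2 u h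
  · exact dM_50_s hy j z1 z2 u h
theorem dM_52_s (hy : Hy g H) (j z1 z2 u : ℕ) (h : dM_52 j z1 z2 u = true) : GdM g H u := by
  unfold dM_52 at h
  rcases brec_true h with h | h
  · exact dM_0_s hy j z1 z2 u h
  · exact dM_51_s hy j z1 z2 u h
theorem sndM (hy : Hy g H) (u : ℕ) (h : chkM u = true) :
    MG u < A → MG u % M < u ∧ GdM g H u := by
  intro hA
  unfold chkM at h
  cases hb : Nat.ble A (MG u) with
  | true => exact absurd (le_of_ble hb) (by omega)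
  | false =>
    rw [hb] at h
    obtain ⟨h1, h2⟩ := band_eq_true.1 h
    exact ⟨le_of_ble h1, dM_52_s hy _ _ _ _ h2⟩
theorem sndN (hy : Hy g H)
    (u : ℕ) (hu : u < M) (h : chkP u = true) : (∀ x, (T x u < A ∧ Gd g H x u) ∨ (A ≤ T x u ∧ MG u < A)) ∧ (MG u < A → MG u % M < u ∧ GdM g H u) := by
  unfold chkP at h
  cases hb : Nat.ble M u with
  | true => exact absurd (le_of_ble hb) (by omega)
  | false =>
    rw [hb] at h
    change chkN u = true at h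
    unfold chkN at h
    obtain ⟨h0, h⟩ := band_eq_true.1 h
    obtain ⟨h1, h⟩ := band_eq_true.1 h
    obtain ⟨h2, h⟩ := band_eq_true.1 h
    obtain ⟨h3, h⟩ := band_eq_true.1 h
    obtain ⟨h4, h⟩ := band_eq_true.1 h
    obtain ⟨h5, h⟩ := band_eq_true.1 h
    obtain ⟨h6, h⟩ := band_eq_true.1 h
    obtain ⟨h7, h⟩ := band_eq_true.1 h
    obtain ⟨h8, h⟩ := band_eq_true.1 h
    obtain ⟨h9, h⟩ := band_eq_true.1 h
    refine ⟨?_, sndM hy u h⟩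
    intro x
    cases x
    · exact snc_c hy _ u hu h0
    · exact snc_ci hy _ u hu h1
    · exact snc_a hy _ u hu h2
    · exact snc_ai hy _ u hu h3
    · exact snc_b hy _ u hu h4
    · exact snc_bi hy _ u hu h5
    · exact snc_t hy _ u hu h6
    · exact snc_ti hy _ u hu h7
    · exact snc_z hy _ u hu h8
    · exact snc_zi hy _ u hu h9
theorem final (hinv : ∀ x, g (inv x) = (g x)⁻¹) (hr : ∀ r ∈ rels, (r.map g).prod = 1) (hH : ∀ r ∈ subs, (r.map g).prod ∈ H)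
    (hall : ∀ u, u < M → chkP u = true) (hc : cntB liveP 12 0 = 1008) :
    H.relIndex (Subgroup.closure (Set.range g)) ≤ 1008 ∧ H.relIndex (Subgroup.closure (Set.range g)) ≠ 0 := by
  have hn := fun u hu => sndN ⟨hinv, hr, hH⟩ u hu (hall u hu)
  have h1 : ∀ x u, u < M → T x u < A → Good (fa g) T MG M (cP g H) x u := by
    intro x u hu hx
    rcases (hn u hu).1 x with h | h
    · exact h.2
    · exact absurd h.1 (by omega)
  have h2 : ∀ u, u < M → MG u < A → GoodM (fa g) T MG M (cP g H) u := fun u hu h => ((hn u hu).2 h).2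
  refine relIndex_le (M := M) (A := A) (T := T) (MG := MG) (c := cP g H) (by decide) cc_zero (sound_of_good h1 h2) ?_ ?_ ?_
  · intro u hu h
    exact ((hn u hu).2 h).1
  · intro x u hu h
    rcases (hn u hu).1 x with h' | h'
    · exact h'.1
    · exact absurd h'.2 (by omega)
  · rw [← hc, ← cntB_spec]
    apply Finset.card_le_card
    intro u
    simp only [Finset.mem_filter, Finset.mem_Ico]
    rintro ⟨⟨_, h3⟩, h4⟩
    refine ⟨⟨Nat.zero_le _, lt_of_lt_of_le h3 (by decide)⟩, ?_⟩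
    unfold liveP
    cases hb : Nat.ble M u with
    | true => exact absurd (le_of_ble hb) (by omega)
    | false => exact h4
end
end H64.TCHSB
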